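import Mathlib.Tactic
import Mathlib.Algebra.Algebra.Basic

/-!
Quaternion-algebra identities for elements `x` with `x² + x + 1 = 0`, in terms of `u = 2 x + 1`.
-/

namespace Cfsg.Agent.H21.Zass

variable {A : Type*} [Ring A]

/-- `x y + y x + x + y` commutes with `x`. -/
theorem commute_cval {x : A} (hx : x * x + x + 1 = 0) (y : A) :
    Commute (x * y + y * x + x + y) x := by
  have h : (x * y + y * x + x + y) * x - x * (x * y + y * x + x + y) =
      y * (x * x + x + 1) - (x * x + x + 1) * y := by noncomm_ring
  rw [hx, mul_zero, zero_mul, sub_zero, sub_eq_zero] at h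
  exact h

/-- `u = 2 x + 1` squares to `-3`. -/
theorem uvec_sq {x : A} (hx : x * x + x + 1 = 0) :
    (2 * x + 1) * (2 * x + 1) = -3 := by
  have h : (2 * x + 1) * (2 * x + 1) = 4 * (x * x + x + 1) - 3 := by noncomm_ring; norm_num
  rw [hx, mul_zero, zero_sub] at h
  exact h

/-- The anticommutator of the `u`-vectors. -/
theorem uvec_anticomm (x y : A) :
    (2 * x + 1) * (2 * y + 1) + (2 * y + 1) * (2 * x + 1) = 4 * (x * y + y * x + x + y) + 2 := by
  noncomm_ring; norm_num; abel

/-- `(x y)² = -1` forces `x y + y x + x + y = -1`. -/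
theorem cval_of_plus {x y : A} (hx : x * x + x + 1 = 0) (hy : y * y + y + 1 = 0)
    (h : (x * y) * (x * y) = -1) : x * y + y * x + x + y = -1 := by
  have hy2 : y * y = -1 - y := by
    rw [← sub_eq_zero, ← hy]; noncomm_ring
  have hx2 : x * x = -1 - x := by
    rw [← sub_eq_zero, ← hx]; noncomm_ring
  have hx3 : (x * x) * x = 1 := by rw [hx2]; rw [sub_mul, neg_one_mul, hx2]; noncomm_ring
  have hy3 : (y * y) * y = 1 := by rw [hy2]; rw [sub_mul, neg_one_mul, hy2]; noncomm_ring
  have h1 : (y * y) * (x * x) = -(x * y) :=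
    calc (y * y) * (x * x) = (y * y) * (x * x) * -((x * y) * (x * y)) := by rw [h, neg_neg, mul_one]
      _ = -((y * y) * ((x * x) * x) * y * (x * y)) := by noncomm_ring
      _ = _ := by rw [hx3, mul_one, hy3, one_mul]
  rw [hy2, hx2] at h1
  calc x * y + y * x + x + y = (-1 - y) * (-1 - x) - -(x * y) - 1 := by noncomm_ring
    _ = -1 := by rw [h1]; noncomm_ring

/-- `(x y⁻¹)² = -1` forces `x y + y x + x + y = 0`. -/
theorem cval_of_minus {x y : A} (hx : x * x + x + 1 = 0) (hy : y * y + y + 1 = 0)
    (h : (x * (y * y)) * (x * (y * y)) = -1) : x * y + y * x + x + y = 0 := by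
  have hy' : (y * y) * (y * y) + y * y + 1 = 0 := by
    have : (y * y) * (y * y) + y * y + 1 = (y * y - y + 1) * (y * y + y + 1) := by noncomm_ring
    rw [this, hy, mul_zero]
  have h1 := cval_of_plus hx hy' h
  have hy2 : y * y = -1 - y := by
    rw [← sub_eq_zero, ← hy]; noncomm_ring
  rw [hy2] at h1
  calc x * y + y * x + x + y = -(x * (-1 - y) + (-1 - y) * x + x + (-1 - y)) - 1 := by noncomm_ring
    _ = 0 := by rw [h1]; noncomm_ring

/-- A fifth root of unity other than `1`: `(h + h⁻¹)² + (h + h⁻¹) = 1`. -/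
theorem five_relation {h : A} (h5 : h * h * h * h * h = 1) (hu : IsUnit (h - 1)) :
    (h + h * h * h * h) * (h + h * h * h * h) + (h + h * h * h * h) = 1 := by
  have h1 : (h - 1) * (1 + h + h * h + h * h * h + h * h * h * h) = 0 := by
    have : (h - 1) * (1 + h + h * h + h * h * h + h * h * h * h) = h * h * h * h * h - 1 := by
      noncomm_ring
    rw [this, h5, sub_self]
  rw [hu.mul_right_eq_zero] at h1
  have h2 : (h + h * h * h * h) * (h + h * h * h * h) =
      h * h + 2 * (h * h * h * h * h) + (h * h * h * h * h) * (h * h * h) := by noncomm_ring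
  rw [h2, h5, one_mul, mul_one, ← sub_eq_zero, ← h1, show (2 : A) = 1 + 1 from (one_add_one_eq_two).symm]
  noncomm_ring

variable {k : Type*} [Field k] [Algebra k A]

section Span

variable {u v : A} {γ : k}

/-- The commutator of `u` and `v`. -/
def nvec (u v : A) : A := u * v - v * u

theorem nvec_anticomm_left (hu : u * u = -3) : nvec u v * u + u * nvec u v = 0 := by
  have : nvec u v * u + u * nvec u v = (u * u) * v - v * (u * u) := by rw [nvec]; noncomm_ring
  rw [this, hu]; noncomm_ring

theorem nvec_anticomm_right (hv : v * v = -3) : nvec u v * v + v * nvec u v = 0 := by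
  have : nvec u v * v + v * nvec u v = u * (v * v) - (v * v) * u := by rw [nvec]; noncomm_ring
  rw [this, hv]; noncomm_ring

theorem nvec_sq (hu : u * u = -3) (hv : v * v = -3) (hγ : u * v + v * u = γ • (1 : A)) :
    nvec u v * nvec u v = (γ ^ 2 - 36) • (1 : A) := by
  have : nvec u v * nvec u v = (u * v + v * u) * (u * v + v * u) -
      2 * (u * (v * v) * u + v * (u * u) * v) := by rw [nvec]; noncomm_ring
  rw [this, hγ, hu, hv, smul_mul_smul_comm, one_mul, ← sq, sub_smul]
  have h2 : (2 : A) * (u * -3 * u + v * -3 * v) = -6 * (u * u + v * v) := by noncomm_ring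
  rw [h2, hu, hv]
  have h3 : (36 : k) • (1 : A) = 36 := by rw [← Algebra.algebraMap_eq_smul_one, map_ofNat]
  rw [h3]
  norm_num

/-- An element with scalar anticommutators against `u`, `v` and their commutator lies in their
span. -/
theorem mem_span_of_anticomm (hu : u * u = -3) (hv : v * v = -3)
    (hγ : u * v + v * u = γ • (1 : A)) (hD : γ ^ 2 - 36 ≠ 0) (h2 : (2 : k) ≠ 0) {s : A} {a b c : k}
    (ha : s * u + u * s = a • (1 : A)) (hb : s * v + v * s = b • (1 : A))
    (hc : s * nvec u v + nvec u v * s = c • (1 : A)) :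
    s = ((6 * a + γ * b) / (γ ^ 2 - 36)) • u + ((γ * a + 6 * b) / (γ ^ 2 - 36)) • v +
      (c / (2 * (γ ^ 2 - 36))) • nvec u v := by
  set α := (6 * a + γ * b) / (γ ^ 2 - 36) with hα
  set β := (γ * a + 6 * b) / (γ ^ 2 - 36) with hβ
  set δ := c / (2 * (γ ^ 2 - 36)) with hδ
  set N := nvec u v with hN
  set w := s - α • u - β • v - δ • N with hw
  have h3 : (-3 : A) = (-3 : k) • 1 := by
    rw [← Algebra.algebraMap_eq_smul_one, map_neg, map_ofNat]
  have e1 : ∀ t : A, w * t + t * w = (s * t + t * s) - α • (u * t + t * u) - β • (v * t + t * v) -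
      δ • (N * t + t * N) := by
    intro t
    simp only [hw, sub_mul, mul_sub, smul_mul_assoc, mul_smul_comm]
    module
  have hwu : w * u + u * w = 0 := by
    rw [e1, ha, hu, nvec_anticomm_left hu, show v * u + u * v = γ • (1 : A) by rw [add_comm, hγ], h3]
    match_scalars
    rw [hα, hβ]; field_simp; ring
  have hwv : w * v + v * w = 0 := by
    rw [e1, hb, hv, nvec_anticomm_right hv, hγ, h3]
    match_scalars
    rw [hα, hβ]; field_simp; ring
  have hwN : w * N + N * w = 0 := by
    rw [e1, hc, add_comm (u * N), nvec_anticomm_left hu, add_comm (v * N), nvec_anticomm_right hv,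
      hN, nvec_sq hu hv hγ]
    match_scalars
    rw [hδ]; field_simp; ring
  have hcomm : w * N = N * w := by
    have : w * N - N * w = (w * u + u * w) * v - u * (w * v + v * w) -
        (w * v + v * w) * u + v * (w * u + u * w) := by rw [hN, nvec]; noncomm_ring
    rw [hwu, hwv] at this
    simpa [sub_eq_zero] using this
  have h0 : w * (N * N) = 0 := by
    rw [← hcomm, ← two_smul k (w * N), smul_eq_zero_iff_right h2] at hwN
    rw [← mul_assoc, hwN, zero_mul]
  rw [hN, nvec_sq hu hv hγ, mul_smul_comm, mul_one, smul_eq_zero_iff_right hD] at h0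
  rw [hw] at h0
  calc s = (s - α • u - β • v - δ • N) + α • u + β • v + δ • N := by abel
    _ = _ := by rw [h0, zero_add]

/-- The anticommutator with the commutator of `u`, `v` commutes with `u`. -/
theorem commute_omega_left (hu : u * u = -3) {s : A} {a : k}
    (ha : s * u + u * s = a • (1 : A)) : Commute (s * nvec u v + nvec u v * s) u := by
  have h : (s * nvec u v + nvec u v * s) * u - u * (s * nvec u v + nvec u v * s) =
      s * (nvec u v * u + u * nvec u v) - (s * u + u * s) * nvec u v +
      nvec u v * (s * u + u * s) - (nvec u v * u + u * nvec u v) * s := by noncomm_ring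
  rw [nvec_anticomm_left hu, ha, smul_mul_assoc, mul_smul_comm, one_mul, mul_one, mul_zero, zero_mul,
    zero_sub, sub_zero, neg_add_cancel, sub_eq_zero] at h
  exact h

theorem commute_omega_right (hv : v * v = -3) {s : A} {b : k}
    (hb : s * v + v * s = b • (1 : A)) : Commute (s * nvec u v + nvec u v * s) v := by
  have h : (s * nvec u v + nvec u v * s) * v - v * (s * nvec u v + nvec u v * s) =
      s * (nvec u v * v + v * nvec u v) - (s * v + v * s) * nvec u v +
      nvec u v * (s * v + v * s) - (nvec u v * v + v * nvec u v) * s := by noncomm_ring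
  rw [nvec_anticomm_right hv, hb, smul_mul_assoc, mul_smul_comm, one_mul, mul_one, mul_zero, zero_mul,
    zero_sub, sub_zero, neg_add_cancel, sub_eq_zero] at h
  exact h

theorem commute_omega_self {s : A} (hs : s * s = -3) :
    Commute (s * nvec u v + nvec u v * s) s := by
  have h : (s * nvec u v + nvec u v * s) * s - s * (s * nvec u v + nvec u v * s) =
      nvec u v * (s * s) - (s * s) * nvec u v := by noncomm_ring
  rw [hs] at h
  refine sub_eq_zero.mp (h.trans ?_)
  noncomm_ring

/-- The `u`-vector of `x a x⁻¹`, times four. -/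
theorem conj_uvec {x a : A} (hx : x * x + x + 1 = 0)
    (hγ : (2 * x + 1) * (2 * a + 1) + (2 * a + 1) * (2 * x + 1) = γ • (1 : A)) :
    4 * (2 * (x * a * (x * x)) + 1) + 2 * (2 * a + 1) + γ • (2 * x + 1) =
      -nvec (2 * x + 1) (2 * a + 1) ∧
    4 * (2 * ((x * x) * a * x) + 1) + 2 * (2 * a + 1) + γ • (2 * x + 1) =
      nvec (2 * x + 1) (2 * a + 1) := by
  set u := 2 * x + 1 with hu
  set v := 2 * a + 1 with hv
  have hu2 : u * u = -3 := uvec_sq hx
  have hx3 : x * x * x = 1 := by
    have : x * x * x - 1 = (x - 1) * (x * x + x + 1) := by noncomm_ring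
    rwa [hx, mul_zero, sub_eq_zero] at this
  have huvu : u * v * u = γ • u + 3 * v := by
    have : u * v * u = (u * v + v * u) * u - v * (u * u) := by noncomm_ring
    rw [this, hγ, hu2, smul_mul_assoc, one_mul]; noncomm_ring
  constructor
  · have e : 4 * (2 * (x * a * (x * x)) + 1) = 4 * (x * v * (x * x)) - 4 * (x * x * x) + 4 := by
      rw [hv]; noncomm_ring; norm_num
    have e2 : 4 * (x * v * (x * x)) = (u - 1) * v * (-u - 1) +
        4 * (x * v * (x * x + x + 1)) - 2 * (v * (x * x + x + 1)) + 2 * (v * (x * x + x + 1)) := by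
      rw [hu]; noncomm_ring
    rw [e, hx3, e2, hx]
    have e3 : (u - 1) * v * (-u - 1) = v - u * v + v * u - u * v * u := by noncomm_ring
    rw [e3, huvu, nvec]
    noncomm_ring; norm_num
  · have e : 4 * (2 * ((x * x) * a * x) + 1) = 4 * ((x * x) * v * x) - 4 * (x * x * x) + 4 := by
      rw [hv]; noncomm_ring; norm_num
    have e2 : 4 * ((x * x) * v * x) = (-u - 1) * v * (u - 1) + 4 * ((x * x + x + 1) * v * x) := by
      rw [hu]; noncomm_ring
    rw [e, hx3, e2, hx]
    have e3 : (-u - 1) * v * (u - 1) = v + u * v - v * u - u * v * u := by noncomm_ring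
    rw [e3, huvu, nvec]
    noncomm_ring; norm_num

end Span

section Clique

/-- The four-clique computation, main identity. -/
theorem clique_main {p m p' m' : A} (hp : p * p = -8) (hm : m * m = -4) (hp' : p' * p' = -8)
    (hm' : m' * m' = -4) (hpp : p * p' + p' * p = -8) (hpm : p * m + m * p = 0)
    (hpm' : p * m' + m' * p = 0) (hp'm : p' * m + m * p' = 0) (hp'm' : p' * m' + m' * p' = 0)
    (hmm : m * m' + m' * m = 0) :
    let L := p * p' - p' * p
    let X := 2 * m' - 2 * m - m * m'
    4 * ((p * (2 + m)) * (p' * (2 + m')) + (p' * (2 + m')) * (p * (2 + m))) = 4 * (-32) + 4 * (L * X) ∧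
      (L * X) * (L * X) = 9216 ∧ p * L = -(L * p) ∧ L * L = -192 ∧ p * X + X * p = -2 * (p * (m * m')) := by
  intro L X
  have sm : ∀ {a b : A}, a * b + b * a = 0 → a * b = -(b * a) := fun h => eq_neg_of_add_eq_zero_left h
  have e1 := sm hpm; have e2 := sm hpm'; have e3 := sm hp'm; have e4 := sm hp'm'; have e5 := sm hmm
  have e1' : m * p = -(p * m) := by rw [e1, neg_neg]
  have e2' : m' * p = -(p * m') := by rw [e2, neg_neg]
  have e3' : m * p' = -(p' * m) := by rw [e3, neg_neg]
  have e4' : m' * p' = -(p' * m') := by rw [e4, neg_neg]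
  have e5' : m' * m = -(m * m') := by rw [e5, neg_neg]
  have hLm : m * L = L * m := by
    calc m * L = (m * p) * p' - (m * p') * p := by simp only [L]; noncomm_ring
      _ = -(p * (m * p')) + p' * (m * p) := by
          conv_lhs => rw [e1', e3']
          noncomm_ring
      _ = L * m := by
          conv_lhs => rw [e1', e3']
          simp only [L]; noncomm_ring
  have hLm' : m' * L = L * m' := by
    calc m' * L = (m' * p) * p' - (m' * p') * p := by simp only [L]; noncomm_ring
      _ = -(p * (m' * p')) + p' * (m' * p) := by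
          conv_lhs => rw [e2', e4']
          noncomm_ring
      _ = L * m' := by
          conv_lhs => rw [e2', e4']
          simp only [L]; noncomm_ring
  have hL2 : L * L = -192 := by
    have : L * L = (p * p' + p' * p) * (p * p' + p' * p) - 2 * (p * (p' * p') * p + p' * (p * p) * p') := by
      simp only [L]; noncomm_ring
    rw [this, hpp, hp, hp']
    have : (-8 : A) * -8 - 2 * (p * -8 * p + p' * -8 * p') = 64 + 16 * (p * p + p' * p') := by
      noncomm_ring; norm_num; abel
    rw [this, hp, hp']; norm_num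
  have hX : X * X = -48 := by
    have : X * X = 4 * (m' * m') + 4 * (m * m) - 4 * (m * m' + m' * m)
        - 2 * (m' * (m * m') + m * (m' * m')) + 2 * (m * m * m' + m * m' * m) + m * (m' * m) * m' := by
      simp only [X]; noncomm_ring
    rw [this, hm, hm', hmm, e5', ← mul_assoc m' m m', e5']
    have h2 : (-(m * m')) * m' = -(m * (m' * m')) := by noncomm_ring
    have h3 : m * m' * m = m * (m' * m) := by noncomm_ring
    rw [h2, hm', h3, e5']
    have h4 : m * -(m * m') = -(m * m * m') := by noncomm_ring
    rw [h4, hm]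
    have h5 : (-(-4 * m')) * m' = 4 * (m' * m') := by noncomm_ring
    rw [h5, hm']
    noncomm_ring; norm_num
  have hLX : Commute L X := by
    have h1 : Commute L m := hLm.symm
    have h2 : Commute L m' := hLm'.symm
    exact (((Commute.ofNat_right L 2).mul_right h2).sub_right
      ((Commute.ofNat_right L 2).mul_right h1)).sub_right (h1.mul_right h2)
  refine ⟨?_, ?_, ?_, hL2, ?_⟩
  · have q1 : p' * m' * p = -(p' * p * m') := by rw [mul_assoc, e2']; noncomm_ring
    have q2 : p * m * p' = -(p * p' * m) := by rw [mul_assoc, e3']; noncomm_ring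
    have q3 : p * m * (p' * m') = -(p * p' * (m * m')) := by
      rw [← mul_assoc (p * m), q2]; noncomm_ring
    have q4 : p' * m' * (p * m) = p' * p * (m * m') := by
      rw [← mul_assoc (p' * m'), q1, neg_mul, mul_assoc (p' * p), e5']; noncomm_ring
    calc 4 * ((p * (2 + m)) * (p' * (2 + m')) + (p' * (2 + m')) * (p * (2 + m)))
        = 16 * (p * p' + p' * p) + 8 * (p * p' * m' + p' * m' * p) + 8 * (p * m * p' + p' * p * m)
          + 4 * (p * m * (p' * m') + p' * m' * (p * m)) := by noncomm_ring
      _ = _ := by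
        rw [q1, q2, q3, q4, hpp]
        simp only [L, X]
        noncomm_ring; norm_num; abel
  · calc (L * X) * (L * X) = (L * L) * (X * X) := hLX.mul_mul_mul_comm L X |> fun _ => by
          rw [mul_assoc, ← mul_assoc X L X, ← hLX.eq]; noncomm_ring
      _ = 9216 := by rw [hL2, hX]; norm_num
  · have : p * L + L * p = (p * p) * p' - p' * (p * p) := by simp only [L]; noncomm_ring
    rw [hp] at this
    refine eq_neg_of_add_eq_zero_left (this.trans ?_)
    noncomm_ring
  · have : m * m' * p = p * (m * m') := by rw [mul_assoc, e2']; rw [mul_neg, ← mul_assoc, e1']; noncomm_ring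
    calc p * X + X * p = 2 * (p * m' + m' * p) - 2 * (p * m + m * p) - p * (m * m') - m * m' * p := by
          simp only [X]; noncomm_ring
      _ = _ := by rw [this, hpm, hpm']; noncomm_ring

end Clique

end Cfsg.Agent.H21.Zass
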