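import Cfsg.Agent.H21.Zassenhaus.Perfect

/-!
The centralizer of a normal binary icosahedral subgroup of a fixed-point-free linear group.
-/

namespace Cfsg.Agent.H21.Zass

/-- Pairs of elements of order 3 generating the alternating group of degree 5. -/
def IsFar {Q : Type*} [Group Q] (a b : Q) : Prop :=
  a * a * a = 1 ∧ a ≠ 1 ∧ b * b * b = 1 ∧ a * b ≠ b * a ∧ ¬ Rel a b

theorem card_three : Nat.card {a : alternatingGroup (Fin 5) // a * a * a = 1 ∧ a ≠ 1} = 20 := by
  rw [Nat.card_eq_fintype_card]; decide +kernel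

theorem card_far_base : Nat.card {b : alternatingGroup (Fin 5) //
    b * b * b = 1 ∧ base * b ≠ b * base ∧ ¬ Rel base b} = 6 := by
  rw [Nat.card_eq_fintype_card]; decide +kernel

theorem card_far : Nat.card {p : alternatingGroup (Fin 5) × alternatingGroup (Fin 5) //
    IsFar p.1 p.2} ≤ 120 := by
  classical
  let A := {a : alternatingGroup (Fin 5) // a * a * a = 1 ∧ a ≠ 1}
  let B : A → Type := fun a => {b : alternatingGroup (Fin 5) //
    b * b * b = 1 ∧ a.1 * b ≠ b * a.1 ∧ ¬ Rel a.1 b}
  have hB : ∀ a : A, Nat.card (B a) ≤ 6 := fun a => by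
    obtain ⟨g, hg⟩ := exists_conj_base a.1 a.2.1 a.2.2
    set e := MulAut.conj g
    have he : e a.1 = base := hg
    rw [← card_far_base]
    refine Nat.card_le_card_of_injective (fun b : B a => (⟨e b.1, ?_⟩ : {b : alternatingGroup (Fin 5) //
      b * b * b = 1 ∧ base * b ≠ b * base ∧ ¬ Rel base b})) fun b b' h => ?_
    · rw [← he, rel_map]
      exact ⟨by rw [← map_mul, ← map_mul, b.2.1, map_one],
        fun h => b.2.2.1 (e.injective (by rw [map_mul, map_mul, h])), b.2.2.2⟩
    · exact Subtype.ext (e.injective (congrArg Subtype.val h))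
  calc Nat.card {p : alternatingGroup (Fin 5) × alternatingGroup (Fin 5) // IsFar p.1 p.2}
      ≤ Nat.card (Σ a : A, B a) := Nat.card_le_card_of_injective
        (fun p => (⟨⟨p.1.1, p.2.1, p.2.2.1⟩, ⟨p.1.2, p.2.2.2⟩⟩ : Σ a : A, B a))
        fun p q h => Subtype.ext (Prod.ext (congrArg (fun s : Σ a : A, B a => s.1.1) h)
          (congrArg (fun s : Σ a : A, B a => s.2.1) h))
    _ = ∑ a : A, Nat.card (B a) := Nat.card_sigma
    _ ≤ ∑ _a : A, 6 := Finset.sum_le_sum fun a _ => hB a
    _ = 120 := by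
      rw [Finset.sum_const, Finset.card_univ, ← Nat.card_eq_fintype_card, card_three, smul_eq_mul]

variable {k : Type*} [Field k] [IsAlgClosed k] {V : Type*} [AddCommGroup V] [Module k V]
  [FiniteDimensional k V] [Nontrivial V] {G : Type*} [Group G] [Finite G]
  {ρ : G →* Module.End k V}

/-- A far pair generates the cover. -/
theorem closure_far_pair (h : IsFpf ρ) {S : Subgroup G} (hcard : Nat.card S = 120)
    {θ : S →* alternatingGroup (Fin 5)} (C : IsCover θ) {x y : S} (hx : IsThree x) (hy : IsThree y)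
    (hfar : IsFar (θ x) (θ y)) : Subgroup.closure ({(x : G), (y : G)} : Set G) = S := by
  have i := S.subtype_injective
  have hX : IsThree (x : G) := (isThree_map i).mpr hx
  have hY : IsThree (y : G) := (isThree_map i).mpr hy
  have hne : (x : G) * y ≠ y * x := fun e =>
    hfar.2.2.2.1 ((C.commute_iff hx hy).mpr (Subtype.ext e))
  have hr : ¬ RelG (x : G) y := fun e => hfar.2.2.2.2 ((C.rel_iff hx hy).mpr ((relG_map i).mp e))
  obtain ⟨-, w, hwmem, hw, r1, r2⟩ := (pairG h hX hY hne).1 hr
  have hyn : (y : G) ∉ tetra w x := fun e => by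
    rcases (pairG h hw hX r1.symm.1).2 r1.symm x (by simp [tetra]) y e with e' | e'
    exacts [hne e', hr e']
  obtain ⟨-, -, -, hcard', -⟩ := tripleG h hw hX hY r1.symm r2 hyn
  refine Subgroup.eq_of_le_of_card_ge ?_ ?_
  · rw [Subgroup.closure_le]; rintro u (rfl | rfl); exacts [x.2, y.2]
  · rw [hcard, ← hcard']
    refine Subgroup.card_le_of_le ((Subgroup.closure_le _).mpr ?_)
    rintro u (rfl | rfl | rfl)
    exacts [hwmem, Subgroup.subset_closure (by simp), Subgroup.subset_closure (by simp)]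

omit [IsAlgClosed k] [Nontrivial V] [FiniteDimensional k V] [Finite G] in
/-- Central elements of the cover lie in the kernel. -/
theorem cover_centre {S : Subgroup G} {θ : S →* alternatingGroup (Fin 5)} (hθ : Function.Surjective θ)
    {s : S} (hs : (s : G) ∈ Subgroup.centralizer (S : Set G)) : θ s = 1 := by
  have hmem : θ s ∈ Subgroup.center (alternatingGroup (Fin 5)) := by
    refine Subgroup.mem_center_iff.mpr fun a => ?_
    obtain ⟨u, rfl⟩ := hθ a
    rw [← map_mul, ← map_mul]
    exact congrArg θ (Subtype.ext (Subgroup.mem_centralizer_iff.mp hs u u.2))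
  rcases (inferInstance : (Subgroup.center (alternatingGroup (Fin 5))).Normal).eq_bot_or_eq_top with e | e
  · rwa [e, Subgroup.mem_bot] at hmem
  · obtain ⟨b, -, h1, -⟩ := exists_far_base
    exact absurd (Subgroup.mem_center_iff.mp (e.ge (Subgroup.mem_top b)) base) h1

/-- A normal cover and its centralizer generate a subgroup of index at most two. -/
theorem index_sup_centralizer_le (h : IsFpf ρ) {S : Subgroup G} [hn : S.Normal]
    (hcard : Nat.card S = 120) {θ : S →* alternatingGroup (Fin 5)} (C : IsCover θ)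
    (hθ : Function.Surjective θ) :
    (S ⊔ Subgroup.centralizer (S : Set G)).index = 1 ∨
      (S ⊔ Subgroup.centralizer (S : Set G)).index = 2 := by
  have i := S.subtype_injective
  obtain ⟨b, hb, hb1, hb2⟩ := exists_far_base
  have hbase : base * base * base = 1 ∧ base ≠ 1 := by decide +kernel
  obtain ⟨x, hx, ex⟩ := C.lift_three hθ hbase.1 hbase.2
  obtain ⟨y, hy, ey⟩ := C.lift_three hθ hb fun e => hb1 (by rw [e, one_mul, mul_one])
  have hfar : IsFar (θ x) (θ y) := by rw [ex, ey]; exact ⟨hbase.1, hbase.2, hb, hb1, hb2⟩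
  have hgen := closure_far_pair h hcard C hx hy hfar
  set K := Subgroup.centralizer (S : Set G) with hK
  let T := {p : S × S // IsThree p.1 ∧ IsThree p.2 ∧ p.1 * p.2 ≠ p.2 * p.1 ∧ ¬ RelG p.1 p.2}
  have hTcard : Nat.card T ≤ 120 := by
    refine le_trans ?_ card_far
    refine Nat.card_le_card_of_injective (fun p : T => (⟨(θ p.1.1, θ p.1.2), (C.three_map p.2.1).1,
      (C.three_map p.2.1).2, (C.three_map p.2.2.1).1,
      fun e => p.2.2.2.1 ((C.commute_iff p.2.1 p.2.2.1).mp e),
      fun e => p.2.2.2.2 ((C.rel_iff p.2.1 p.2.2.1).mp e)⟩ :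
        {p : alternatingGroup (Fin 5) × alternatingGroup (Fin 5) // IsFar p.1 p.2})) fun p q e => ?_
    refine Subtype.ext (Prod.ext ?_ ?_)
    · exact C.inj p.2.1 q.2.1 (congrArg (fun r : {p : alternatingGroup (Fin 5) × alternatingGroup (Fin 5) //
        IsFar p.1 p.2} => r.1.1) e)
    · exact C.inj p.2.2.1 q.2.2.1 (congrArg (fun r : {p : alternatingGroup (Fin 5) × alternatingGroup (Fin 5) //
        IsFar p.1 p.2} => r.1.2) e)
  let cj : G → S → S := fun g s => ⟨g * s * g⁻¹, hn.conj_mem _ s.2 g⟩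
  have cj3 : ∀ g s, IsThree s → IsThree (cj g s) := fun g s hs =>
    (isThree_map (x := cj g s) i).mp (isThree_conj ((isThree_map i).mpr hs) g)
  have hne : x * y ≠ y * x := fun e => hfar.2.2.2.1 (by rw [← map_mul, e, map_mul])
  have cjne : ∀ g, cj g x * cj g y ≠ cj g y * cj g x := fun g e => hne (Subtype.ext (by
    have e1 : g * x * g⁻¹ * (g * y * g⁻¹) = g * y * g⁻¹ * (g * x * g⁻¹) := congrArg Subtype.val e
    calc (x : G) * y = g⁻¹ * (g * x * g⁻¹ * (g * y * g⁻¹)) * g := by group
      _ = g⁻¹ * (g * y * g⁻¹ * (g * x * g⁻¹)) * g := by rw [e1]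
      _ = y * x := by group))
  have cjrel : ∀ g, ¬ RelG (cj g x) (cj g y) := fun g e => by
    have e1 : RelG (MulAut.conj g (x : G)) (MulAut.conj g (y : G)) := (relG_map i).mpr e
    exact hfar.2.2.2.2 ((C.rel_iff hx hy).mpr ((relG_map i).mp
      ((relG_map (f := (MulAut.conj g).toMonoidHom) (MulAut.conj g).injective).mp e1)))
  let f : G ⧸ K → T :=
    Quotient.lift (fun g => (⟨(cj g x, cj g y), cj3 g x hx, cj3 g y hy, cjne g, cjrel g⟩ : T))
      fun g g' hgg => by
        have hk : g⁻¹ * g' ∈ K := QuotientGroup.leftRel_apply.mp hgg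
        have key : ∀ s : S, cj g s = cj g' s := fun s => Subtype.ext (by
          have := Subgroup.mem_centralizer_iff.mp hk s s.2
          calc g * s * g⁻¹ = g * (s * (g⁻¹ * g')) * g'⁻¹ := by group
            _ = g * ((g⁻¹ * g') * s) * g'⁻¹ := by rw [this]
            _ = g' * s * g'⁻¹ := by group)
        simp only [key]
  have hf : Function.Injective f := by
    intro q q' e
    induction q using QuotientGroup.induction_on with
    | H g =>
      induction q' using QuotientGroup.induction_on with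
      | H g' =>
        have e1 : g * x * g⁻¹ = g' * x * g'⁻¹ := congrArg (fun p : T => (p.1.1 : G)) e
        have e2 : g * y * g⁻¹ = g' * y * g'⁻¹ := congrArg (fun p : T => (p.1.2 : G)) e
        refine QuotientGroup.eq.mpr (Subgroup.mem_centralizer_iff.mpr fun s hs => ?_)
        rw [SetLike.mem_coe, ← hgen] at hs
        have : ∀ s : G, g * s * g⁻¹ = g' * s * g'⁻¹ → s * (g⁻¹ * g') = g⁻¹ * g' * s := fun s e => by
          calc s * (g⁻¹ * g') = g⁻¹ * (g * s * g⁻¹) * g' := by group
            _ = g⁻¹ * (g' * s * g'⁻¹) * g' := by rw [e]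
            _ = g⁻¹ * g' * s := by group
        induction hs using Subgroup.closure_induction with
        | mem u hu =>
          rcases hu with rfl | rfl
          exacts [this _ e1, this _ e2]
        | one => simp
        | mul u v _ _ hu hv => exact (Commute.mul_left hu hv).eq
        | inv u _ hu => exact (Commute.inv_left hu).eq
  have hKidx : K.index ≤ 120 := (Nat.card_le_card_of_injective f hf).trans hTcard
  have h60 : 60 ≤ K.relIndex S := by
    have h2 : θ.ker.index = 60 := by
      rw [Subgroup.index_ker, MonoidHom.range_eq_top.mpr hθ, Subgroup.card_top,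
        Nat.card_eq_fintype_card]
      decide +kernel
    rw [← h2]
    exact Nat.le_of_dvd (Nat.pos_of_ne_zero Subgroup.index_ne_zero_of_finite)
      (Subgroup.index_dvd_of_le fun s hs => cover_centre hθ hs)
  have h1 : K.relIndex (S ⊔ K) * (S ⊔ K).index = K.index := Subgroup.relIndex_mul_index le_sup_right
  rw [Subgroup.relIndex_sup_right] at h1
  have hpos : 0 < (S ⊔ K).index := Nat.pos_of_ne_zero Subgroup.index_ne_zero_of_finite
  by_contra hcon
  have h3 : 3 ≤ (S ⊔ K).index := by omega
  have := Nat.mul_le_mul h60 h3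
  omega

omit [IsAlgClosed k] in
/-- Elements of two-power order centralizing a cover have order at most two. -/
theorem sq_of_mem_centralizer (h : IsFpf ρ) {S : Subgroup G}
    {θ : S →* alternatingGroup (Fin 5)} (C : IsCover θ) (hθ : Function.Surjective θ) :
    ∀ (j : ℕ) (a : G), a ∈ Subgroup.centralizer (S : Set G) → a ^ 2 ^ j = 1 → a * a = 1 := by
  have i := S.subtype_injective
  have hbase : base * base * base = 1 ∧ base ≠ 1 := by decide +kernel
  obtain ⟨x, hx, ex⟩ := C.lift_three hθ hbase.1 hbase.2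
  obtain ⟨b, _, hb, -, hab, -, -⟩ := two_tetra hbase.1 hbase.2
  obtain ⟨a₀, ha₀, ea⟩ := C.lift_three hθ hb fun e => hab.1 (by rw [e, one_mul, mul_one])
  have hR : RelG x a₀ := (C.rel_iff hx ha₀).mp (by rw [ex, ea]; exact hab)
  obtain ⟨a', e', hi⟩ := hR.exists_orient
  set s₀ := x * a' with hs₀
  have hinvG : InvolCentral G := h.invol_central
  intro j
  induction j with
  | zero => intro a _ ha; rw [pow_zero, pow_one] at ha; rw [ha, one_mul]
  | succ j ih =>
    intro a ha haj
    rw [pow_succ', pow_mul, pow_two] at haj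
    have h4 := ih (a * a) (mul_mem ha ha) haj
    by_contra hne2
    have e : a * a = ((s₀ * s₀ : S) : G) :=
      (hinvG _ ((isInvol_map i).mpr hi)).2 _ ⟨h4, hne2⟩
    have hcomm : (s₀ : G) * a = a * s₀ := Subgroup.mem_centralizer_iff.mp ha _ s₀.2
    have hd : (a * (s₀ : G)⁻¹) * (a * (s₀ : G)⁻¹) = 1 := by
      have hc' : (s₀ : G)⁻¹ * a = a * (s₀ : G)⁻¹ :=
        (Commute.inv_left (show Commute (s₀ : G) a from hcomm)).eq
      calc _ = a * ((s₀ : G)⁻¹ * a) * (s₀ : G)⁻¹ := by simp only [mul_assoc]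
        _ = (a * a) * ((s₀ : G) * s₀)⁻¹ := by rw [hc', mul_inv_rev]; simp only [mul_assoc]
        _ = 1 := by rw [e, Subgroup.coe_mul, mul_inv_cancel]
    have haS : a ∈ S := by
      by_cases hd1 : a * (s₀ : G)⁻¹ = 1
      · rw [mul_inv_eq_one] at hd1; rw [hd1]; exact s₀.2
      · have := (hinvG _ ((isInvol_map i).mpr hi)).2 _ ⟨hd, hd1⟩
        rw [mul_inv_eq_iff_eq_mul] at this
        rw [this]; exact mul_mem (s₀ * s₀).2 s₀.2
    exact hne2 (congrArg Subtype.val (C.ker ⟨a, haS⟩ (cover_centre hθ (s := ⟨a, haS⟩) ha)))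

/-- The centralizer of a cover has no elements of order 3 or 5. -/
theorem not_dvd_card_centralizer (h : IsFpf ρ) {S : Subgroup G} (hcard : Nat.card S = 120)
    {θ : S →* alternatingGroup (Fin 5)} (C : IsCover θ) (hθ : Function.Surjective θ) {p : ℕ}
    (hp : p.Prime) (hp2 : p ≠ 2) (hpd : p ∣ 120) :
    ¬ p ∣ Nat.card (Subgroup.centralizer (S : Set G)) := by
  intro hdvd
  have := Fact.mk hp
  obtain ⟨t, ht⟩ := exists_prime_orderOf_dvd_card' p hdvd
  obtain ⟨s, hs⟩ := exists_prime_orderOf_dvd_card' (G := S) p (hcard ▸ hpd)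
  rw [← Subgroup.orderOf_coe] at ht hs
  have hcomm : (s : G) * t = t * s := Subgroup.mem_centralizer_iff.mp t.2 _ s.2
  have hmem : (t : G) ∈ S := Subgroup.zpowers_le.mpr s.2
    (h.mem_zpowers hp (by rw [← hs]; exact pow_orderOf_eq_one _)
      (fun e => hp.ne_one (by rw [← hs, e, orderOf_one])) (by rw [← ht]; exact pow_orderOf_eq_one _) hcomm)
  have h2 : (t : G) ^ 2 = 1 := by
    rw [pow_two]
    exact congrArg Subtype.val (C.ker ⟨t, hmem⟩ (cover_centre hθ (s := ⟨t, hmem⟩) t.2))
  have := orderOf_dvd_of_pow_eq_one h2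
  rw [ht] at this
  exact hp2 ((Nat.prime_dvd_prime_iff_eq hp Nat.prime_two).mp this)

end Cfsg.Agent.H21.Zass
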