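import Cfsg.Agent.H21.Zassenhaus.Scalars

/-!
No four elements of order 3 have all pairwise products of order 4 in a fixed-point-free group.
-/

namespace Cfsg.Agent.H21.Zass

/-- The involutions of a group. -/
def IsInvol {G : Type*} [Group G] (g : G) : Prop := g * g = 1 ∧ g ≠ 1

section Eight

variable {A : Type*} [Ring A]

theorem eight_mul {x y : A} (hx : x * x + x + 1 = 0) (hy : y * y + y + 1 = 0)
    (hc : x * y + y * x + x + y = -1) :
    -(((2 * x + 1) + (2 * y + 1)) * (2 + ((2 * x + 1) - (2 * y + 1)))) = 8 * (x * y) := by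
  have e : -(((2 * x + 1) + (2 * y + 1)) * (2 + ((2 * x + 1) - (2 * y + 1)))) - 8 * (x * y) =
      -(4 * ((x * x + x + 1) - (y * y + y + 1))) - 4 * ((x * y + y * x + x + y) + 1) := by
    noncomm_ring
  rw [hx, hy, hc, sub_self, mul_zero, neg_zero, neg_add_cancel, mul_zero, sub_zero, sub_eq_zero] at e
  exact e

theorem pm_relations {x y : A} (hx : x * x + x + 1 = 0) (hy : y * y + y + 1 = 0)
    (hc : x * y + y * x + x + y = -1) :
    let p := (2 * x + 1) + (2 * y + 1)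
    let m := (2 * x + 1) - (2 * y + 1)
    p * p = -8 ∧ m * m = -4 ∧ p * m + m * p = 0 := by
  intro p m
  have hu := uvec_sq hx
  have hv := uvec_sq hy
  have huv := uvec_anticomm x y
  rw [hc] at huv
  refine ⟨?_, ?_, ?_⟩
  · have : p * p = (2 * x + 1) * (2 * x + 1) + (2 * y + 1) * (2 * y + 1) +
        ((2 * x + 1) * (2 * y + 1) + (2 * y + 1) * (2 * x + 1)) := by simp only [p]; noncomm_ring
    rw [this, hu, hv, huv]; norm_num
  · have : m * m = (2 * x + 1) * (2 * x + 1) + (2 * y + 1) * (2 * y + 1) -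
        ((2 * x + 1) * (2 * y + 1) + (2 * y + 1) * (2 * x + 1)) := by simp only [m]; noncomm_ring
    rw [this, hu, hv, huv]; norm_num
  · have : p * m + m * p = 2 * ((2 * x + 1) * (2 * x + 1)) - 2 * ((2 * y + 1) * (2 * y + 1)) := by
      simp only [p, m]; noncomm_ring
    rw [this, hu, hv, sub_self]

theorem cross_relations {x₁ x₂ x₃ x₄ : A}
    (h13 : x₁ * x₃ + x₃ * x₁ + x₁ + x₃ = -1) (h14 : x₁ * x₄ + x₄ * x₁ + x₁ + x₄ = -1)
    (h23 : x₂ * x₃ + x₃ * x₂ + x₂ + x₃ = -1) (h24 : x₂ * x₄ + x₄ * x₂ + x₂ + x₄ = -1) :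
    let p := (2 * x₁ + 1) + (2 * x₂ + 1)
    let m := (2 * x₁ + 1) - (2 * x₂ + 1)
    let p' := (2 * x₃ + 1) + (2 * x₄ + 1)
    let m' := (2 * x₃ + 1) - (2 * x₄ + 1)
    p * p' + p' * p = -8 ∧ p * m' + m' * p = 0 ∧ p' * m + m * p' = 0 ∧ m * m' + m' * m = 0 := by
  intro p m p' m'
  have a13 := uvec_anticomm x₁ x₃
  have a14 := uvec_anticomm x₁ x₄
  have a23 := uvec_anticomm x₂ x₃
  have a24 := uvec_anticomm x₂ x₄
  rw [h13] at a13; rw [h14] at a14; rw [h23] at a23; rw [h24] at a24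
  simp only [p, m, p', m']
  generalize 2 * x₁ + 1 = u at *
  generalize 2 * x₂ + 1 = v at *
  generalize 2 * x₃ + 1 = s at *
  generalize 2 * x₄ + 1 = t at *
  refine ⟨?_, ?_, ?_, ?_⟩
  · have : (u + v) * (s + t) + (s + t) * (u + v) =
        (u * s + s * u) + (u * t + t * u) + (v * s + s * v) + (v * t + t * v) := by noncomm_ring
    rw [this, a13, a14, a23, a24]; norm_num
  · have : (u + v) * (s - t) + (s - t) * (u + v) =
        (u * s + s * u) - (u * t + t * u) + ((v * s + s * v) - (v * t + t * v)) := by noncomm_ring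
    rw [this, a13, a14, a23, a24, sub_self, add_zero]
  · have : (s + t) * (u - v) + (u - v) * (s + t) =
        (u * s + s * u) - (v * s + s * v) + ((u * t + t * u) - (v * t + t * v)) := by noncomm_ring
    rw [this, a13, a14, a23, a24, sub_self, add_zero]
  · have : (u - v) * (s - t) + (s - t) * (u - v) =
        (u * s + s * u) - (u * t + t * u) - ((v * s + s * v) - (v * t + t * v)) := by noncomm_ring
    rw [this, a13, a14, a23, a24, sub_self]

end Eight

variable {k : Type*} [Field k] {V : Type*} [AddCommGroup V] [Module k V]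
  [FiniteDimensional k V] [Nontrivial V] {G : Type*} [Group G] [Finite G]
  {ρ : G →* Module.End k V}

local notation "E" => Module.End k V

omit [Finite G] in
theorem cval_plus_of_invol (h : IsFpf ρ) {x y : G} (hx : x * x * x = 1) (hx1 : x ≠ 1)
    (hy : y * y * y = 1) (hy1 : y ≠ 1) (hi : IsInvol ((x * y) * (x * y))) :
    cval (ρ x) (ρ y) = -1 := by
  refine cval_of_plus (h.cube hx hx1) (h.cube hy hy1) ?_
  rw [← map_mul, ← map_mul]
  exact h.eq_neg_one hi.1 hi.2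

/-- No four elements of order 3 have all pairwise products squaring to the involution. -/
theorem clique_false (h : IsFpf ρ) {x₁ x₂ x₃ x₄ : G}
    (h₁ : x₁ * x₁ * x₁ = 1) (n₁ : x₁ ≠ 1) (h₂ : x₂ * x₂ * x₂ = 1) (n₂ : x₂ ≠ 1)
    (h₃ : x₃ * x₃ * x₃ = 1) (n₃ : x₃ ≠ 1) (h₄ : x₄ * x₄ * x₄ = 1) (n₄ : x₄ ≠ 1)
    (i12 : IsInvol ((x₁ * x₂) * (x₁ * x₂))) (i13 : IsInvol ((x₁ * x₃) * (x₁ * x₃)))
    (i14 : IsInvol ((x₁ * x₄) * (x₁ * x₄))) (i23 : IsInvol ((x₂ * x₃) * (x₂ * x₃)))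
    (i24 : IsInvol ((x₂ * x₄) * (x₂ * x₄))) (i34 : IsInvol ((x₃ * x₄) * (x₃ * x₄))) : False := by
  have h2 : (2 : k) ≠ 0 := h.two_ne_zero i12.1 i12.2
  have h3 : (3 : k) ≠ 0 := h.three_ne_zero h₁ n₁
  have C1 := h.cube h₁ n₁
  have C2 := h.cube h₂ n₂
  have C3 := h.cube h₃ n₃
  have C4 := h.cube h₄ n₄
  have c12 := cval_plus_of_invol h h₁ n₁ h₂ n₂ i12
  have c34 := cval_plus_of_invol h h₃ n₃ h₄ n₄ i34
  obtain ⟨hp, hm, hpm⟩ := pm_relations C1 C2 c12
  obtain ⟨hp', hm', hp'm'⟩ := pm_relations C3 C4 c34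
  obtain ⟨hpp, hpm', hp'm, hmm⟩ := cross_relations (cval_plus_of_invol h h₁ n₁ h₃ n₃ i13)
    (cval_plus_of_invol h h₁ n₁ h₄ n₄ i14) (cval_plus_of_invol h h₂ n₂ h₃ n₃ i23)
    (cval_plus_of_invol h h₂ n₂ h₄ n₄ i24)
  have ea := eight_mul C1 C2 c12
  have eb := eight_mul C3 C4 c34
  generalize hP : (2 * ρ x₁ + 1) + (2 * ρ x₂ + 1) = p at *
  generalize hM : (2 * ρ x₁ + 1) - (2 * ρ x₂ + 1) = m at *
  generalize hP' : (2 * ρ x₃ + 1) + (2 * ρ x₄ + 1) = p' at *
  generalize hM' : (2 * ρ x₃ + 1) - (2 * ρ x₄ + 1) = m' at *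
  obtain ⟨hmain, hLX2, hpL, hL2, hpX⟩ :=
    clique_main hp hm hp' hm' hpp hpm hpm' hp'm hp'm' hmm
  generalize p * p' - p' * p = L at *
  generalize 2 * m' - 2 * m - m * m' = X at *
  set a := x₁ * x₂ with ha
  set b := x₃ * x₄ with hb
  set g := a * b with hg
  have hinv : ∀ c : G, IsInvol (c * c) → ρ c⁻¹ = -ρ c := fun c hc => by
    have e : c⁻¹ = (c * c) * c := inv_eq_of_mul_eq_one_right (by rw [← hc.1]; group)
    rw [e, map_mul, h.eq_neg_one hc.1 hc.2, neg_one_mul]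
  have hgi : ρ g⁻¹ = ρ b * ρ a := by
    rw [hg, mul_inv_rev, map_mul, hinv a i12, hinv b i34, neg_mul_neg]
  set Gm := ρ g with hGm
  set Hm := ρ g⁻¹ with hHm
  have hGH : Gm * Hm = 1 := by rw [hGm, hHm, ← map_mul, mul_inv_cancel, map_one]
  have hHG : Hm * Gm = 1 := by rw [hGm, hHm, ← map_mul, inv_mul_cancel, map_one]
  have hLX : L * X = 64 * (Gm + Hm) + 32 := by
    have e1 : p * (2 + m) = -(8 * (ρ a)) := by
      rw [ha, map_mul, ← ea, neg_neg]
    have e2 : p' * (2 + m') = -(8 * (ρ b)) := by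
      rw [hb, map_mul, ← eb, neg_neg]
    rw [e1, e2] at hmain
    have e3 : (4 : E) * (L * X - (64 * (Gm + Hm) + 32)) = 0 := by
      have e4 : (4 : E) * (L * X) = 4 * (-(8 * ρ a) * -(8 * ρ b) + -(8 * ρ b) * -(8 * ρ a)) + 128 := by
        rw [hmain]; noncomm_ring; norm_num
      rw [mul_sub, e4, hgi, show Gm = ρ a * ρ b from map_mul ρ a b]
      noncomm_ring; norm_num
    rw [← map_ofNat (algebraMap k E) 4, ← Algebra.smul_def, smul_eq_zero] at e3
    refine sub_eq_zero.mp (e3.resolve_left ?_)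
    rw [show (4 : k) = 2 ^ 2 by norm_num]
    exact pow_ne_zero 2 h2
  have hq : (Gm + Hm) * (Gm + Hm) + (Gm + Hm) - 2 = 0 := by
    rw [hLX] at hLX2
    have e : (4096 : E) * ((Gm + Hm) * (Gm + Hm) + (Gm + Hm) - 2) =
        (64 * (Gm + Hm) + 32) * (64 * (Gm + Hm) + 32) - 9216 := by noncomm_ring; norm_num
    rw [hLX2, sub_self, ← map_ofNat (algebraMap k E) 4096, ← Algebra.smul_def, smul_eq_zero] at e
    refine e.resolve_left ?_
    rw [show (4096 : k) = 2 ^ 12 by norm_num]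
    exact pow_ne_zero 12 h2
  obtain ⟨μ, hμ, hμ0⟩ : ∃ μ : k, L * X = μ • 1 ∧ μ ≠ 0 := by
    set z := (x₁ * x₂) * (x₁ * x₂)
    by_cases hzg : z * g = 1
    · have hG : Gm = -1 := by
        have := congrArg ρ hzg
        rw [map_mul, h.eq_neg_one i12.1 i12.2, map_one, neg_one_mul] at this
        exact neg_eq_iff_eq_neg.mp this
      have hH : Hm = -1 := by rw [hG, neg_one_mul] at hGH; exact neg_eq_iff_eq_neg.mp hGH
      refine ⟨-96, ?_, ?_⟩
      · rw [hLX, hG, hH, ← Algebra.algebraMap_eq_smul_one, map_neg, map_ofNat]; norm_num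
      · rw [show (-96 : k) = -(2 ^ 5 * 3) by norm_num]
        exact neg_ne_zero.mpr (mul_ne_zero (pow_ne_zero 5 h2) h3)
    · have hu : IsUnit (Gm + 1) := by
        have := (h.isUnit_sub_one hzg).neg
        rw [map_mul, h.eq_neg_one i12.1 i12.2, neg_one_mul] at this
        simpa [hGm, add_comm] using this
      have e : (Gm + 1) * (Gm + 1) * (Gm * Gm - Gm + 1) =
          Gm * Gm * ((Gm + Hm) * (Gm + Hm) + (Gm + Hm) - 2) := by
        have : Gm * Gm * ((Gm + Hm) * (Gm + Hm) + (Gm + Hm) - 2) = Gm * Gm * Gm * Gm +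
            Gm * Gm * (Gm * Hm) + Gm * (Gm * Hm) * Gm + Gm * (Gm * Hm) * Hm + Gm * Gm * Gm +
            Gm * (Gm * Hm) - 2 * (Gm * Gm) := by noncomm_ring
        rw [this, hGH, mul_one, mul_one, hGH]
        noncomm_ring
      rw [hq, mul_zero, (hu.mul hu).mul_right_eq_zero] at e
      have hH : Hm = 1 - Gm := by
        calc Hm = Hm * (Gm * (1 - Gm)) := by
              rw [show Gm * (1 - Gm) = 1 - (Gm * Gm - Gm + 1) by noncomm_ring, e, sub_zero, mul_one]
          _ = 1 - Gm := by rw [← mul_assoc, hHG, one_mul]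
      refine ⟨96, ?_, ?_⟩
      · rw [hLX, hH, add_sub_cancel, mul_one, ← Algebra.algebraMap_eq_smul_one, map_ofNat]; norm_num
      · rw [show (96 : k) = 2 ^ 5 * 3 by norm_num]
        exact mul_ne_zero (pow_ne_zero 5 h2) h3
  have h192 : (-192 : k) ≠ 0 := by
    rw [show (-192 : k) = -(2 ^ 6 * 3) by norm_num]
    exact neg_ne_zero.mpr (mul_ne_zero (pow_ne_zero 6 h2) h3)
  have hX : (-192 : k) • X = μ • L := by
    calc (-192 : k) • X = (L * L) * X := by rw [hL2, Algebra.smul_def, map_neg, map_ofNat]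
      _ = L * (L * X) := mul_assoc _ _ _
      _ = μ • L := by rw [hμ, mul_smul_comm, mul_one]
  have hpX0 : p * X + X * p = 0 := by
    refine (smul_eq_zero.mp ?_).resolve_left h192
    rw [smul_add, ← mul_smul_comm, ← smul_mul_assoc, hX, mul_smul_comm, smul_mul_assoc, ← smul_add,
      hpL, neg_add_cancel, smul_zero]
  rw [hpX0] at hpX
  have e1 : (2 : k) • (p * (m * m')) = 0 := by
    rw [Algebra.smul_def, map_ofNat, ← neg_eq_zero, ← neg_mul]; exact hpX.symm
  have e2 : p * (m * m') = 0 := (smul_eq_zero.mp e1).resolve_left h2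
  have e3 : m * m' = 0 := by
    have : (-8 : k) • (m * m') = 0 := by
      rw [Algebra.smul_def, map_neg, map_ofNat, ← hp, mul_assoc, e2, mul_zero]
    refine (smul_eq_zero.mp this).resolve_left ?_
    rw [show (-8 : k) = -(2 ^ 3) by norm_num]
    exact neg_ne_zero.mpr (pow_ne_zero 3 h2)
  have h4 : (-4 : k) ≠ 0 := by
    rw [show (-4 : k) = -(2 ^ 2) by norm_num]; exact neg_ne_zero.mpr (pow_ne_zero 2 h2)
  have e4 : (-4 : k) • m' = 0 := by
    rw [Algebra.smul_def, map_neg, map_ofNat, ← hm, mul_assoc, e3, mul_zero]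
  have e5 : (-4 : k) • (1 : E) = 0 := by
    rw [Algebra.smul_def, map_neg, map_ofNat, mul_one, ← hm', (smul_eq_zero.mp e4).resolve_left h4,
      mul_zero]
  exact one_ne_zero ((smul_eq_zero.mp e5).resolve_left h4)

end Cfsg.Agent.H21.Zass
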