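import Mathlib.GroupTheory.SpecificGroups.Alternating

/-!
Finite facts about elements of order 3 in the alternating group of degree 5.
-/

set_option synthInstance.maxSize 4000

namespace Cfsg.Agent.H21.Zass

variable {Q : Type*} [Group Q]

/-- `a` and `b` span a tetrahedral configuration: they do not commute and `a b` or `a b⁻¹` is an
involution. -/
def Rel (a b : Q) : Prop := a * b ≠ b * a ∧ ((a * b) * (a * b) = 1 ∨ (a * b⁻¹) * (a * b⁻¹) = 1)

/-- The elements of order 3 of the tetrahedral group of `a` and `b`. -/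
def tetra (a b : Q) : List Q :=
  [a, a⁻¹, b, b⁻¹, a * b * a⁻¹, a * b⁻¹ * a⁻¹, a⁻¹ * b * a, a⁻¹ * b⁻¹ * a]

/-- The three neighbours of `a` in the tetrahedral group of `a` and `b`. -/
def others (a b : Q) : List Q := [b, a * b * a⁻¹, a⁻¹ * b * a]

instance decidableRel [DecidableEq Q] (a b : Q) : Decidable (Rel a b) := by
  unfold Rel; infer_instance

/-- All statements about triples, to be checked in the alternating group. -/
def TripleFacts (a b c : Q) : Prop :=
  (Rel a b → Rel a c → c ∉ tetra a b → ∃ d ∈ others a b, Rel d c) ∧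
  (Rel a b → Rel a c → Rel b c → c ∉ tetra a b → (a * b) * (a * b) = 1 → (a * c) * (a * c) = 1 →
    (b * c) * (b * c) = 1) ∧
  (Rel a b → Rel a c → c ∉ tetra a b → ∀ b' ∈ others a b, ∀ c' ∈ others a c,
    Rel a b' ∧ Rel a c' ∧ c' ∉ tetra a b' ∧ b' * c' ≠ c' * b')

/-- All statements about pairs. -/
def PairFacts (a b : Q) : Prop :=
  (a * b ≠ b * a → ¬ Rel a b → (a * b) * (a * b) * (a * b) * (a * b) * (a * b) = 1 ∧
    ((a * b * a⁻¹ * b⁻¹) * (a * b * a⁻¹ * b⁻¹) * (a * b * a⁻¹ * b⁻¹) = 1 ∧ a * b * a⁻¹ * b⁻¹ ≠ 1 ∧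
      Rel a (a * b * a⁻¹ * b⁻¹) ∧ Rel (a * b * a⁻¹ * b⁻¹) b)) ∧
  (Rel a b → ∀ u ∈ tetra a b, ∀ v ∈ tetra a b, u * v = v * u ∨ Rel u v)

/-- The list of words used to see that two tetrahedral groups through a common point generate. -/
def words (a b c : Q) : List Q :=
  tetra a b ++ [1, a * b, b * a, a * b⁻¹, b⁻¹ * a, a⁻¹ * b, b * a⁻¹, c, c⁻¹, a * c * a⁻¹,
    a * c⁻¹ * a⁻¹, a⁻¹ * c * a, a⁻¹ * c⁻¹ * a]

/-- The fixed 3-cycle. -/
def base : alternatingGroup (Fin 5) :=
  ⟨Equiv.swap 0 1 * Equiv.swap 1 2, Equiv.Perm.mem_alternatingGroup.mpr (by decide)⟩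

/-- Elements of order 3 are conjugate to `base`. -/
theorem exists_conj_base : ∀ a : alternatingGroup (Fin 5), a * a * a = 1 → a ≠ 1 →
    ∃ g : alternatingGroup (Fin 5), g * a * g⁻¹ = base := by
  decide +kernel

theorem pairFacts_base : ∀ b : alternatingGroup (Fin 5), b * b * b = 1 →
    (base * b ≠ b * base → ¬ Rel base b →
      (base * b) * (base * b) * (base * b) * (base * b) * (base * b) = 1 ∧
      ((base * b * base⁻¹ * b⁻¹) * (base * b * base⁻¹ * b⁻¹) * (base * b * base⁻¹ * b⁻¹) = 1 ∧
        base * b * base⁻¹ * b⁻¹ ≠ 1 ∧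
        Rel base (base * b * base⁻¹ * b⁻¹) ∧ Rel (base * b * base⁻¹ * b⁻¹) b)) := by
  decide +kernel

theorem tetraFacts_base : ∀ b : alternatingGroup (Fin 5), b * b * b = 1 → Rel base b →
    ∀ u ∈ tetra base b, ∀ v ∈ tetra base b, u * v = v * u ∨ Rel u v := by
  decide +kernel

theorem neighbourFacts_base : ∀ b : alternatingGroup (Fin 5), b * b * b = 1 → Rel base b →
    ∀ c : alternatingGroup (Fin 5), c * c * c = 1 → Rel base c → c ∉ tetra base b →
      ∃ d ∈ others base b, Rel d c := by
  decide +kernel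

theorem orientFacts_base : ∀ b : alternatingGroup (Fin 5), b * b * b = 1 → Rel base b →
    (base * b) * (base * b) = 1 →
    ∀ c : alternatingGroup (Fin 5), c * c * c = 1 → Rel base c → (base * c) * (base * c) = 1 →
      Rel b c → c ∉ tetra base b → (b * c) * (b * c) = 1 := by
  decide +kernel

theorem shiftFacts_base : ∀ b : alternatingGroup (Fin 5), b * b * b = 1 → Rel base b →
    ∀ c : alternatingGroup (Fin 5), c * c * c = 1 → Rel base c → c ∉ tetra base b →
      ∀ b' ∈ others base b, ∀ c' ∈ others base c,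
        Rel base b' ∧ Rel base c' ∧ c' ∉ tetra base b' ∧ b' * c' ≠ c' * b' := by
  decide +kernel

theorem wordFacts_base : ∀ b : alternatingGroup (Fin 5), b * b * b = 1 → Rel base b →
    ∀ c : alternatingGroup (Fin 5), c * c * c = 1 → Rel base c → c ∉ tetra base b →
      15 < (words base b c).toFinset.card := by
  decide +kernel

theorem facts_base (b : alternatingGroup (Fin 5)) (hb : b * b * b = 1) :
    PairFacts base b ∧
    (Rel base b → ∀ c : alternatingGroup (Fin 5), c * c * c = 1 → TripleFacts base b c ∧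
      (Rel base c → c ∉ tetra base b → 15 < (words base b c).toFinset.card)) :=
  ⟨⟨pairFacts_base b hb, tetraFacts_base b hb⟩, fun hr c hc =>
    ⟨⟨fun _ h1 h2 => neighbourFacts_base b hb hr c hc h1 h2,
      fun _ h1 h2 h3 h4 h5 => orientFacts_base b hb hr h4 c hc h1 h5 h2 h3,
      fun _ h1 h2 => shiftFacts_base b hb hr c hc h1 h2⟩,
    fun h1 h2 => wordFacts_base b hb hr c hc h1 h2⟩⟩

theorem two_tetra_base : ∃ b c : alternatingGroup (Fin 5), b * b * b = 1 ∧ c * c * c = 1 ∧
    Rel base b ∧ Rel base c ∧ c ∉ tetra base b := by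
  decide +kernel

section Transport

variable {R : Type*} [Group R] (e : Q ≃* R)

theorem rel_map {a b : Q} : Rel (e a) (e b) ↔ Rel a b := by
  simp only [Rel, ← map_mul, ← map_inv, ne_eq, e.injective.eq_iff, EmbeddingLike.map_eq_one_iff]

theorem tetra_map {a b : Q} : tetra (e a) (e b) = (tetra a b).map e := by
  simp [tetra]

theorem others_map {a b : Q} : others (e a) (e b) = (others a b).map e := by
  simp [others]

theorem words_map {a b c : Q} : words (e a) (e b) (e c) = (words a b c).map e := by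
  simp [words, tetra]

theorem tripleFacts_map {a b c : Q} (h : TripleFacts (e a) (e b) (e c)) : TripleFacts a b c := by
  obtain ⟨h1, h2, h3⟩ := h
  simp only [rel_map e, tetra_map e, others_map e, List.mem_map, EmbeddingLike.apply_eq_iff_eq,
    exists_eq_right, ← map_mul, EmbeddingLike.map_eq_one_iff, ne_eq] at h1 h2 h3
  refine ⟨fun ha hb hc => ?_, h2, fun ha hb hc b' hb' c' hc' => ?_⟩
  · simpa [rel_map e] using h1 ha hb hc
  · simpa [rel_map e, tetra_map e, ← map_mul] using h3 ha hb hc _ ⟨b', hb', rfl⟩ _ ⟨c', hc', rfl⟩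

theorem pairFacts_map {a b : Q} (h : PairFacts (e a) (e b)) : PairFacts a b := by
  obtain ⟨h1, h2⟩ := h
  simp only [rel_map e, tetra_map e, List.forall_mem_map, ← map_mul, ← map_inv,
    EmbeddingLike.map_eq_one_iff, EmbeddingLike.apply_eq_iff_eq, ne_eq] at h1 h2
  exact ⟨h1, h2⟩

end Transport

variable {a b c : alternatingGroup (Fin 5)}

/-- Pair facts in the alternating group. -/
theorem pairFacts (ha : a * a * a = 1) (ha1 : a ≠ 1) (hb : b * b * b = 1) : PairFacts a b := by
  obtain ⟨g, hg⟩ := exists_conj_base a ha ha1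
  refine pairFacts_map (MulAut.conj g) ?_
  rw [MulAut.conj_apply, hg]
  exact (facts_base _ (by rw [← map_mul, ← map_mul, hb, map_one])).1

/-- Triple facts in the alternating group. -/
theorem tripleFacts (ha : a * a * a = 1) (ha1 : a ≠ 1) (hb : b * b * b = 1) (hc : c * c * c = 1) :
    TripleFacts a b c := by
  by_cases hr : Rel a b
  swap
  · exact ⟨fun h => absurd h hr, fun h => absurd h hr, fun h => absurd h hr⟩
  obtain ⟨g, hg⟩ := exists_conj_base a ha ha1
  refine tripleFacts_map (MulAut.conj g) ?_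
  rw [MulAut.conj_apply g a, hg]
  refine (((facts_base _ (by rw [← map_mul, ← map_mul, hb, map_one])).2 ?_) _
    (by rw [← map_mul, ← map_mul, hc, map_one])).1
  rw [← hg, ← MulAut.conj_apply g a, rel_map]
  exact hr

/-- Two tetrahedral groups through a common point generate a group of more than 15 elements. -/
theorem card_words (ha : a * a * a = 1) (ha1 : a ≠ 1) (hb : b * b * b = 1) (hc : c * c * c = 1)
    (hab : Rel a b) (hac : Rel a c) (hn : c ∉ tetra a b) : 15 < (words a b c).toFinset.card := by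
  obtain ⟨g, hg⟩ := exists_conj_base a ha ha1
  set e := MulAut.conj g
  have he : e a = base := hg
  have h1 := ((facts_base (e b) (by rw [← map_mul, ← map_mul, hb, map_one])).2
    (by rw [← he, rel_map]; exact hab) (e c) (by rw [← map_mul, ← map_mul, hc, map_one])).2
    (by rw [← he, rel_map]; exact hac) (by rw [← he, tetra_map]; simpa using hn)
  rw [← he, words_map] at h1
  refine h1.trans_le ?_
  rw [show ((words a b c).map e).toFinset = (words a b c).toFinset.image e by ext; simp]
  exact Finset.card_image_le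

/-- Every element of order 3 lies in two tetrahedral groups. -/
theorem two_tetra (ha : a * a * a = 1) (ha1 : a ≠ 1) : ∃ b c : alternatingGroup (Fin 5),
    b * b * b = 1 ∧ c * c * c = 1 ∧ Rel a b ∧ Rel a c ∧ c ∉ tetra a b := by
  obtain ⟨g, hg⟩ := exists_conj_base a ha ha1
  set e := MulAut.conj g
  have he : e a = base := hg
  obtain ⟨b, c, hb, hc, h1, h2, h3⟩ := two_tetra_base
  obtain ⟨b, rfl⟩ := e.surjective b
  obtain ⟨c, rfl⟩ := e.surjective c
  rw [← he] at h1 h2 h3
  rw [← map_mul, ← map_mul, EmbeddingLike.map_eq_one_iff] at hb hc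
  rw [rel_map] at h1 h2
  rw [tetra_map] at h3
  exact ⟨b, c, hb, hc, h1, h2, fun h => h3 (List.mem_map_of_mem h)⟩

end Cfsg.Agent.H21.Zass
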