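import Mathlib.LinearAlgebra.Eigenspace.Triangularizable
import Mathlib.LinearAlgebra.FiniteDimensional.Basic
import Mathlib.GroupTheory.Perm.Cycle.Type
import Mathlib.Algebra.CharP.Lemmas
import Mathlib.Algebra.CharP.Algebra
import Mathlib.RingTheory.Artinian.Module
import Mathlib.RingTheory.RootsOfUnity.PrimitiveRoots
import Mathlib.Tactic.NoncommRing

/-!
Finite groups of linear maps in which only the identity has a nonzero fixed vector.
-/

namespace Cfsg.Agent.H21.Zass

variable {k : Type*} [Field k] {V : Type*} [AddCommGroup V] [Module k V]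
variable {G : Type*} [Group G]

/-- Only the identity fixes a nonzero vector. -/
def IsFpf (ρ : G →* Module.End k V) : Prop := ∀ g : G, g ≠ 1 → ∀ v : V, ρ g v = v → v = 0

variable {ρ : G →* Module.End k V}

theorem IsFpf.comp {H : Type*} [Group H] (h : IsFpf ρ) {f : H →* G} (hf : Function.Injective f) :
    IsFpf (ρ.comp f) :=
  fun g hg => h (f g) fun e => hg (hf (e.trans f.map_one.symm))

theorem IsFpf.injective [Nontrivial V] (h : IsFpf ρ) : Function.Injective ρ := by
  rw [injective_iff_map_eq_one]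
  intro g hg
  by_contra hne
  obtain ⟨v, hv⟩ := exists_ne (0 : V)
  exact hv (h g hne v (by rw [hg]; rfl))

theorem IsFpf.isUnit_sub_one [FiniteDimensional k V] (h : IsFpf ρ) {g : G} (hg : g ≠ 1) :
    IsUnit (ρ g - 1) := by
  rw [LinearMap.isUnit_iff_ker_eq_bot, LinearMap.ker_eq_bot']
  intro v hv
  exact h g hg v (by simpa [sub_eq_zero] using hv)

variable [FiniteDimensional k V]

theorem IsFpf.geom_sum_eq_zero (h : IsFpf ρ) {g : G} {n : ℕ} (hn : g ^ n = 1) (hg : g ≠ 1) :
    ∑ i ∈ Finset.range n, ρ g ^ i = 0 := by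
  refine (h.isUnit_sub_one hg).mul_right_eq_zero.mp ?_
  rw [mul_geom_sum, ← map_pow, hn, map_one, sub_self]

/-- An involution acts as `-1`. -/
theorem IsFpf.eq_neg_one (h : IsFpf ρ) {g : G} (hn : g * g = 1) (hg : g ≠ 1) : ρ g = -1 := by
  have := h.geom_sum_eq_zero (n := 2) (by rw [pow_two, hn]) hg
  simp [Finset.sum_range_succ] at this
  exact eq_neg_of_add_eq_zero_right this

/-- An element of order 3 satisfies `x² + x + 1 = 0`. -/
theorem IsFpf.cube (h : IsFpf ρ) {g : G} (hn : g * g * g = 1) (hg : g ≠ 1) :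
    ρ g * ρ g + ρ g + 1 = 0 := by
  have := h.geom_sum_eq_zero (n := 3) (by rw [pow_succ, pow_two, hn]) hg
  simp [Finset.sum_range_succ, pow_two] at this
  rw [← this]; abel

variable [Nontrivial V]

theorem IsFpf.involution_unique (h : IsFpf ρ) {g g' : G} (hn : g * g = 1) (hg : g ≠ 1)
    (hn' : g' * g' = 1) (hg' : g' ≠ 1) : g = g' :=
  h.injective (by rw [h.eq_neg_one hn hg, h.eq_neg_one hn' hg'])

theorem IsFpf.involution_central (h : IsFpf ρ) {g : G} (hn : g * g = 1) (hg : g ≠ 1) (x : G) :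
    g * x = x * g :=
  h.injective (by rw [map_mul, map_mul, h.eq_neg_one hn hg, neg_one_mul, mul_neg_one])

/-- A prime divisor of the group order is invertible in the field. -/
theorem IsFpf.prime_ne_zero [Finite G] (h : IsFpf ρ) {p : ℕ} (hp : p.Prime) (hdvd : p ∣ Nat.card G) :
    (p : k) ≠ 0 := by
  intro h0
  have := Fact.mk hp
  obtain ⟨q, hq⟩ := CharP.exists k
  obtain rfl : q = p :=
    (hp.eq_one_or_self_of_dvd q ((CharP.cast_eq_zero_iff k q p).mp h0)).resolve_left
      (CharP.char_ne_one k q)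
  obtain ⟨g, hg⟩ := exists_prime_orderOf_dvd_card' (G := G) q hdvd
  have : CharP (Module.End k V) q :=
    charP_of_injective_algebraMap (FaithfulSMul.algebraMap_injective k (Module.End k V)) q
  have hu := (h.isUnit_sub_one (g := g) fun e => hp.ne_one (by rw [← hg, e, orderOf_one])).pow q
  rw [sub_pow_char_of_commute _ (Commute.one_right _), one_pow, ← map_pow, ← hg, pow_orderOf_eq_one,
    map_one, sub_self] at hu
  exact not_isUnit_zero hu

theorem IsFpf.two_ne_zero [Finite G] (h : IsFpf ρ) {g : G} (hn : g * g = 1) (hg : g ≠ 1) :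
    (2 : k) ≠ 0 := by
  have h2 : orderOf g = 2 := orderOf_eq_prime (by rw [pow_two, hn]) hg
  simpa using h.prime_ne_zero Nat.prime_two (h2 ▸ orderOf_dvd_natCard g)

theorem IsFpf.three_ne_zero [Finite G] (h : IsFpf ρ) {g : G} (hn : g * g * g = 1) (hg : g ≠ 1) :
    (3 : k) ≠ 0 := by
  have h3 : orderOf g = 3 := orderOf_eq_prime (by rw [pow_succ, pow_two, hn]) hg
  simpa using h.prime_ne_zero Nat.prime_three (h3 ▸ orderOf_dvd_natCard g)

/-- Commuting elements of order 3 generate the same subgroup. -/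
theorem IsFpf.eq_or_eq_sq (h : IsFpf ρ) {a b : G} (ha : a * a * a = 1) (ha1 : a ≠ 1)
    (hb : b * b * b = 1) (hb1 : b ≠ 1) (hab : a * b = b * a) : b = a ∨ b = a * a := by
  by_contra hc
  push Not at hc
  obtain ⟨h1, h2⟩ := hc
  have hu : IsUnit ((ρ (b * a⁻¹) - 1) * ρ a) :=
    (h.isUnit_sub_one (mul_inv_eq_one.not.mpr h1)).mul ((Group.isUnit a).map ρ)
  rw [sub_mul, one_mul, ← map_mul, inv_mul_cancel_right] at hu
  have e : (ρ b - ρ a) * (ρ b - ρ a * ρ a) =
      (ρ b * ρ b + ρ b + 1) - (ρ a * ρ a + ρ a + 1) * ρ b + ((ρ a * ρ a) * ρ b - ρ b * (ρ a * ρ a))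
        + (ρ a * ρ a * ρ a - 1) := by
    noncomm_ring
  have hc' : (ρ a * ρ a) * ρ b = ρ b * (ρ a * ρ a) := by
    have hc : Commute a b := hab
    have := ((hc.map ρ).mul_left (hc.map ρ)).eq
    exact this
  rw [h.cube ha ha1, h.cube hb hb1, hc', sub_self, ← map_mul, ← map_mul, ha, map_one, sub_self,
    zero_mul, sub_zero, add_zero, add_zero, hu.mul_right_eq_zero, sub_eq_zero] at e
  exact h2 (h.injective e)

variable [IsAlgClosed k]

/-- Commuting elements of prime exponent `p` generate a cyclic group. -/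
theorem IsFpf.mem_zpowers (h : IsFpf ρ) {a b : G} {p : ℕ} (hp : p.Prime) (ha : a ^ p = 1)
    (ha1 : a ≠ 1) (hb : b ^ p = 1) (hab : a * b = b * a) : b ∈ Subgroup.zpowers a := by
  have : NeZero p := ⟨hp.ne_zero⟩
  obtain ⟨μ, hμ⟩ := Module.End.exists_eigenvalue (ρ a)
  let W := Module.End.eigenspace (ρ a) μ
  have hinv : ∀ w ∈ W, ρ b w ∈ W := fun w hw => by
    rw [Module.End.mem_eigenspace_iff] at hw ⊢
    rw [← Module.End.mul_apply, ← map_mul, hab, map_mul, Module.End.mul_apply, hw, map_smul]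
  have : Nontrivial W := Submodule.nontrivial_iff_ne_bot.mpr hμ
  obtain ⟨ν, hν⟩ := Module.End.exists_eigenvalue ((ρ b).restrict hinv)
  obtain ⟨w, hw, hw0⟩ := Submodule.exists_mem_ne_zero_of_ne_bot hν
  rw [Module.End.mem_eigenspace_iff] at hw
  have hbw : ρ b (w : V) = ν • (w : V) := congrArg Subtype.val hw
  have haw : ρ a (w : V) = μ • (w : V) := Module.End.mem_eigenspace_iff.mp w.2
  have hw0' : (w : V) ≠ 0 := fun e => hw0 (Subtype.ext e)
  have hpow : ∀ (g : G) (c : k) (n : ℕ), ρ g (w : V) = c • (w : V) →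
      ρ (g ^ n) (w : V) = c ^ n • (w : V) := by
    intro g c n hg
    induction n with
    | zero => simp
    | succ n ih => rw [pow_succ, map_mul, Module.End.mul_apply, hg, map_smul, ih, smul_smul, pow_succ']
  have hroot : ∀ (g : G) (c : k), g ^ p = 1 → ρ g (w : V) = c • (w : V) → c ^ p = 1 := by
    intro g c hg hc
    have := hpow g c p hc
    rw [hg, map_one, Module.End.one_apply] at this
    exact smul_left_injective k hw0' (by simpa using this.symm)
  have hμ1 : μ ≠ 1 := fun e => hw0' (h a ha1 _ (by rw [haw, e, one_smul]))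
  have hprim : IsPrimitiveRoot μ p := by
    have := Fact.mk hp
    have := orderOf_eq_prime (p := p) (hroot a μ ha haw) hμ1
    exact this ▸ IsPrimitiveRoot.orderOf μ
  obtain ⟨i, -, hi⟩ := hprim.eq_pow_of_pow_eq_one (hroot b ν hb hbw)
  have hfix : ρ ((a ^ i)⁻¹ * b) (w : V) = w := by
    have h1 := hpow a μ i haw
    rw [hi, ← hbw] at h1
    rw [map_mul, Module.End.mul_apply, ← h1, ← Module.End.mul_apply, ← map_mul, inv_mul_cancel,
      map_one, Module.End.one_apply]
  rw [Subgroup.mem_zpowers_iff]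
  refine ⟨i, ?_⟩
  rw [zpow_natCast]
  by_contra hne
  exact hw0' (h _ (fun e => hne (inv_mul_eq_one.mp e)) _ hfix)

omit [Nontrivial V] [IsAlgClosed k] [FiniteDimensional k V] in
/-- Commuting with generators is commuting with all of the group. -/
theorem commute_of_closure {σ : Module.End k V} {T : Set G} (hT : Subgroup.closure T = ⊤)
    (hc : ∀ t ∈ T, Commute σ (ρ t)) (g : G) : Commute σ (ρ g) := by
  have hg : g ∈ Subgroup.closure T := hT ▸ Subgroup.mem_top g
  induction hg using Subgroup.closure_induction with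
  | mem x hx => exact hc x hx
  | one => rw [map_one]; exact Commute.one_right _
  | mul x y _ _ hx hy => rw [map_mul]; exact hx.mul_right hy
  | inv x _ hx => exact Commute.units_inv_right (u := ρ.toHomUnits x) hx

omit [Nontrivial V] in
/-- An irreducible constituent: every commuting endomorphism is a scalar. -/
theorem IsFpf.exists_irreducible [Nontrivial V] (h : IsFpf ρ) :
    ∃ (W : Submodule k V) (ρ' : G →* Module.End k W), Nontrivial W ∧ IsFpf ρ' ∧
      ∀ σ : Module.End k W, (∀ g, Commute σ (ρ' g)) → ∃ μ : k, σ = μ • 1 := by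
  obtain ⟨W, ⟨hW0, hWinv⟩, hmin⟩ := wellFounded_lt.has_min
    {W : Submodule k V | W ≠ ⊥ ∧ ∀ g, ∀ w ∈ W, ρ g w ∈ W} ⟨⊤, top_ne_bot, fun _ _ _ => trivial⟩
  let ρ' : G →* Module.End k W :=
    { toFun := fun g => (ρ g).restrict (hWinv g)
      map_one' := by ext w; simp [LinearMap.restrict_apply]
      map_mul' := fun g g' => by ext w; simp [LinearMap.restrict_apply] }
  have : Nontrivial W := Submodule.nontrivial_iff_ne_bot.mpr hW0
  refine ⟨W, ρ', this, fun g hg w hw => Subtype.ext (h g hg w (congrArg Subtype.val hw)), fun σ hσ => ?_⟩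
  obtain ⟨μ, hμ⟩ := Module.End.exists_eigenvalue σ
  let U := (Module.End.eigenspace σ μ).map W.subtype
  have hU0 : U ≠ ⊥ := fun e => hμ ((Submodule.map_injective_of_injective W.injective_subtype)
    (e.trans (Submodule.map_bot _).symm))
  have hUinv : ∀ g, ∀ w ∈ U, ρ g w ∈ U := by
    rintro g _ ⟨w, hw, rfl⟩
    refine ⟨ρ' g w, ?_, rfl⟩
    rw [SetLike.mem_coe, Module.End.mem_eigenspace_iff] at hw ⊢
    rw [← Module.End.mul_apply, (hσ g).eq, Module.End.mul_apply, hw, map_smul]
  have hUW : U = W := by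
    rcases (Submodule.map_subtype_le W _).lt_or_eq with hlt | heq
    · exact absurd hlt (hmin U ⟨hU0, hUinv⟩)
    · exact heq
  refine ⟨μ, LinearMap.ext fun w => ?_⟩
  have hw : (w : V) ∈ U := hUW.symm ▸ w.2
  obtain ⟨w', hw', he⟩ := hw
  obtain rfl : w' = w := Subtype.ext he
  exact Module.End.mem_eigenspace_iff.mp hw'

end Cfsg.Agent.H21.Zass
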