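import Cfsg.Agent.H21.FrobeniusStructure
import Cfsg.Agent.H21.Zassenhaus.Setting
import Cfsg.Agent.H22.Frobenius
import Cfsg.Agent.H23.QuaternionAut
import Mathlib.FieldTheory.IsAlgClosed.AlgebraicClosure
import Mathlib.LinearAlgebra.Dimension.Constructions
import Mathlib.LinearAlgebra.TensorProduct.Tower
import Mathlib.RingTheory.TensorProduct.Free

/-!
Fixed-point-free actions on finite groups: linear representation, Sylow subgroups, elements of
order 3.
-/

namespace Cfsg.Agent.H21.Zass

open scoped TensorProduct IsMulCommutative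

universe u

variable {G : Type*} [Group G] [Finite G] {K : Type u} [Group K] [Finite K] [Nontrivial K]

/-- A fixed-point-free linear representation over an algebraically closed field from a
fixed-point-free action on a finite group. -/
theorem exists_rep [Nontrivial G] (ψ : G →* MulAut K)
    (hfpf : ∀ e : G, e ≠ 1 → ∀ x : K, ψ e x = x → x = 1) :
    ∃ (k : Type) (_ : Field k) (_ : IsAlgClosed k) (V : Type u) (_ : AddCommGroup V)
      (_ : Module k V) (_ : FiniteDimensional k V) (_ : Nontrivial V) (ρ : G →* Module.End k V),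
      IsFpf ρ := by
  have := isNilpotent_of_fpf_group ψ hfpf
  obtain ⟨hC, χ, hχ⟩ := center_fpf ψ hfpf
  obtain ⟨r, hr, hrdvd⟩ := Nat.exists_prime_and_dvd (Finite.one_lt_card (α := Subgroup.center K)).ne'
  have := Fact.mk hr
  let W : Subgroup (Subgroup.center K) :=
    { carrier := {v | v ^ r = 1}
      one_mem' := one_pow r
      mul_mem' := fun {a b} (ha : a ^ r = 1) (hb : b ^ r = 1) =>
        show (a * b) ^ r = 1 by rw [mul_pow, ha, hb, one_mul]
      inv_mem' := fun {a} (ha : a ^ r = 1) => show a⁻¹ ^ r = 1 by rw [inv_pow, ha, inv_one] }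
  have hW : ∀ e : G, ∀ v ∈ W, χ e v ∈ W := fun e v (hv : v ^ r = 1) =>
    show (χ e v) ^ r = 1 by rw [← map_pow, hv, map_one]
  obtain ⟨w, hw⟩ := exists_prime_orderOf_dvd_card' (G := Subgroup.center K) r hrdvd
  have : Nontrivial (Additive W) :=
    ⟨⟨Additive.ofMul (⟨w, show w ^ r = 1 from hw ▸ pow_orderOf_eq_one w⟩ : W), 0, fun e =>
      hr.ne_one (by rw [← hw, show w = 1 from congrArg (fun a : Additive W => (a.toMul : Subgroup.center K)) e,
        orderOf_one])⟩⟩
  have hmod : Module (ZMod r) (Additive W) := AddCommGroup.zmodModule (n := r) fun x => by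
    apply Additive.toMul.injective
    rw [toMul_nsmul, toMul_zero]
    exact Subtype.ext x.toMul.2
  let χ' := restrictAut χ W hW
  let ρ₀ : G →* Module.End (ZMod r) (Additive W) :=
    { toFun := fun g => AddMonoidHom.toZModLinearMap r (MonoidHom.toAdditive (χ' g).toMonoidHom)
      map_one' := by ext v; simp
      map_mul' := fun a b => by ext v; simp }
  have h₀ : ∀ g : G, g ≠ 1 → IsUnit (ρ₀ g - 1) := fun g hg => by
    rw [LinearMap.isUnit_iff_ker_eq_bot, LinearMap.ker_eq_bot']
    intro v hv
    rw [LinearMap.sub_apply, sub_eq_zero, Module.End.one_apply] at hv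
    refine Additive.toMul.injective (Subtype.ext ?_)
    exact hχ g hg _ (congrArg (fun a : Additive W => (a.toMul : Subgroup.center K)) hv)
  let k := AlgebraicClosure (ZMod r)
  let ρ : G →* Module.End k (k ⊗[ZMod r] Additive W) :=
    (Module.End.baseChangeHom (ZMod r) k (Additive W)).toMonoidHom.comp ρ₀
  refine ⟨k, inferInstance, inferInstance, k ⊗[ZMod r] Additive W, inferInstance, inferInstance,
    inferInstance, ?_, ρ, fun g hg v hv => ?_⟩
  · apply Module.nontrivial_of_finrank_pos (R := k)
    rw [Module.finrank_baseChange]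
    exact Module.finrank_pos
  · have hu : IsUnit (ρ g - 1) := by
      have := (h₀ g hg).map (Module.End.baseChangeHom (ZMod r) k (Additive W))
      rwa [map_sub, map_one] at this
    rw [LinearMap.isUnit_iff_ker_eq_bot, LinearMap.ker_eq_bot'] at hu
    exact hu v (by rw [LinearMap.sub_apply, hv, Module.End.one_apply, sub_self])

/-- Odd Sylow subgroups are cyclic. -/
theorem sylow_cyclic (ψ : G →* MulAut K) (hfpf : ∀ e : G, e ≠ 1 → ∀ x : K, ψ e x = x → x = 1)
    {p : ℕ} [Fact p.Prime] (hp : p ≠ 2) {P : Subgroup G} (hP : IsPGroup p P) : IsCyclic P := by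
  rcases cyclic_or_quaternion p hP (unique_subgroup_of_fpf hP (ψ.comp P.subtype)
    fun e he x hx => hfpf e (fun h => he (Subtype.ext h)) x hx) with h | ⟨h2, -⟩
  exacts [h, absurd h2 hp]

/-- A fixed-point-free group without normal `2`-complement has an element of order 3. -/
theorem exists_three (ψ : G →* MulAut K) (hfpf : ∀ e : G, e ≠ 1 → ∀ x : K, ψ e x = x → x = 1)
    (hnc : ¬ HasNormalPComplement 2 G) : 3 ∣ Nat.card G := by
  obtain ⟨D, hD, g, hg, hg2, hgc⟩ : ∃ D : Subgroup G, IsPGroup 2 D ∧
      ∃ g ∈ Subgroup.normalizer (D : Set G), Nat.Coprime (orderOf g) 2 ∧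
        g ∉ Subgroup.centralizer (D : Set G) := by
    by_contra hne
    refine hnc (H22.hasNormalPComplement_of_frobenius fun D hD g hg hg2 => ?_)
    by_contra hgc
    exact hne ⟨D, hD, g, hg, hg2, hgc⟩
  let σ : Subgroup.normalizer (D : Set G) →* MulAut D := conjHom le_rfl
  set g' : Subgroup.normalizer (D : Set G) := ⟨g, hg⟩ with hg'
  have hσ : σ g' ≠ 1 := fun e => hgc <| Subgroup.mem_centralizer_iff.mpr fun d hd => by
    have h1 : g * d * g⁻¹ = d := congrArg (fun f : MulAut D => (f ⟨d, hd⟩ : G)) e
    exact (mul_inv_eq_iff_eq_mul.mp h1).symm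
  have hr : Odd (orderOf g') := by
    rw [← Subgroup.orderOf_coe, ← Nat.coprime_two_right]; exact hg2
  have hσr : σ g' ^ orderOf g' = 1 := by rw [← map_pow, pow_orderOf_eq_one, map_one]
  have h3 : σ g' ^ 3 = 1 := by
    rcases cyclic_or_quaternion 2 hD (unique_subgroup_of_fpf hD (ψ.comp D.subtype)
      fun e he x hx => hfpf e (fun h => he (Subtype.ext h)) x hx) with h | ⟨-, n, ⟨e⟩⟩
    · exact absurd (H23.mulAut_eq_one_of_isCyclic hD _ hr hσr) hσ
    · set τ := MulAut.congr (e.trans Subgroup.topEquiv.symm) (σ g') with hτ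
      have hτr : τ ^ orderOf g' = 1 := by rw [hτ, ← map_pow, hσr, map_one]
      have hτ1 : τ ≠ 1 := fun e1 => hσ ((MulAut.congr _).injective (e1.trans (map_one _).symm))
      obtain ⟨f⟩ := H23.q8_of_odd_auto ⊤ τ hr hτr hτ1
      have h := (H23.exists_sl_conj (MulAut.congr f.symm τ) hr (by rw [← map_pow, hτr, map_one])
        fun e1 => hτ1 ((MulAut.congr f.symm).injective (e1.trans (map_one _).symm))).1
      rw [hτ, ← map_pow, ← map_pow] at h
      exact (MulAut.congr _).injective
        ((((MulAut.congr f.symm).injective (h.trans (map_one _).symm))).trans (map_one _).symm)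
  have : orderOf (σ g') = 3 := by
    have := Fact.mk Nat.prime_three
    exact orderOf_eq_prime h3 hσ
  calc 3 = orderOf (σ g') := this.symm
    _ ∣ orderOf g' := orderOf_map_dvd σ g'
    _ = orderOf g := (Subgroup.orderOf_coe g').symm
    _ ∣ Nat.card G := orderOf_dvd_natCard g

end Cfsg.Agent.H21.Zass
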