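import Cfsg.Agent.H21.Zassenhaus.Relation

/-!
Covers of subgroups generated by two, three or four elements of order 3.
-/

namespace Cfsg.Agent.H21.Zass

variable {k : Type*} [Field k] [IsAlgClosed k] {V : Type*} [AddCommGroup V] [Module k V]
  [FiniteDimensional k V] [Nontrivial V] {G : Type*} [Group G] [Finite G]
  {ρ : G →* Module.End k V}

omit [IsAlgClosed k] [Finite G] in
theorem IsFpf.invol_central (h : IsFpf ρ) : InvolCentral G := fun g hg =>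
  ⟨h.involution_central hg.1 hg.2, fun _ hg' => h.involution_unique hg'.1 hg'.2 hg.1 hg.2⟩

omit [IsAlgClosed k] [Finite G] in
theorem cval_of_relG (h : IsFpf ρ) {x y : G} (hx : IsThree x) (hy : IsThree y) (hr : RelG x y) :
    ∃ c : k, c * c + c = 0 ∧ cval (ρ x) (ρ y) = c • 1 := by
  rcases hr.2 with hi | hi
  · exact ⟨-1, by ring, by rw [cval_plus_of_invol h hx.1 hx.2 hy.1 hy.2 hi, neg_one_smul]⟩
  · refine ⟨0, by ring, ?_⟩
    rw [zero_smul]
    refine cval_of_minus (h.cube hx.1 hx.2) (h.cube hy.1 hy.2) ?_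
    rw [← map_mul, ← map_mul, ← map_mul, show y * y = y⁻¹ from eq_inv_of_mul_eq_one_left hy.1]
    exact h.eq_neg_one hi.1 hi.2

omit [IsAlgClosed k] [Finite G] in
theorem five_cval (h : IsFpf ρ) {x y : G} (hx : IsThree x) (hy : IsThree y)
    (hne : x * y ≠ y * x) (h5 : (x * y) ^ 5 * (x * y) ^ 5 = 1) :
    ∃ e : k, e * e = 1 ∧
      (cval (ρ x) (ρ y) + 1) * (cval (ρ x) (ρ y) + 1) + e • (cval (ρ x) (ρ y) + 1) = 1 := by
  have hg1 : x * y ≠ 1 := fun e => hne (by rw [e, mul_eq_one_comm.mp e])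
  have hsum : ρ (x * y) + ρ (x * y)⁻¹ = cval (ρ x) (ρ y) + 1 := by
    have e : (x * y)⁻¹ = (y * y) * (x * x) := by
      rw [mul_inv_rev, eq_inv_of_mul_eq_one_left hy.1, eq_inv_of_mul_eq_one_left hx.1]
    rw [e, map_mul, map_mul, map_mul, map_mul]
    have ex : ρ x * ρ x = -1 - ρ x := by rw [← sub_eq_zero, ← h.cube hx.1 hx.2]; abel
    have ey : ρ y * ρ y = -1 - ρ y := by rw [← sub_eq_zero, ← h.cube hy.1 hy.2]; abel
    rw [ex, ey, cval]; noncomm_ring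
  rw [← hsum]
  generalize hg : x * y = g at h5 hg1 ⊢
  by_cases hg5 : g ^ 5 = 1
  · refine ⟨1, one_mul 1, ?_⟩
    have := five_relation (h := ρ g) (by simpa [map_pow, pow_succ] using congrArg ρ hg5)
      (h.isUnit_sub_one hg1)
    have e : ρ g * ρ g * ρ g * ρ g = ρ g⁻¹ := by
      rw [← map_mul, ← map_mul, ← map_mul]
      congr 1
      rw [← mul_eq_one_iff_eq_inv, ← hg5]; simp only [pow_succ, pow_zero, one_mul]
    rw [e] at this
    rwa [one_smul]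
  · refine ⟨-1, by ring, ?_⟩
    have hi : ρ (g ^ 5) = -1 := h.eq_neg_one h5 hg5
    have h6 : g ^ 6 ≠ 1 := by
      intro e
      have h2 : g * g = 1 := by
        have : g ^ (Nat.gcd 6 10) = 1 := pow_gcd_eq_one.mpr ⟨e, by rw [← h5, ← pow_add]⟩
        rw [show Nat.gcd 6 10 = 2 from rfl, pow_two] at this
        exact this
      have hc := h.involution_central h2 hg1 x
      rw [← hg, mul_assoc] at hc
      exact hne (mul_left_cancel hc).symm
    have hh : ρ (g ^ 6) = -ρ g := by rw [pow_succ, map_mul, hi, neg_one_mul]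
    have h30 : g ^ 6 * g ^ 6 * g ^ 6 * g ^ 6 * g ^ 6 = 1 := by
      calc _ = (g ^ 5 * g ^ 5) ^ 3 := by simp only [← pow_add, ← pow_mul]
        _ = 1 := by rw [h5, one_pow]
    have := five_relation (h := ρ (g ^ 6)) (by rw [← map_mul, ← map_mul, ← map_mul, ← map_mul, h30, map_one])
      (h.isUnit_sub_one h6)
    have e : ρ g * ρ g * ρ g * ρ g = -ρ g⁻¹ := by
      calc _ = ρ (g ^ 5 * g⁻¹) := by
            rw [← map_mul, ← map_mul, ← map_mul]
            simp only [pow_succ, pow_zero, one_mul, mul_inv_cancel_right]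
        _ = -ρ g⁻¹ := by rw [map_mul, hi, neg_one_mul]
    rw [hh] at this
    simp only [neg_mul, mul_neg, neg_neg] at this
    rw [e] at this
    rw [← this, neg_one_smul]
    noncomm_ring

omit [IsAlgClosed k] [Finite G] in
theorem cval_inv (h : IsFpf ρ) {x y : G} (hy : IsThree y) :
    cval (ρ x) (ρ y⁻¹) + 1 = -cval (ρ x) (ρ y) := by
  rw [← eq_inv_of_mul_eq_one_left hy.1, map_mul,
    show ρ y * ρ y = -1 - ρ y by rw [← sub_eq_zero, ← h.cube hy.1 hy.2]; abel, cval, cval]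
  noncomm_ring

/-- Two noncommuting elements of order 3 generate a cover. -/
theorem cover_pair (h : IsFpf ρ) {x a : G} (hT : Subgroup.closure {x, a} = ⊤) (hx : IsThree x)
    (ha : IsThree a) (hne : x * a ≠ a * x) :
    ∃ θ : G →* alternatingGroup (Fin 5), IsCover θ := by
  obtain ⟨W, σ, _, hσ, hirr⟩ := h.exists_irreducible
  obtain ⟨c, hc⟩ := scalar_of_commute hirr hT (σ := cval (σ x) (σ a)) (by
    rintro t (rfl | rfl)
    · exact commute_cval (hσ.cube hx.1 hx.2) _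
    · exact commute_cval_right (hσ.cube ha.1 ha.2) _)
  obtain ⟨θ, hθ⟩ := exists_embedding_of_adjoin hσ hT
    (by rintro t (rfl | rfl); exacts [hx.1, ha.1]) hx.1 hx.2 ha.1 hne hc
    (by rintro t (rfl | rfl) <;> exact Algebra.subset_adjoin (by simp))
  exact ⟨θ, hθ, h.invol_central⟩

/-- Three elements of order 3, one related to both others, generate a cover. -/
theorem cover_triple (h : IsFpf ρ) {x a b : G} (hT : Subgroup.closure {x, a, b} = ⊤) (hx : IsThree x)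
    (ha : IsThree a) (hb : IsThree b) (hxa : RelG x a) (hxb : RelG x b) :
    ∃ θ : G →* alternatingGroup (Fin 5), IsCover θ := by
  have h2 : (2 : k) ≠ 0 := by
    rcases hxa.2 with hi | hi <;> exact h.two_ne_zero hi.1 hi.2
  obtain ⟨W, σ, _, hσ, hirr⟩ := h.exists_irreducible
  obtain ⟨c, hc0, hc⟩ := cval_of_relG hσ hx ha hxa
  obtain ⟨c', -, hc'⟩ := cval_of_relG hσ hx hb hxb
  have hm := triple_mem hirr hT h2 (hσ.cube hx.1 hx.2) (hσ.cube ha.1 ha.2) (hσ.cube hb.1 hb.2)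
    hc hc0 hc'
  obtain ⟨θ, hθ⟩ := exists_embedding_of_adjoin hσ hT
    (by rintro t (rfl | rfl | rfl); exacts [hx.1, ha.1, hb.1]) hx.1 hx.2 ha.1 hxa.1 hc
    (by rintro t (rfl | rfl | rfl); exacts [Algebra.subset_adjoin (by simp),
      Algebra.subset_adjoin (by simp), hm])
  exact ⟨θ, hθ, h.invol_central⟩

/-- Four elements of order 3 in the configuration at angle five generate a cover. -/
theorem cover_quad (h : IsFpf ρ) {p q₁ q₂ y : G} (hT : Subgroup.closure {p, q₁, q₂, y} = ⊤)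
    (hp : IsThree p) (h₁ : IsThree q₁) (h₂ : IsThree q₂) (hy : IsThree y) (r₁ : RelG p q₁)
    (r₂ : RelG p q₂) (r₃ : RelG p y) (r₄ : RelG q₁ y) (r₅ : RelG q₂ y) (hne : q₁ * q₂ ≠ q₂ * q₁)
    (f₁ : (q₁ * q₂) ^ 5 * (q₁ * q₂) ^ 5 = 1) (f₂ : (q₁ * q₂⁻¹) ^ 5 * (q₁ * q₂⁻¹) ^ 5 = 1)
    (r₆ : RelG q₂ (p * q₁ * p⁻¹) ∨ RelG q₂ (p⁻¹ * q₁ * p)) :
    ∃ θ : G →* alternatingGroup (Fin 5), IsCover θ := by
  have h2 : (2 : k) ≠ 0 := by
    rcases r₁.2 with hi | hi <;> exact h.two_ne_zero hi.1 hi.2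
  obtain ⟨W, σ, _, hσ, hirr⟩ := h.exists_irreducible
  obtain ⟨c₁, hc₁0, hc₁⟩ := cval_of_relG hσ hp h₁ r₁
  obtain ⟨c₂, hc₂0, hc₂⟩ := cval_of_relG hσ hp h₂ r₂
  obtain ⟨c₃, -, hc₃⟩ := cval_of_relG hσ hp hy r₃
  obtain ⟨c₄, -, hc₄⟩ := cval_of_relG hσ h₁ hy r₄
  obtain ⟨c₅, -, hc₅⟩ := cval_of_relG hσ h₂ hy r₅
  obtain ⟨e₁, he₁, hr₁⟩ := five_cval hσ h₁ h₂ hne f₁
  obtain ⟨e₂, he₂, hr₂⟩ := five_cval hσ h₁ (isThree_inv h₂)
    (fun e => hne (Commute.inv_right_iff.mp e)) f₂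
  rw [cval_inv hσ h₂] at hr₂
  have hpi : p⁻¹ = p * p := (eq_inv_of_mul_eq_one_left hp.1).symm
  obtain ⟨M, hM, c₆, hc₆⟩ : ∃ M : Module.End k W,
      (M = σ p * σ q₁ * (σ p * σ p) ∨ M = (σ p * σ p) * σ q₁ * σ p) ∧
        ∃ c₆ : k, cval (σ q₂) M = c₆ • 1 := by
    rcases r₆ with r | r
    · obtain ⟨c, -, hc⟩ := cval_of_relG hσ h₂ (isThree_conj h₁ p) r
      exact ⟨σ (p * q₁ * p⁻¹), Or.inl (by rw [hpi, map_mul, map_mul, map_mul]), c, hc⟩
    · obtain ⟨c, -, hc⟩ := cval_of_relG hσ h₂ (by simpa using isThree_conj h₁ p⁻¹) r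
      exact ⟨σ (p⁻¹ * q₁ * p), Or.inr (by rw [hpi, map_mul, map_mul, map_mul]), c, hc⟩
  obtain ⟨m₂, my⟩ := quad_mem hirr hT h2 (hσ.cube hp.1 hp.2) (hσ.cube h₁.1 h₁.2) (hσ.cube h₂.1 h₂.2)
    hc₁ hc₁0 hc₂ hc₂0 hc₃ hc₄ hc₅ hM hc₆ ⟨e₁, e₂, he₁, he₂, hr₁, hr₂⟩
  obtain ⟨θ, hθ⟩ := exists_embedding_of_adjoin hσ hT
    (by rintro t (rfl | rfl | rfl | rfl); exacts [hp.1, h₁.1, h₂.1, hy.1]) hp.1 hp.2 h₁.1 r₁.1 hc₁
    (by rintro t (rfl | rfl | rfl | rfl); exacts [Algebra.subset_adjoin (by simp),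
      Algebra.subset_adjoin (by simp), m₂, my])
  exact ⟨θ, hθ, h.invol_central⟩

end Cfsg.Agent.H21.Zass
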