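import Cfsg.Agent.H21.Zassenhaus.Generated

/-!
The elements of order 3 of a finite fixed-point-free linear group.
-/

namespace Cfsg.Agent.H21.Zass

variable {k : Type*} [Field k] [IsAlgClosed k] {V : Type*} [AddCommGroup V] [Module k V]
  [FiniteDimensional k V] [Nontrivial V] {G : Type*} [Group G] [Finite G]
  {ρ : G →* Module.End k V}

omit [Finite G] in
theorem closure_subtype_eq_top {H : Subgroup G} {S : Set H}
    (hS : Subgroup.closure (Subtype.val '' S) = H) : Subgroup.closure S = ⊤ := by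
  apply Subgroup.map_injective H.subtype_injective
  rw [MonoidHom.map_closure, ← MonoidHom.range_eq_map, Subgroup.range_subtype]
  exact hS

/-- The cover of the subgroup generated by a set. -/
def HasCover (T : Set G) : Prop :=
  ∃ θ : ↥(Subgroup.closure T) →* alternatingGroup (Fin 5), IsCover θ

theorem hasCover_pair (h : IsFpf ρ) {x a : G} (hx : IsThree x) (ha : IsThree a)
    (hne : x * a ≠ a * x) : HasCover ({x, a} : Set G) := by
  set H := Subgroup.closure ({x, a} : Set G) with hH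
  refine cover_pair (h.comp H.subtype_injective)
    (x := (⟨x, Subgroup.subset_closure (by simp)⟩ : H)) (a := ⟨a, Subgroup.subset_closure (by simp)⟩)
    (closure_subtype_eq_top (by simp [Set.image_insert_eq])) ((isThree_map H.subtype_injective).mp hx)
    ((isThree_map H.subtype_injective).mp ha) fun e => hne (congrArg Subtype.val e)

theorem hasCover_triple (h : IsFpf ρ) {x a b : G} (hx : IsThree x) (ha : IsThree a) (hb : IsThree b)
    (hxa : RelG x a) (hxb : RelG x b) : HasCover ({x, a, b} : Set G) := by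
  set H := Subgroup.closure ({x, a, b} : Set G) with hH
  exact cover_triple (h.comp H.subtype_injective)
    (x := (⟨x, Subgroup.subset_closure (by simp)⟩ : H)) (a := ⟨a, Subgroup.subset_closure (by simp)⟩)
    (b := ⟨b, Subgroup.subset_closure (by simp)⟩)
    (closure_subtype_eq_top (by simp [Set.image_insert_eq])) ((isThree_map H.subtype_injective).mp hx)
    ((isThree_map H.subtype_injective).mp ha) ((isThree_map H.subtype_injective).mp hb)
    ((relG_map H.subtype_injective).mp hxa) ((relG_map H.subtype_injective).mp hxb)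

theorem hasCover_quad (h : IsFpf ρ) {p q₁ q₂ y : G} (hp : IsThree p) (h₁ : IsThree q₁)
    (h₂ : IsThree q₂) (hy : IsThree y) (r₁ : RelG p q₁) (r₂ : RelG p q₂) (r₃ : RelG p y)
    (r₄ : RelG q₁ y) (r₅ : RelG q₂ y) (hne : q₁ * q₂ ≠ q₂ * q₁)
    (f₁ : (q₁ * q₂) ^ 5 * (q₁ * q₂) ^ 5 = 1) (f₂ : (q₁ * q₂⁻¹) ^ 5 * (q₁ * q₂⁻¹) ^ 5 = 1)
    (r₆ : RelG q₂ (p * q₁ * p⁻¹) ∨ RelG q₂ (p⁻¹ * q₁ * p)) :
    HasCover ({p, q₁, q₂, y} : Set G) := by
  set H := Subgroup.closure ({p, q₁, q₂, y} : Set G) with hH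
  have i := H.subtype_injective
  exact cover_quad (h.comp i)
    (p := (⟨p, Subgroup.subset_closure (by simp)⟩ : H)) (q₁ := ⟨q₁, Subgroup.subset_closure (by simp)⟩)
    (q₂ := ⟨q₂, Subgroup.subset_closure (by simp)⟩) (y := ⟨y, Subgroup.subset_closure (by simp)⟩)
    (closure_subtype_eq_top (by simp [Set.image_insert_eq]))
    ((isThree_map i).mp hp) ((isThree_map i).mp h₁) ((isThree_map i).mp h₂) ((isThree_map i).mp hy)
    ((relG_map i).mp r₁) ((relG_map i).mp r₂) ((relG_map i).mp r₃) ((relG_map i).mp r₄)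
    ((relG_map i).mp r₅) (fun e => hne (congrArg Subtype.val e)) (Subtype.ext f₁) (Subtype.ext f₂)
    (r₆.imp (fun r => (relG_map i).mp r) fun r => (relG_map i).mp r)

theorem pairG (h : IsFpf ρ) {x y : G} (hx : IsThree x) (hy : IsThree y) (hne : x * y ≠ y * x) :
    (¬ RelG x y → (x * y) ^ 5 * (x * y) ^ 5 = 1 ∧
      ∃ w ∈ Subgroup.closure ({x, y} : Set G), IsThree w ∧ RelG x w ∧ RelG w y) ∧
    (RelG x y → ∀ u ∈ tetra x y, ∀ v ∈ tetra x y, u * v = v * u ∨ RelG u v) := by
  obtain ⟨θ, C⟩ := hasCover_pair h hx hy hne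
  set H := Subgroup.closure ({x, y} : Set G) with hH
  have i := H.subtype_injective
  set x' : H := ⟨x, Subgroup.subset_closure (by simp)⟩ with hx'
  set y' : H := ⟨y, Subgroup.subset_closure (by simp)⟩ with hy'
  obtain ⟨h1, h2⟩ := C.pair_facts (x := x') (y := y') ((isThree_map i).mp hx) ((isThree_map i).mp hy)
  refine ⟨fun hr => ?_, fun hr u hu v hv => ?_⟩
  · obtain ⟨h5, w, hw, r1, r2⟩ :=
      h1 (fun e => hne (congrArg Subtype.val e)) fun e => hr ((relG_map i).mpr e)
    exact ⟨congrArg Subtype.val h5, w, w.2, (isThree_map i).mpr hw, (relG_map i).mpr r1,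
      (relG_map i).mpr r2⟩
  · have m : tetra x y = (tetra x' y').map H.subtype := tetra_hom H.subtype x' y'
    rw [m, List.mem_map] at hu hv
    obtain ⟨u, hu, rfl⟩ := hu
    obtain ⟨v, hv, rfl⟩ := hv
    exact (h2 ((relG_map i).mp hr) u hu v hv).imp (fun e => congrArg Subtype.val e)
      fun e => (relG_map i).mpr e

omit [IsAlgClosed k] [Nontrivial V] [FiniteDimensional k V] in
theorem card_le_of_cover {θ : G →* alternatingGroup (Fin 5)} (C : IsCover θ) : Nat.card G ≤ 120 := by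
  have hk : Nat.card θ.ker ≤ 2 := by
    by_contra hc
    obtain ⟨a, b, hab, ha, hb⟩ : ∃ a b : θ.ker, a ≠ b ∧ a ≠ 1 ∧ b ≠ 1 := by
      classical
      have := Fintype.ofFinite θ.ker
      rw [Nat.card_eq_fintype_card, not_le] at hc
      have h1 : 1 < (Finset.univ.erase (1 : θ.ker)).card := by
        rw [Finset.card_erase_of_mem (Finset.mem_univ _), Finset.card_univ]; omega
      obtain ⟨a, ha, b, hb, hab⟩ := Finset.one_lt_card.mp h1
      exact ⟨a, b, hab, Finset.ne_of_mem_erase ha, Finset.ne_of_mem_erase hb⟩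
    have inv : ∀ c : θ.ker, c ≠ 1 → IsInvol (c : G) := fun c hc' =>
      ⟨C.ker _ c.2, fun e => hc' (Subtype.ext e)⟩
    exact hab (Subtype.ext ((C.invol _ (inv b hb)).2 _ (inv a ha)))
  have hr : Nat.card θ.range ≤ 60 := by
    refine (Subgroup.card_le_card_group _).trans ?_
    rw [Nat.card_eq_fintype_card]; decide +kernel
  calc Nat.card G = θ.ker.index * Nat.card θ.ker := θ.ker.index_mul_card.symm
    _ ≤ 60 * 2 := Nat.mul_le_mul ((Subgroup.index_ker θ).trans_le hr) hk

theorem tripleG (h : IsFpf ρ) {x a b : G} (hx : IsThree x) (ha : IsThree a) (hb : IsThree b)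
    (hxa : RelG x a) (hxb : RelG x b) (hn : b ∉ tetra x a) :
    (∃ d ∈ others x a, RelG d b) ∧
    (RelG a b → IsInvol ((x * a) * (x * a)) → IsInvol ((x * b) * (x * b)) →
      IsInvol ((a * b) * (a * b))) ∧
    (∀ a' ∈ others x a, ∀ b' ∈ others x b,
      RelG x a' ∧ RelG x b' ∧ b' ∉ tetra x a' ∧ a' * b' ≠ b' * a') ∧
    Nat.card ↥(Subgroup.closure ({x, a, b} : Set G)) = 120 ∧
    ∃ θ : ↥(Subgroup.closure ({x, a, b} : Set G)) →* alternatingGroup (Fin 5),
      IsCover θ ∧ Function.Surjective θ := by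
  set H := Subgroup.closure ({x, a, b} : Set G) with hH
  obtain ⟨θ, C⟩ : ∃ θ : H →* alternatingGroup (Fin 5), IsCover θ := hasCover_triple h hx ha hb hxa hxb
  have i := H.subtype_injective
  set x' : H := ⟨x, Subgroup.subset_closure (by simp)⟩ with hx'
  set a' : H := ⟨a, Subgroup.subset_closure (by simp)⟩ with ha'
  set b' : H := ⟨b, Subgroup.subset_closure (by simp)⟩ with hb'
  have m : tetra x a = (tetra x' a').map H.subtype := tetra_hom H.subtype x' a'
  obtain ⟨h1, h2, h3, h4⟩ := C.triple_facts (x := x') (a := a') (b := b') ((isThree_map i).mp hx)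
    ((isThree_map i).mp ha) ((isThree_map i).mp hb) ((relG_map i).mp hxa) ((relG_map i).mp hxb)
    (fun e => hn (by rw [m]; exact List.mem_map.mpr ⟨b', e, rfl⟩))
  have o1 : others x a = (others x' a').map H.subtype := others_hom H.subtype x' a'
  have o2 : others x b = (others x' b').map H.subtype := others_hom H.subtype x' b'
  refine ⟨?_, fun r i1 i2 => ?_, fun c hc d hd => ?_, ?_, θ, C, h4⟩
  · obtain ⟨d, hd, hr⟩ := h1
    exact ⟨d, by rw [o1]; exact List.mem_map_of_mem hd, (relG_map i).mpr hr⟩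
  · exact (isInvol_map (x := (a' * b') * (a' * b')) i).mpr
      (h2 ((relG_map i).mp r) ((isInvol_map i).mp i1) ((isInvol_map i).mp i2))
  · rw [o1, List.mem_map] at hc
    rw [o2, List.mem_map] at hd
    obtain ⟨c, hc, rfl⟩ := hc
    obtain ⟨d, hd, rfl⟩ := hd
    obtain ⟨q1, q2, q3, q4⟩ := h3 c hc d hd
    refine ⟨(relG_map (x := x') i).mpr q1, (relG_map (x := x') i).mpr q2, fun e => q3 ?_,
      fun e => q4 (Subtype.ext e)⟩
    have m' : tetra x (H.subtype c) = (tetra x' c).map H.subtype := tetra_hom H.subtype x' c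
    rw [m', List.mem_map] at e
    obtain ⟨u, hu, eu⟩ := e
    rwa [← i eu]
  · refine le_antisymm (card_le_of_cover C) ?_
    obtain ⟨z, hz, hz1⟩ : ∃ z : H, θ z = 1 ∧ z ≠ 1 := by
      have key : ∀ y : H, IsThree y → x' * y ≠ y * x' → IsInvol ((x' * y) * (x' * y)) →
          ∃ z : H, θ z = 1 ∧ z ≠ 1 := fun y hy hne hi =>
        ⟨_, (C.invol_map ((isThree_map (x := x') i).mp hx) hy hne).mpr hi, hi.2⟩
      have ha3 : IsThree a' := (isThree_map i).mp ha
      have hra : RelG x' a' := (relG_map i).mp hxa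
      rcases hra.2 with hi | hi
      · exact key a' ha3 hra.1 hi
      · exact key a'⁻¹ (isThree_inv ha3) hra.inv_right.1 hi
    have h2k : 2 ≤ Nat.card θ.ker := by
      have : Nontrivial θ.ker := ⟨⟨⟨z, hz⟩, 1, fun e => hz1 (congrArg Subtype.val e)⟩⟩
      exact Finite.one_lt_card
    calc 120 = 60 * 2 := rfl
      _ ≤ θ.ker.index * Nat.card θ.ker := by
        refine Nat.mul_le_mul (le_of_eq ?_) h2k
        rw [Subgroup.index_ker, MonoidHom.range_eq_top.mpr h4, Subgroup.card_top,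
          Nat.card_eq_fintype_card]
        decide +kernel
      _ = _ := θ.ker.index_mul_card

omit [IsAlgClosed k] in
theorem mem_of_commute (h : IsFpf ρ) {x t : G} (hx : IsThree x) (ht : IsThree t) (e : x * t = t * x) :
    t = x ∨ t = x⁻¹ := by
  rw [← eq_inv_of_mul_eq_one_left hx.1]
  exact h.eq_or_eq_sq hx.1 hx.2 ht.1 ht.2 e

omit [Finite G] in
theorem inv_mem_tetra {x a u : G} (hu : u ∈ tetra x a) : u⁻¹ ∈ tetra x a := by
  simp only [tetra, List.mem_cons, List.not_mem_nil, or_false] at hu ⊢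
  rcases hu with rfl | rfl | rfl | rfl | rfl | rfl | rfl | rfl <;> simp [mul_assoc]

omit [Finite G] in
theorem tetra_inv_right {x a u : G} (hu : u ∈ tetra x a⁻¹) : u ∈ tetra x a := by
  simp only [tetra, List.mem_cons, List.not_mem_nil, or_false, inv_inv] at hu ⊢
  tauto

/-- The structure of the subgroup generated by the elements of order 3. -/
theorem dichotomy (h : IsFpf ρ) :
    (∀ x y : G, IsThree x → IsThree y → x * y = y * x) ∨
    (∃ x a : G, IsThree x ∧ IsThree a ∧ RelG x a ∧ ∀ t, IsThree t → t ∈ tetra x a) ∨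
    (∃ S : Subgroup G, S = Subgroup.closure {t | IsThree t} ∧ Nat.card S = 120 ∧
      ∃ θ : S →* alternatingGroup (Fin 5), IsCover θ ∧ Function.Surjective θ) := by
  by_cases hcomm : ∀ x y : G, IsThree x → IsThree y → x * y = y * x
  · exact Or.inl hcomm
  refine Or.inr ?_
  push Not at hcomm
  obtain ⟨x₀, y₀, hx₀, hy₀, hne₀⟩ := hcomm
  obtain ⟨x, a, hx, ha, hxa⟩ : ∃ x a, IsThree x ∧ IsThree a ∧ RelG x a := by
    by_cases hr : RelG x₀ y₀
    · exact ⟨x₀, y₀, hx₀, hy₀, hr⟩
    · obtain ⟨-, w, -, hw, r1, -⟩ := (pairG h hx₀ hy₀ hne₀).1 hr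
      exact ⟨x₀, w, hx₀, hw, r1⟩
  by_cases hcase : ∀ x a b : G, IsThree x → IsThree a → IsThree b → RelG x a → RelG x b → b ∈ tetra x a
  · refine Or.inl ⟨x, a, hx, ha, hxa, fun t ht => ?_⟩
    by_cases hc : x * t = t * x
    · rcases mem_of_commute h hx ht hc with rfl | rfl <;> simp [tetra]
    by_cases hr : RelG x t
    · exact hcase x a t hx ha ht hxa hr
    exfalso
    obtain ⟨-, w, -, hw, r1, r2⟩ := (pairG h hx ht hc).1 hr
    rcases (pairG h hw hx r1.symm.1).2 r1.symm x (by simp [tetra]) t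
      (hcase w x t hw hx ht r1.symm r2) with e | e
    · exact hc e
    · exact hr e
  refine Or.inr ?_
  push Not at hcase
  obtain ⟨x, a, b, hx, ha, hb, hxa, hxb, hn⟩ := hcase
  set S := Subgroup.closure ({x, a, b} : Set G) with hS
  obtain ⟨hcard, θ, C, hθ⟩ : Nat.card S = 120 ∧
      ∃ θ : S →* alternatingGroup (Fin 5), IsCover θ ∧ Function.Surjective θ :=
    (tripleG h hx ha hb hxa hxb hn).2.2.2
  have i := S.subtype_injective
  have key : ∀ p y : G, p ∈ S → IsThree p → IsThree y → RelG p y → y ∈ S := by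
    intro p y hpS hp hy hpy
    by_contra hyS
    set p' : S := ⟨p, hpS⟩ with hp'
    have hp3 : IsThree p' := (isThree_map i).mp hp
    obtain ⟨b₁, b₂, hb₁, hb₂, r1, r2, r3⟩ := two_tetra (C.three_map hp3).1 (C.three_map hp3).2
    have lift : ∀ c : alternatingGroup (Fin 5), c * c * c = 1 → c ≠ 1 → ∃ g : S, IsThree g ∧ θ g = c := by
      intro c hc hc1
      obtain ⟨g, rfl⟩ := hθ c
      have e : θ (g ^ 4) = θ g := by rw [map_pow, pow_succ, pow_succ, pow_two, hc, one_mul]
      have h6 : (g * g * g) * (g * g * g) = 1 := C.ker _ (by rw [map_mul, map_mul, hc])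
      refine ⟨g ^ 4, ⟨?_, fun e1 => hc1 (by rw [← e, e1, map_one])⟩, e⟩
      calc g ^ 4 * g ^ 4 * g ^ 4 = ((g * g * g) * (g * g * g)) ^ 2 := by
            simp only [pow_succ, pow_zero, one_mul, mul_assoc]
        _ = 1 := by rw [h6, one_pow]
    obtain ⟨p₁, hp₁, rfl⟩ := lift b₁ hb₁ fun e => r1.1 (by simp [e])
    obtain ⟨p₂, hp₂, rfl⟩ := lift b₂ hb₂ fun e => r2.1 (by simp [e])
    have R1 : RelG p (p₁ : G) := (relG_map i).mpr ((C.rel_iff hp3 hp₁).mp r1)
    have R2 : RelG p (p₂ : G) := (relG_map i).mpr ((C.rel_iff hp3 hp₂).mp r2)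
    have hP₁ : IsThree (p₁ : G) := (isThree_map i).mpr hp₁
    have hP₂ : IsThree (p₂ : G) := (isThree_map i).mpr hp₂
    have R3 : (p₂ : G) ∉ tetra p (p₁ : G) := fun e => r3 (by
      have m : tetra p (p₁ : G) = (tetra p' p₁).map S.subtype := tetra_hom S.subtype p' p₁
      rw [m, List.mem_map] at e
      obtain ⟨u, hu, eu⟩ := e
      exact (C.mem_tetra_iff hp3 hp₁ hp₂).mpr (i eu ▸ hu))
    have hnot : ∀ q : G, q ∈ S → y ∉ tetra p q := fun q hq e => hyS (mem_closure_of_mem_tetra hpS hq e)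
    obtain ⟨q₁, hq₁, rq₁⟩ := (tripleG h hp hP₁ hy R1 hpy (hnot _ p₁.2)).1
    obtain ⟨q₂, hq₂, rq₂⟩ := (tripleG h hp hP₂ hy R2 hpy (hnot _ p₂.2)).1
    obtain ⟨s1, s2, s3, s4⟩ := (tripleG h hp hP₁ hP₂ R1 R2 R3).2.2.1 q₁ hq₁ q₂ hq₂
    have hQ₁ := isThree_of_mem_tetra hp hP₁ (mem_tetra_of_mem_others hq₁)
    have hQ₂ := isThree_of_mem_tetra hp hP₂ (mem_tetra_of_mem_others hq₂)
    have hS₁ : q₁ ∈ S := mem_closure_of_mem_tetra hpS p₁.2 (mem_tetra_of_mem_others hq₁)
    have hS₂ : q₂ ∈ S := mem_closure_of_mem_tetra hpS p₂.2 (mem_tetra_of_mem_others hq₂)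
    by_cases hr : RelG q₁ q₂
    · obtain ⟨u₁, e₁, i₁⟩ := s1.exists_orient
      obtain ⟨u₂, e₂, i₂⟩ := s2.exists_orient
      obtain ⟨v, e₃, i₃⟩ := hpy.exists_orient
      have f : ∀ {u q : G}, (u = q ∨ u = q⁻¹) → IsThree q → RelG p q → IsThree u ∧ RelG p u := by
        rintro u q (rfl | rfl) hq r
        exacts [⟨hq, r⟩, ⟨isThree_inv hq, r.inv_right⟩]
      obtain ⟨U₁, P₁⟩ := f e₁ hQ₁ s1
      obtain ⟨U₂, P₂⟩ := f e₂ hQ₂ s2
      obtain ⟨U₃, P₃⟩ := f e₃ hy hpy
      have r12 : RelG u₁ u₂ := by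
        rcases e₁ with rfl | rfl <;> rcases e₂ with rfl | rfl
        exacts [hr, hr.inv_right, hr.inv_left, hr.inv_left.inv_right]
      have r13 : RelG u₁ v := by
        rcases e₁ with rfl | rfl <;> rcases e₃ with rfl | rfl
        exacts [rq₁, rq₁.inv_right, rq₁.inv_left, rq₁.inv_left.inv_right]
      have r23 : RelG u₂ v := by
        rcases e₂ with rfl | rfl <;> rcases e₃ with rfl | rfl
        exacts [rq₂, rq₂.inv_right, rq₂.inv_left, rq₂.inv_left.inv_right]
      have n12 : u₂ ∉ tetra p u₁ := fun e => s3 (by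
        have : u₂ ∈ tetra p q₁ := by
          rcases e₁ with rfl | rfl
          exacts [e, tetra_inv_right e]
        rcases e₂ with rfl | rfl
        exacts [this, by simpa using inv_mem_tetra this])
      have nv : v ∉ S := by
        rcases e₃ with rfl | rfl
        exacts [hyS, fun e => hyS (by simpa using S.inv_mem e)]
      have m₁ : u₁ ∈ S := by rcases e₁ with rfl | rfl; exacts [hS₁, S.inv_mem hS₁]
      have m₂ : u₂ ∈ S := by rcases e₂ with rfl | rfl; exacts [hS₂, S.inv_mem hS₂]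
      exact clique_false h hp.1 hp.2 U₁.1 U₁.2 U₂.1 U₂.2 U₃.1 U₃.2 i₁ i₂ i₃
        ((tripleG h hp U₁ U₂ P₁ P₂ n12).2.1 r12 i₁ i₂)
        ((tripleG h hp U₁ U₃ P₁ P₃ fun e => nv (mem_closure_of_mem_tetra hpS m₁ e)).2.1 r13 i₁ i₃)
        ((tripleG h hp U₂ U₃ P₂ P₃ fun e => nv (mem_closure_of_mem_tetra hpS m₂ e)).2.1 r23 i₂ i₃)
    · obtain ⟨⟨d, hd, hdr⟩, -, -, hcard', -⟩ := tripleG h hp hQ₁ hQ₂ s1 s2 s3
      have r₆ : RelG q₂ (p * q₁ * p⁻¹) ∨ RelG q₂ (p⁻¹ * q₁ * p) := by
        simp only [others, List.mem_cons, List.not_mem_nil, or_false] at hd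
        rcases hd with rfl | rfl | rfl
        exacts [absurd hdr hr, Or.inl hdr.symm, Or.inr hdr.symm]
      obtain ⟨θ', C'⟩ := hasCover_quad h hp hQ₁ hQ₂ hy s1 s2 hpy rq₁ rq₂ s4
        ((pairG h hQ₁ hQ₂ s4).1 hr).1
        ((pairG h hQ₁ (isThree_inv hQ₂) fun e => s4 (Commute.inv_right_iff.mp e)).1
          fun e => hr (by simpa using e.inv_right)).1 r₆
      have hle : Subgroup.closure ({p, q₁, q₂} : Set G) ≤ Subgroup.closure {p, q₁, q₂, y} :=
        Subgroup.closure_mono (by intro u hu; simp only [Set.mem_insert_iff, Set.mem_singleton_iff] at hu ⊢; tauto)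
      have heq := Subgroup.eq_of_le_of_card_ge hle ((card_le_of_cover C').trans_eq hcard'.symm)
      have hyc : y ∈ Subgroup.closure ({p, q₁, q₂} : Set G) := by
        rw [heq]; exact Subgroup.subset_closure (by simp)
      refine hyS ((Subgroup.closure_le S).mpr ?_ hyc)
      rintro u (rfl | rfl | rfl)
      exacts [hpS, hS₁, hS₂]
  have hall : ∀ t, IsThree t → t ∈ S := by
    intro t ht
    have hxS : x ∈ S := Subgroup.subset_closure (by simp)
    by_cases hc : x * t = t * x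
    · rcases mem_of_commute h hx ht hc with rfl | rfl
      exacts [hxS, S.inv_mem hxS]
    by_cases hr : RelG x t
    · exact key x t hxS hx ht hr
    obtain ⟨-, w, -, hw, r1, r2⟩ := (pairG h hx ht hc).1 hr
    exact key w t (key x w hxS hx hw r1) hw ht r2
  refine ⟨S, le_antisymm ?_ ((Subgroup.closure_le S).mpr hall), hcard, θ, C, hθ⟩
  refine Subgroup.closure_mono ?_
  rintro u (rfl | rfl | rfl)
  exacts [hx, ha, hb]

end Cfsg.Agent.H21.Zass
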