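import Mathlib.GroupTheory.Sylow
import Mathlib.GroupTheory.IndexNormal
import Mathlib.GroupTheory.GroupAction.Quotient
import Mathlib.GroupTheory.SpecificGroups.Alternating
import Cfsg.Agent.S0494

/-!
Finite rotation-type groups: a finite group in which every nonidentity element fixes exactly two
points, with cyclic nontrivial point stabilisers, generated by elements of order 3 and not cyclic,
embeds in the alternating group of degree 5.
-/

namespace Cfsg.Agent.H21.Zass

open MulAction

/-- The arithmetic of the orbit equation. -/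
theorem orbit_arith {g a b c p q r : ℕ} (ha : a * p = g) (hb : b * q = g) (hc : c * r = g)
    (hp : 2 ≤ p) (hq : 2 ≤ q) (hr : 2 ≤ r) (hpq : p ≤ q) (hqr : q ≤ r) (hsum : a + b + c = g + 2) :
    c = 2 ∨ (p = 2 ∧ q = 3 ∧ (r = 3 ∧ g = 12 ∨ r = 4 ∧ g = 24 ∨ r = 5 ∧ g = 60)) := by
  have h2 : p = 2 := by
    by_contra h
    have h3 : 3 ≤ p := by omega
    have : a * 3 ≤ g := ha ▸ Nat.mul_le_mul_left a h3
    have : b * 3 ≤ g := hb ▸ Nat.mul_le_mul_left b (h3.trans hpq)
    have : c * 3 ≤ g := hc ▸ Nat.mul_le_mul_left c (h3.trans (hpq.trans hqr))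
    omega
  subst h2
  by_cases hq2 : q = 2
  · left; subst hq2; omega
  right
  have hq3 : q = 3 := by
    by_contra h
    have h4 : 4 ≤ q := by omega
    have : b * 4 ≤ g := hb ▸ Nat.mul_le_mul_left b h4
    have : c * 4 ≤ g := hc ▸ Nat.mul_le_mul_left c (h4.trans hqr)
    omega
  subst hq3
  have hr5 : r ≤ 5 := by
    by_contra h
    have : c * 6 ≤ g := hc ▸ Nat.mul_le_mul_left c (by omega : 6 ≤ r)
    omega
  interval_cases r <;> omega

variable {Q : Type*} [Group Q] [Finite Q]

/-- A subgroup whose prime-power order elements all lie in conjugates of one cyclic group: Sylow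
3-subgroups of order 3 give a faithful action on four points, sign-trivial. -/
theorem exists_embedding_of_four_sylow (hgen : Subgroup.closure {x : Q | orderOf x = 3} = ⊤)
    (hcard : Nat.card Q = 12 ∨ Nat.card Q = 24) (hnc : ¬ ∀ x y : Q, x * y = y * x)
    (hcenter : ∀ k : Q, (∀ x : Q, orderOf x = 3 → k * x = x * k) → k = 1) :
    ∃ θ : Q →* alternatingGroup (Fin 5), Function.Injective θ := by
  have : Fact (Nat.Prime 3) := ⟨Nat.prime_three⟩
  obtain ⟨P⟩ : Nonempty (Sylow 3 Q) := inferInstance
  have hP : ∀ R : Sylow 3 Q, Nat.card R = 3 := fun R => by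
    rw [Sylow.card_eq_multiplicity]
    rcases hcard with h | h <;> rw [h] <;> decide +kernel
  have hmem : ∀ x : Q, orderOf x = 3 → ∀ R : Sylow 3 Q, x ∈ Subgroup.normalizer (R : Set Q) → x ∈ R := by
    intro x hx R hxn
    have h1 : IsPGroup 3 (Subgroup.zpowers x) := IsPGroup.of_card (n := 1) (by rw [Nat.card_zpowers, hx]; rfl)
    have h2 := h1.to_sup_of_normal_right' R.2 (Subgroup.zpowers_le.mpr hxn)
    exact (R.3 h2 le_sup_right).le (Subgroup.mem_sup_left (Subgroup.mem_zpowers x))
  have hn3 : Nat.card (Sylow 3 Q) = 4 := by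
    have h1 := card_sylow_modEq_one 3 Q
    have h2 : Nat.card (Sylow 3 Q) ∣ (P : Subgroup Q).index := P.card_dvd_index
    have h3 : (P : Subgroup Q).index * 3 = Nat.card Q := by
      have h := (P : Subgroup Q).index_mul_card
      rwa [hP P] at h
    have hne1 : Nat.card (Sylow 3 Q) ≠ 1 := by
      intro h
      obtain ⟨hss, -⟩ := Nat.card_eq_one_iff_unique.mp h
      have hall : ∀ x : Q, orderOf x = 3 → x ∈ P := fun x hx => by
        refine hmem x hx P ?_
        rw [← Sylow.smul_eq_iff_mem_normalizer]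
        exact hss.elim _ _
      have htop : (P : Subgroup Q) = ⊤ := top_le_iff.mp (hgen ▸ (Subgroup.closure_le _).mpr hall)
      rw [htop, Subgroup.index_top] at h3
      omega
    have h4 : Nat.card (Sylow 3 Q) ∣ 8 := h2.trans (by
      rcases hcard with h | h <;> rw [h] at h3
      · exact ⟨2, by omega⟩
      · exact ⟨1, by omega⟩)
    have h5 : Nat.card (Sylow 3 Q) ≤ 8 := Nat.le_of_dvd (by norm_num) h4
    unfold Nat.ModEq at h1
    have h6 : Nat.card (Sylow 3 Q) ≠ 7 := fun h => by rw [h] at h4; omega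
    have h7 : Nat.card (Sylow 3 Q) ≤ (P : Subgroup Q).index := Nat.le_of_dvd (by omega) h2
    omega
  classical
  have := Fintype.ofFinite (Sylow 3 Q)
  obtain ⟨e⟩ : Nonempty (Sylow 3 Q ≃ Fin 4) := Finite.card_eq.mp (by rw [hn3, Nat.card_fin])
  let f : Q →* Equiv.Perm (Fin 5) := (Equiv.Perm.viaEmbeddingHom (e.toEmbedding.trans Fin.castSuccEmb)).comp
    (MulAction.toPermHom Q (Sylow 3 Q))
  have hf : ∀ x : Q, f x ∈ alternatingGroup (Fin 5) := by
    intro x
    have : Subgroup.closure {x : Q | orderOf x = 3} ≤ (Equiv.Perm.sign.comp f).ker := by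
      refine (Subgroup.closure_le _).mpr fun y hy => MonoidHom.mem_ker.mpr ?_
      have h3 : ((Equiv.Perm.sign.comp f) y) ^ 3 = 1 := by
        rw [← map_pow, ← (show orderOf y = 3 from hy), pow_orderOf_eq_one, map_one]
      rcases Int.units_eq_one_or ((Equiv.Perm.sign.comp f) y) with h | h
      · exact h
      · rw [h] at h3; exact absurd h3 (by decide)
    rw [Equiv.Perm.mem_alternatingGroup]
    exact MonoidHom.mem_ker.mp (this (hgen ▸ Subgroup.mem_top x))
  refine ⟨f.codRestrict _ hf, (MonoidHom.injective_codRestrict _ _ _).mpr ?_⟩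
  refine (injective_iff_map_eq_one f).mpr fun k hk => hcenter k fun x hx => ?_
  -- `k` normalises every Sylow 3-subgroup
  have hker : k ∈ (MulAction.toPermHom Q (Sylow 3 Q)).ker := MonoidHom.mem_ker.mpr <|
    (injective_iff_map_eq_one _).mp (Equiv.Perm.viaEmbeddingHom_injective _) _ hk
  obtain ⟨R, hR⟩ := (IsPGroup.of_card (n := 1) (p := 3) (G := Subgroup.zpowers x)
    (by rw [Nat.card_zpowers, hx]; rfl)).exists_le_sylow
  have hkR : k ∈ Subgroup.normalizer (R : Set Q) := by
    rw [← Sylow.smul_eq_iff_mem_normalizer]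
    exact Equiv.Perm.ext_iff.mp (MonoidHom.mem_ker.mp hker) R
  have hxR : x ∈ R := hR (Subgroup.mem_zpowers x)
  -- the commutator lies in `R` and in the kernel
  have hc1 : k * x * k⁻¹ * x⁻¹ ∈ (R : Subgroup Q) :=
    mul_mem ((Subgroup.mem_normalizer_iff.mp hkR x).mp hxR) (inv_mem hxR)
  have hc2 : k * x * k⁻¹ * x⁻¹ ∈ (MulAction.toPermHom Q (Sylow 3 Q)).ker := by
    have h := (inferInstance : (MulAction.toPermHom Q (Sylow 3 Q)).ker.Normal).conj_mem _ (inv_mem hker) x
    have := mul_mem hker h
    simpa [mul_assoc] using this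
  by_contra hne
  have hc3 : k * x * k⁻¹ * x⁻¹ ≠ 1 := fun h => hne (mul_inv_eq_iff_eq_mul.mp (mul_inv_eq_one.mp h))
  have horder : orderOf (k * x * k⁻¹ * x⁻¹) = 3 := by
    have h := Subgroup.orderOf_dvd_natCard (R : Subgroup Q) hc1
    rw [hP R] at h
    exact ((Nat.prime_three).eq_one_or_self_of_dvd _ h).resolve_left (by rwa [orderOf_eq_one_iff])
  -- such an element lies in every Sylow 3-subgroup
  have hall : ∀ S : Sylow 3 Q, S = R := by
    intro S
    have hS : k * x * k⁻¹ * x⁻¹ ∈ S := hmem _ horder S (by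
      rw [← Sylow.smul_eq_iff_mem_normalizer]
      exact Equiv.Perm.ext_iff.mp (MonoidHom.mem_ker.mp hc2) S)
    refine Sylow.ext ?_
    have : ∀ T : Sylow 3 Q, k * x * k⁻¹ * x⁻¹ ∈ T → Subgroup.zpowers (k * x * k⁻¹ * x⁻¹) = T := fun T hT =>
      Subgroup.eq_of_le_of_card_ge (Subgroup.zpowers_le.mpr hT) (by rw [Nat.card_zpowers, horder, hP T])
    rw [← this S hS, ← this R hc1]
  have : Nat.card (Sylow 3 Q) = 1 := Nat.card_eq_one_iff_unique.mpr
    ⟨⟨fun S T => (hall S).trans (hall T).symm⟩, ⟨R⟩⟩
  omega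

/-- A group of order 60 generated by elements of order 3, all of whose elements have order dividing
2, 3 or 5, with no involution central, is the alternating group of degree 5. -/
theorem exists_embedding_of_sixty (hgen : Subgroup.closure {x : Q | orderOf x = 3} = ⊤)
    (hcard : Nat.card Q = 60) (hord : ∀ x : Q, x ≠ 1 → orderOf x = 2 ∨ orderOf x = 3 ∨ orderOf x = 5)
    (hcenter : ∀ k : Q, (∀ x : Q, orderOf x = 3 → k * x = x * k) → k = 1) :
    ∃ θ : Q →* alternatingGroup (Fin 5), Function.Injective θ := by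
  have : Fact (Nat.Prime 3) := ⟨Nat.prime_three⟩
  have : Fact (Nat.Prime 5) := ⟨Nat.prime_five⟩
  have : Nontrivial Q := Finite.one_lt_card_iff_nontrivial.mp (by omega)
  suffices hs : IsSimpleGroup Q by
    obtain ⟨θ⟩ := Cfsg.Agent.S0494.result hcard
    exact ⟨θ.toMonoidHom, θ.injective⟩
  refine { eq_bot_or_eq_top_of_normal := fun N hN => ?_ }
  have hno15 : ∀ u v : Q, orderOf u = 3 → orderOf v = 5 → u * v ≠ v * u := by
    intro u v hu hv h
    have ho := (show Commute u v from h).orderOf_mul_eq_mul_orderOf_of_coprime (by rw [hu, hv]; decide +kernel)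
    rw [hu, hv] at ho
    have h1 : u * v ≠ 1 := fun h1 => by rw [h1, orderOf_one] at ho; omega
    rcases hord _ h1 with h2 | h2 | h2 <;> omega
  by_cases h3 : 3 ∣ Nat.card N
  · -- `N` contains every element of order 3
    right
    refine top_le_iff.mp (hgen ▸ (Subgroup.closure_le _).mpr fun x hx => ?_)
    obtain ⟨⟨y, hy⟩, hyo⟩ := exists_prime_orderOf_dvd_card' (G := N) 3 h3
    rw [Subgroup.orderOf_mk] at hyo
    have hS : ∀ S : Sylow 3 Q, Nat.card S = 3 := fun S => by
      rw [Sylow.card_eq_multiplicity, hcard]; decide +kernel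
    obtain ⟨S, hS1⟩ := (IsPGroup.of_card (n := 1) (p := 3) (G := Subgroup.zpowers y)
      (by rw [Nat.card_zpowers, hyo]; rfl)).exists_le_sylow
    obtain ⟨T, hT1⟩ := (IsPGroup.of_card (n := 1) (p := 3) (G := Subgroup.zpowers x)
      (by rw [Nat.card_zpowers, show orderOf x = 3 from hx]; rfl)).exists_le_sylow
    have hSN : (S : Subgroup Q) ≤ N := by
      rw [← Subgroup.eq_of_le_of_card_ge hS1 (by rw [hS S, Nat.card_zpowers, hyo])]
      exact Subgroup.zpowers_le.mpr hy
    obtain ⟨w, hw⟩ := MulAction.exists_smul_eq Q S T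
    have hxT := hT1 (Subgroup.mem_zpowers x)
    rw [← hw, Sylow.coe_subgroup_smul, Subgroup.mem_pointwise_smul_iff_inv_smul_mem, ← map_inv,
      MulAut.smul_def, MulAut.conj_apply, inv_inv] at hxT
    have := hN.conj_mem _ (hSN hxT) w
    simpa [mul_assoc] using this
  left
  by_contra hne
  have hdvd : Nat.card N ∣ 60 := hcard ▸ N.card_subgroup_dvd_card
  obtain ⟨x, hx⟩ : ∃ x : Q, orderOf x = 3 := exists_prime_orderOf_dvd_card' 3 (by rw [hcard]; norm_num)
  by_cases h5 : 5 ∣ Nat.card N
  · -- the Sylow 5-subgroup of `N` is normal in `Q`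
    obtain ⟨P⟩ : Nonempty (Sylow 5 N) := inferInstance
    have hn5 : Nat.card (Sylow 5 N) = 1 := by
      have h1 := card_sylow_modEq_one 5 N
      have h20 : Nat.card N ∣ 20 :=
        (Nat.Coprime.dvd_of_dvd_mul_left (Nat.Coprime.symm ((Nat.prime_three).coprime_iff_not_dvd.mpr h3))
          (show Nat.card N ∣ 3 * 20 from hdvd))
      have hP5 : (P : Subgroup N).index ∣ 4 := by
        have h2 := (P : Subgroup N).index_mul_card
        have hc : Nat.card P = 5 := by
          obtain ⟨k, hk⟩ := P.2.exists_card_eq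
          have h3' : 5 ∣ Nat.card P := P.dvd_card_of_dvd_card h5
          have h4 : Nat.card P ∣ 20 := (P : Subgroup N).card_subgroup_dvd_card.trans h20
          rw [hk] at h3' h4 ⊢
          rcases k with - | - | k
          · norm_num at h3'
          · rfl
          · exfalso
            have := Nat.le_of_dvd (by norm_num) h4
            have : 25 ≤ 5 ^ (k + 1 + 1) := by
              calc 25 = 5 ^ 2 := rfl
                _ ≤ _ := Nat.pow_le_pow_right (by norm_num) (by omega)
            omega
        rw [hc] at h2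
        exact Nat.dvd_of_mul_dvd_mul_right (by norm_num : 0 < 5) (by rw [h2]; exact h20)
      have h4 : Nat.card (Sylow 5 N) ≤ 4 := Nat.le_of_dvd (by norm_num) (P.card_dvd_index.trans hP5)
      have := (P : Subgroup N).index_ne_zero_of_finite
      have : 0 < Nat.card (Sylow 5 N) := Nat.card_pos
      unfold Nat.ModEq at h1
      omega
    have hss := (Nat.card_eq_one_iff_unique.mp hn5).1
    have hPn : (P : Subgroup N).Normal := Sylow.normal_of_subsingleton P
    have hchar := Sylow.characteristic_of_normal P hPn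
    have hPQ : ((P : Subgroup N).map N.subtype).Normal := ConjAct.normal_of_characteristic_of_normal
    obtain ⟨v, hv⟩ := exists_prime_orderOf_dvd_card' (G := P) 5 (P.dvd_card_of_dvd_card h5)
    set u := ((v : N) : Q) with hu
    have hvo : orderOf u = 5 := by rw [hu, Subgroup.orderOf_coe, Subgroup.orderOf_coe]; exact hv
    set R := (P : Subgroup N).map N.subtype with hR
    have hRcard : Nat.card R = 5 := by
      rw [hR, Subgroup.card_map_of_injective N.subtype_injective]
      obtain ⟨k, hk⟩ := P.2.exists_card_eq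
      have h6 : Nat.card P ∣ 60 := ((P : Subgroup N).card_subgroup_dvd_card).trans hdvd
      have h7 : 5 ∣ Nat.card P := P.dvd_card_of_dvd_card h5
      rw [hk] at h6 h7 ⊢
      rcases k with - | - | k
      · norm_num at h7
      · rfl
      · exfalso
        have h8 : 5 ^ 2 ∣ 60 := (Nat.pow_dvd_pow 5 (by omega)).trans h6
        norm_num at h8
    -- conjugation by `x` on a group of order 5 is trivial
    have : Fintype R := Fintype.ofFinite R
    let ψ : Subgroup.zpowers x →* MulAut R := (MulAut.conjNormal).comp (Subgroup.zpowers x).subtype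
    have hcomm : ψ ⟨x, Subgroup.mem_zpowers x⟩ = 1 := by
      have hcyc : IsCyclic R := isCyclic_of_prime_card hRcard
      have hd1 : orderOf (ψ ⟨x, Subgroup.mem_zpowers x⟩) ∣ 3 := by
        refine (orderOf_map_dvd ψ _).trans ?_
        rw [Subgroup.orderOf_mk, hx]
      have hd2 : orderOf (ψ ⟨x, Subgroup.mem_zpowers x⟩) ∣ 4 := by
        refine (orderOf_dvd_natCard _).trans ?_
        rw [IsCyclic.card_mulAut R, hRcard, Nat.totient_prime Nat.prime_five]
      have := Nat.dvd_gcd hd1 hd2
      exact orderOf_eq_one_iff.mp (Nat.dvd_one.mp (this.trans (by norm_num)))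
    refine hno15 x u hx hvo ?_
    have h9 := congrArg Subtype.val (MulEquiv.congr_fun hcomm ⟨u, ⟨(v : N), v.2, rfl⟩⟩)
    exact mul_inv_eq_iff_eq_mul.mp h9
  -- otherwise `N` is a nontrivial normal 2-subgroup
  have h4 : Nat.card N ∣ 4 := by
    have h20 : Nat.card N ∣ 20 :=
      (Nat.Coprime.dvd_of_dvd_mul_left (Nat.Coprime.symm ((Nat.prime_three).coprime_iff_not_dvd.mpr h3))
        (show Nat.card N ∣ 3 * 20 from hdvd))
    exact Nat.Coprime.dvd_of_dvd_mul_left (Nat.Coprime.symm ((Nat.prime_five).coprime_iff_not_dvd.mpr h5))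
      (show Nat.card N ∣ 5 * 4 from h20)
  obtain ⟨v, hv⟩ : ∃ v : Q, orderOf v = 5 := exists_prime_orderOf_dvd_card' 5 (by rw [hcard]; norm_num)
  -- an element of order 5 centralizes `N`
  have hNc : ∀ n ∈ N, v * n = n * v := by
    let ρ : Q →* MulAut N := MulAut.conjNormal
    have : Fintype N := Fintype.ofFinite N
    have hperm : orderOf (ρ v) ∣ Nat.factorial 4 := by
      let toP : MulAut N →* Equiv.Perm N :=
        { toFun := fun e => e.toEquiv, map_one' := rfl, map_mul' := fun _ _ => rfl }
      have hinj : Function.Injective toP := fun e e' h => MulEquiv.ext (Equiv.ext_iff.mp h)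
      rw [← orderOf_injective toP hinj]
      refine (orderOf_dvd_natCard _).trans ?_
      rw [Nat.card_perm]
      exact Nat.factorial_dvd_factorial (Nat.le_of_dvd (by norm_num) h4)
    have hd : orderOf (ρ v) ∣ 5 := hv ▸ orderOf_map_dvd ρ v
    have h1 : ρ v = 1 := orderOf_eq_one_iff.mp (Nat.dvd_one.mp
      ((Nat.dvd_gcd hd hperm).trans (by norm_num [Nat.factorial])))
    intro n hn
    exact mul_inv_eq_iff_eq_mul.mp (congrArg Subtype.val (MulEquiv.congr_fun h1 ⟨n, hn⟩))
  have hN2 : 2 ∣ Nat.card N := by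
    rcases (Nat.dvd_prime_pow Nat.prime_two).mp (show Nat.card N ∣ 2 ^ 2 from h4) with ⟨i, hi, hNi⟩
    rcases i with - | i
    · exact absurd (N.eq_bot_of_card_eq (by simpa using hNi)) hne
    · exact ⟨2 ^ i, by rw [hNi, pow_succ]; ring⟩
  obtain ⟨⟨w, hw⟩, hwo⟩ := exists_prime_orderOf_dvd_card' (G := N) 2 hN2
  rw [Subgroup.orderOf_mk] at hwo
  have ho := (show Commute v w from hNc w hw).orderOf_mul_eq_mul_orderOf_of_coprime
    (by rw [hwo, hv]; decide +kernel)
  rw [hwo, hv] at ho
  have h1 : v * w ≠ 1 := fun h => by rw [h, orderOf_one] at ho; omega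
  rcases hord _ h1 with h | h | h <;> omega

variable {X : Type*} [MulAction Q X] [Finite X]

/-- The orbit-counting classification. -/
theorem exists_embedding_alternating (hfix : ∀ g : Q, g ≠ 1 → Nat.card (fixedBy X g) = 2)
    (hstab : ∀ p : X, IsCyclic (stabilizer Q p) ∧ stabilizer Q p ≠ ⊥)
    (hgen : Subgroup.closure {x : Q | orderOf x = 3} = ⊤) (hnc : ¬ ∀ x y : Q, x * y = y * x) :
    ∃ θ : Q →* alternatingGroup (Fin 5), Function.Injective θ := by
  classical
  have := Fintype.ofFinite Q
  have := Fintype.ofFinite X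
  let Ω := Quotient (orbitRel Q X)
  have : Fintype Ω := Fintype.ofFinite Ω
  -- orbit sizes and stabiliser orders
  set o : Ω → ℕ := fun w => Nat.card (orbit Q w.out) with ho
  set m : Ω → ℕ := fun w => Nat.card (stabilizer Q w.out) with hm
  have hom : ∀ w, o w * m w = Nat.card Q := fun w => by
    simp only [ho, hm]
    rw [← Nat.card_prod]
    exact Nat.card_congr (orbitProdStabilizerEquivGroup Q _)
  have hm2 : ∀ w, 2 ≤ m w := fun w => (Subgroup.one_lt_card_iff_ne_bot _).mpr (hstab _).2
  have hX : Nat.card X = ∑ w : Ω, o w := by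
    rw [Nat.card_congr (MulAction.selfEquivSigmaOrbits Q X), Nat.card_sigma]
  have hg1 : 1 < Nat.card Q := by
    have : Nontrivial Q := by
      by_contra h
      have := not_nontrivial_iff_subsingleton.mp h
      exact hnc fun x y => Subsingleton.elim _ _
    exact Finite.one_lt_card
  have hburn : Nat.card X + 2 * (Nat.card Q - 1) = Fintype.card Ω * Nat.card Q := by
    rw [Nat.card_eq_fintype_card (α := Q), ← MulAction.sum_card_fixedBy_eq_card_orbits_mul_card_group Q X,
      ← Finset.add_sum_erase Finset.univ _ (Finset.mem_univ (1 : Q))]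
    congr 1
    · rw [← Nat.card_eq_fintype_card]
      exact Nat.card_congr (Equiv.subtypeUnivEquiv fun x => one_smul Q x).symm
    · rw [Finset.sum_congr rfl fun g hg => (Nat.card_eq_fintype_card (α := fixedBy X g)).symm.trans
        (hfix g (Finset.ne_of_mem_erase hg))]
      simp [mul_comm]
  -- a fixed orbit of size at most two forces a cyclic group
  have hsmall : ∀ p : X, Nat.card (orbit Q p) ≤ 2 → False := by
    intro p hp
    have hidx : (stabilizer Q p).index = Nat.card (orbit Q p) := by
      rw [MulAction.index_stabilizer, Nat.card_coe_set_eq]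
    have hn : (stabilizer Q p).Normal := by
      have : Nonempty (orbit Q p) := ⟨⟨p, mem_orbit_self p⟩⟩
      have h1 : 0 < Nat.card (orbit Q p) := Nat.card_pos
      interval_cases h : Nat.card (orbit Q p)
      · exact Subgroup.normal_of_index_eq_one hidx
      · exact Subgroup.normal_of_index_eq_two hidx
    have htop : stabilizer Q p = ⊤ := top_le_iff.mp (hgen ▸ (Subgroup.closure_le _).mpr fun x hx => by
      have h1 : (x : Q ⧸ stabilizer Q p) ^ 3 = 1 := by
        rw [← QuotientGroup.mk_pow, ← show orderOf x = 3 from hx, pow_orderOf_eq_one]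
        rfl
      have h2 : (x : Q ⧸ stabilizer Q p) ^ (stabilizer Q p).index = 1 := by
        rw [Subgroup.index_eq_card]; exact pow_card_eq_one'
      refine (QuotientGroup.eq_one_iff x).mp ?_
      have h3 := pow_gcd_eq_one.mpr ⟨h1, h2⟩
      rw [hidx] at h3
      have h4 : Nat.gcd 3 (Nat.card (orbit Q p)) = 1 := by
        have : Nonempty (orbit Q p) := ⟨⟨p, mem_orbit_self p⟩⟩
        have h1 : 0 < Nat.card (orbit Q p) := Nat.card_pos
        interval_cases Nat.card (orbit Q p) <;> rfl
      rwa [h4, pow_one] at h3)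
    have hc := (hstab p).1
    rw [htop] at hc
    have : IsCyclic Q :=
      isCyclic_of_surjective (Subgroup.topEquiv (G := Q)).toMonoidHom (Subgroup.topEquiv (G := Q)).surjective
    exact hnc fun x y => IsCyclic.commGroup.mul_comm x y
  have ho3 : ∀ w, 3 ≤ o w := fun w => by
    by_contra h
    exact hsmall w.out (by simp only [ho] at h; omega)
  have hle : ∀ w, 2 * o w ≤ Nat.card Q := fun w => by
    rw [← hom w, mul_comm]
    exact Nat.mul_le_mul_left _ (hm2 w)
  -- exactly three orbits
  have hr : Fintype.card Ω = 3 := by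
    have h1 : 2 * Nat.card X ≤ Fintype.card Ω * Nat.card Q := by
      rw [hX, Finset.mul_sum]
      refine (Finset.sum_le_card_nsmul _ _ _ fun w _ => hle w).trans (le_of_eq ?_)
      rw [Finset.card_univ, smul_eq_mul]
    have h2 : 3 * Fintype.card Ω ≤ Nat.card X := by
      rw [hX]
      refine le_trans (le_of_eq ?_) (Finset.card_nsmul_le_sum _ _ 3 fun w _ => ho3 w)
      rw [Finset.card_univ, smul_eq_mul, mul_comm]
    have h3 : Fintype.card Ω ≤ 3 := by
      by_contra h
      have : 4 * Nat.card Q ≤ Fintype.card Ω * Nat.card Q := Nat.mul_le_mul_right _ (by omega)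
      omega
    interval_cases hc : Fintype.card Ω <;> omega
  obtain ⟨e⟩ : Nonempty (Fin 3 ≃ Ω) := ⟨(Fintype.equivFinOfCardEq hr).symm⟩
  have hsum : o (e 0) + o (e 1) + o (e 2) = Nat.card Q + 2 := by
    rw [hr, hX, ← e.sum_comp, Fin.sum_univ_three] at hburn
    omega
  -- element orders divide some stabiliser order
  have hord : ∀ g : Q, g ≠ 1 → ∃ i : Fin 3, orderOf g ∣ m (e i) := by
    intro g hg
    obtain ⟨⟨p, hp⟩⟩ : Nonempty (fixedBy X g) := (Nat.card_pos_iff.mp (by rw [hfix g hg]; norm_num)).1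
    obtain ⟨i, hi⟩ := e.surjective ⟦p⟧
    refine ⟨i, ?_⟩
    simp only [hm, hi]
    have hpo : (⟦p⟧ : Ω).out ∈ orbit Q p := Quotient.exact (Quotient.out_eq (⟦p⟧ : Ω))
    obtain ⟨w, hw⟩ := hpo
    have : w * g * w⁻¹ ∈ stabilizer Q (⟦p⟧ : Ω).out := by
      rw [mem_stabilizer_iff, ← hw]
      simp only [mul_smul, inv_smul_smul]
      rw [show g • p = p from hp]
    have h := Subgroup.orderOf_dvd_natCard _ this
    rwa [show orderOf (w * g * w⁻¹) = orderOf g from (MulAut.conj w).orderOf_eq g] at h
  have hcenter : ∀ k : Q, (∀ x : Q, orderOf x = 3 → k * x = x * k) → k = 1 := by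
    intro k hk
    by_contra hne
    have hkall : ∀ x : Q, k * x = x * k := by
      have hle : Subgroup.closure {x : Q | orderOf x = 3} ≤ Subgroup.centralizer {k} :=
        (Subgroup.closure_le _).mpr fun x hx => Subgroup.mem_centralizer_singleton_iff.mpr (hk x hx).symm
      exact fun x => (Subgroup.mem_centralizer_singleton_iff.mp (hle (hgen ▸ Subgroup.mem_top x))).symm
    obtain ⟨⟨p, hp⟩⟩ : Nonempty (fixedBy X k) := (Nat.card_pos_iff.mp (by rw [hfix k hne]; norm_num)).1
    refine hsmall p ?_
    rw [← hfix k hne, Nat.card_coe_set_eq, Nat.card_coe_set_eq]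
    refine Set.ncard_le_ncard (fun y hy => ?_) (Set.toFinite _)
    obtain ⟨w, rfl⟩ := hy
    change k • (w • p) = w • p
    rw [← mul_smul, hkall, mul_smul, show k • p = p from hp]
  -- sort the three orders
  have key : ∀ i j l : Fin 3, (∀ t, t = i ∨ t = j ∨ t = l) → o (e i) + o (e j) + o (e l) = Nat.card Q + 2 →
      m (e i) ≤ m (e j) → m (e j) ≤ m (e l) →
      Nat.card Q = 12 ∨ Nat.card Q = 24 ∨
        (Nat.card Q = 60 ∧ ∀ g : Q, g ≠ 1 → orderOf g = 2 ∨ orderOf g = 3 ∨ orderOf g = 5) := by
    intro i j l hall hs hij hjl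
    rcases orbit_arith (hom (e i)) (hom (e j)) (hom (e l)) (hm2 _) (hm2 _) (hm2 _) hij hjl hs with h | ⟨hp, hq, h | h | h⟩
    · exact absurd (ho3 (e l)) (by omega)
    · exact Or.inl h.2
    · exact Or.inr (Or.inl h.2)
    refine Or.inr (Or.inr ⟨h.2, fun g hg => ?_⟩)
    obtain ⟨t, ht⟩ := hord g hg
    have hg1' : orderOf g ≠ 1 := by rwa [Ne, orderOf_eq_one_iff]
    rcases hall t with rfl | rfl | rfl
    · rw [hp] at ht; exact Or.inl ((Nat.prime_two.eq_one_or_self_of_dvd _ ht).resolve_left hg1')
    · rw [hq] at ht; exact Or.inr (Or.inl ((Nat.prime_three.eq_one_or_self_of_dvd _ ht).resolve_left hg1'))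
    · rw [h.1] at ht; exact Or.inr (Or.inr ((Nat.prime_five.eq_one_or_self_of_dvd _ ht).resolve_left hg1'))
  have hres : Nat.card Q = 12 ∨ Nat.card Q = 24 ∨
      (Nat.card Q = 60 ∧ ∀ g : Q, g ≠ 1 → orderOf g = 2 ∨ orderOf g = 3 ∨ orderOf g = 5) := by
    rcases le_total (m (e 0)) (m (e 1)) with h01 | h01 <;> rcases le_total (m (e 1)) (m (e 2)) with h12 | h12 <;>
      rcases le_total (m (e 0)) (m (e 2)) with h02 | h02
    all_goals first
      | exact key 0 1 2 (by decide) (by omega) (by omega) (by omega)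
      | exact key 0 2 1 (by decide) (by omega) (by omega) (by omega)
      | exact key 1 0 2 (by decide) (by omega) (by omega) (by omega)
      | exact key 1 2 0 (by decide) (by omega) (by omega) (by omega)
      | exact key 2 0 1 (by decide) (by omega) (by omega) (by omega)
      | exact key 2 1 0 (by decide) (by omega) (by omega) (by omega)
  rcases hres with h | h | ⟨h, h'⟩
  · exact exists_embedding_of_four_sylow hgen (Or.inl h) hnc hcenter
  · exact exists_embedding_of_four_sylow hgen (Or.inr h) hnc hcenter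
  · exact exists_embedding_of_sixty hgen h h' hcenter

end Cfsg.Agent.H21.Zass
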