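import Cfsg.Agent.H21.Zassenhaus.Relation
import Cfsg.Agent.H64.StemBasic
import Cfsg.Agent.H60.Qd
import Cfsg.Agent.S0253
import Cfsg.Agent.H64.SL2Sylow

/-!
A perfect group with a cover of the alternating group of degree 5 and a unique involution is the
special linear group of degree 2 over the field of five elements.
-/

namespace Cfsg.Agent.H21.Zass

open scoped Pointwise commutatorElement

/-- Elements of order a power of two in the alternating group of degree five square to `1`. -/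
theorem sq_eq_one_of_two_pow {a : alternatingGroup (Fin 5)} {j : ℕ} (h : a ^ 2 ^ j = 1) :
    a * a = 1 := by
  have key : ∀ a : alternatingGroup (Fin 5), a * a = 1 ∨ a ^ 3 = 1 ∨ a ^ 5 = 1 := by decide +kernel
  have odd : ∀ q, q.Coprime 2 → a ^ q = 1 → a * a = 1 := fun q hq hq1 => by
    have h1 := pow_gcd_eq_one.mpr ⟨h, hq1⟩
    rw [Nat.Coprime.pow_left j hq.symm, pow_one] at h1
    rw [h1, one_mul]
  rcases key a with h1 | h1 | h1
  exacts [h1, odd 3 (by norm_num) h1, odd 5 (by norm_num) h1]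

theorem commute_of_sq_one {M : Type*} [Group M] {a b : M} (ha : a * a = 1) (hb : b * b = 1)
    (hab : (a * b) * (a * b) = 1) : a * b = b * a := by
  calc a * b = (a * b)⁻¹ := eq_inv_of_mul_eq_one_left hab
    _ = b * a := by rw [mul_inv_rev, inv_eq_of_mul_eq_one_left ha, inv_eq_of_mul_eq_one_left hb]

theorem mem_zpowers_invol {M : Type*} [Group M] {z : M} (hz : z * z = 1) {g : M}
    (hg : g ∈ Subgroup.zpowers z) : g = 1 ∨ g = z := by
  obtain ⟨i, rfl⟩ := hg
  show z ^ i = 1 ∨ z ^ i = z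
  rcases Int.even_or_odd' i with ⟨m, rfl | rfl⟩
  · left; rw [zpow_mul, show z ^ (2 : ℤ) = 1 by rw [zpow_ofNat, pow_two, hz], one_zpow]
  · right; rw [zpow_add, zpow_one, zpow_mul, show z ^ (2 : ℤ) = 1 by rw [zpow_ofNat, pow_two, hz],
      one_zpow, one_mul]

namespace IsCover

variable {G : Type*} [Group G] {θ : G →* alternatingGroup (Fin 5)} (C : IsCover θ)
include C

/-- Two elements with commuting images of order at most two commute exactly when the images
generate a cyclic group. -/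
theorem commute_iff_image (hz1 : ∀ a : G, IsInvol a → θ a = 1) {g g' : G} (hg : θ g * θ g = 1)
    (hg' : θ g' * θ g' = 1) :
    g * g' = g' * g ↔ θ g = 1 ∨ θ g' = 1 ∨ θ g = θ g' := by
  have central : ∀ k, θ k = 1 → ∀ x, k * x = x * k := fun k hk x => by
    by_cases h1 : k = 1
    · rw [h1, one_mul, mul_one]
    · exact (C.invol _ ⟨C.ker k hk, h1⟩).1 x
  constructor
  · intro hc
    by_contra hne
    simp only [not_or] at hne
    obtain ⟨h1, h2, h3⟩ := hne
    have key : ∀ a : G, θ a * θ a = 1 → θ a ≠ 1 → IsInvol (a * a) := by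
      intro a ha ha1
      refine ⟨C.ker _ (by rw [map_mul, ha]), fun e => ha1 ?_⟩
      have hi : IsInvol a := ⟨e, fun e1 => ha1 (by rw [e1, map_one])⟩
      by_contra hne'
      exact hne' (hz1 a hi)
    have e : g * g = g' * g' := (C.invol _ (key g' hg' h2)).2 _ (key g hg h1)
    have hc' : g'⁻¹ * g = g * g'⁻¹ := (Commute.inv_right (show Commute g g' from hc)).symm.eq
    have hsq : (g * g'⁻¹) * (g * g'⁻¹) = 1 := by
      calc (g * g'⁻¹) * (g * g'⁻¹) = g * (g'⁻¹ * g) * g'⁻¹ := by simp only [mul_assoc]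
        _ = (g * g) * (g' * g')⁻¹ := by rw [hc', mul_inv_rev]; simp only [mul_assoc]
        _ = 1 := by rw [e, mul_inv_cancel]
    refine h3 ?_
    rw [← mul_inv_eq_one, ← map_inv, ← map_mul]
    by_cases hd : g * g'⁻¹ = 1
    · rw [hd, map_one]
    · rw [(C.invol _ (key g hg h1)).2 _ ⟨hsq, hd⟩, map_mul, hg]
  · rintro (h | h | h)
    · exact central g h g'
    · exact (central g' h g).symm
    · have hk : θ (g⁻¹ * g') = 1 := by rw [map_mul, map_inv, h, inv_mul_cancel]
      have := central _ hk g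
      calc g * g' = g * (g * (g⁻¹ * g')) := by rw [mul_inv_cancel_left]
        _ = g * ((g⁻¹ * g') * g) := by rw [this]
        _ = g' * g := by rw [← mul_assoc g, mul_inv_cancel_left]

end IsCover

variable {G H : Type*} [Group G] [Group H] [Finite G] [Finite H]

/-- The first projection is injective on the derived fibre product. -/
theorem fibre_injective {θ : G →* alternatingGroup (Fin 5)} {ψ : H →* alternatingGroup (Fin 5)}
    (C : IsCover θ) (C' : IsCover ψ) {z : G} (hz : IsInvol z) (hzθ : θ z = 1)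
    (D : Subgroup (G × H)) (hD : ∀ d ∈ D, θ d.1 = ψ d.2) (hperf : commutator ↥D = ⊤)
    {d : G × H} (hd : d ∈ D) (h1 : d.1 = 1) : d.2 = 1 := by
  by_contra h2
  have hw : ψ d.2 = 1 := by rw [← hD d hd, h1, map_one]
  have hi : IsInvol d.2 := ⟨C'.ker _ hw, h2⟩
  have hdd : d * d = 1 := Prod.ext (by simp [h1]) hi.1
  have hcen : ∀ x : G × H, d * x = x * d := fun x =>
    Prod.ext (by simp [h1]) ((C'.invol _ hi).1 x.2)
  set d' : ↥D := ⟨d, hd⟩ with hd'
  have hdz : d' ∈ Subgroup.center ↥D := Subgroup.mem_center_iff.mpr fun x => Subtype.ext (hcen x).symm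
  have hp : IsPGroup 2 (Subgroup.zpowers d') := by
    refine IsPGroup.of_card (n := 1) ?_
    rw [Nat.card_zpowers, pow_one]
    exact orderOf_eq_prime (by rw [pow_two]; exact Subtype.ext hdd)
      fun e => h2 (congrArg (fun x : ↥D => x.1.2) e)
  obtain ⟨P, hP⟩ := hp.exists_le_sylow
  have hmem := H64.mem_commutator_sylow_of_central P hdz (hperf.ge trivial)
    (hP (Subgroup.mem_zpowers d'))
  set Δ : Subgroup ↥D := (Subgroup.zpowers ((z, d.2) : G × H)).subgroupOf D with hΔ
  have hle : ⁅(P : Subgroup ↥D), (P : Subgroup ↥D)⁆ ≤ Δ := by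
    rw [Subgroup.commutator_le]
    intro u hu v hv
    rw [hΔ, Subgroup.mem_subgroupOf]
    have img : ∀ w : ↥D, w ∈ P → θ w.1.1 * θ w.1.1 = 1 := fun w hw => by
      obtain ⟨j, hj⟩ := P.2 ⟨w, hw⟩
      refine sq_eq_one_of_two_pow (j := j) ?_
      have := congrArg (fun y : (P : Subgroup ↥D) => θ y.1.1.1) hj
      simpa using this
    have hu2 := img u hu
    have hv2 := img v hv
    have huv : θ u.1.1 * θ v.1.1 = θ v.1.1 * θ u.1.1 := by
      refine commute_of_sq_one hu2 hv2 ?_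
      have := img _ (mul_mem hu hv)
      simpa using this
    have hu2' : ψ u.1.2 * ψ u.1.2 = 1 := by rw [← hD _ u.2]; exact hu2
    have hv2' : ψ v.1.2 * ψ v.1.2 = 1 := by rw [← hD _ v.2]; exact hv2
    have iff' : u.1.1 * v.1.1 = v.1.1 * u.1.1 ↔ u.1.2 * v.1.2 = v.1.2 * u.1.2 := by
      rw [C.commute_iff_image (fun a ha => by rw [(C.invol _ hz).2 a ha, hzθ]) hu2 hv2,
        C'.commute_iff_image (fun a ha => by rw [(C'.invol _ hi).2 a ha, hw]) hu2' hv2', ← hD _ u.2, ← hD _ v.2]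
    have k1 : θ ⁅u.1.1, v.1.1⁆ = 1 := by
      rw [map_commutatorElement, commutatorElement_eq_one_iff_mul_comm]; exact huv
    have k2 : ψ ⁅u.1.2, v.1.2⁆ = 1 := by
      rw [map_commutatorElement, commutatorElement_eq_one_iff_mul_comm, ← hD _ u.2, ← hD _ v.2]
      exact huv
    have hval : ((⁅u, v⁆ : ↥D) : G × H) = (⁅u.1.1, v.1.1⁆, ⁅u.1.2, v.1.2⁆) := by
      simp [commutatorElement_def, Prod.ext_iff]
    rw [hval]
    by_cases hc : u.1.1 * v.1.1 = v.1.1 * u.1.1
    · rw [commutatorElement_eq_one_iff_mul_comm.mpr hc,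
        commutatorElement_eq_one_iff_mul_comm.mpr (iff'.mp hc)]
      exact one_mem _
    · rw [(C.invol _ hz).2 _ ⟨C.ker _ k1, fun e => hc (commutatorElement_eq_one_iff_mul_comm.mp e)⟩,
        (C'.invol _ hi).2 _ ⟨C'.ker _ k2,
          fun e => hc (iff'.mpr (commutatorElement_eq_one_iff_mul_comm.mp e))⟩]
      exact Subgroup.mem_zpowers _
  have hΔd := hle hmem
  rw [hΔ, Subgroup.mem_subgroupOf] at hΔd
  rcases mem_zpowers_invol (Prod.ext hz.1 hi.1) hΔd with e | e
  · exact h2 (congrArg Prod.snd e)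
  · exact hz.2 ((congrArg Prod.fst e).symm.trans h1)

/-- Two perfect covers with central involution are isomorphic. -/
theorem equiv_of_covers {θ : G →* alternatingGroup (Fin 5)} {ψ : H →* alternatingGroup (Fin 5)}
    (C : IsCover θ) (C' : IsCover ψ) (hθ : Function.Surjective θ) (hψ : Function.Surjective ψ)
    (hG : commutator G = ⊤) (hH : commutator H = ⊤) {z : G} (hz : IsInvol z) (hzθ : θ z = 1)
    {w : H} (hw : IsInvol w) (hwψ : ψ w = 1) : Nonempty (G ≃* H) := by
  set Γ : Subgroup (G × H) := (θ.comp (MonoidHom.fst G H)).eqLocus (ψ.comp (MonoidHom.snd G H)) with hΓ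
  set D : Subgroup (G × H) := ⁅Γ, Γ⁆ with hDdef
  have hDΓ : D ≤ Γ := Subgroup.commutator_le.mpr fun a ha b hb =>
    mul_mem (mul_mem (mul_mem ha hb) (inv_mem ha)) (inv_mem hb)
  have hfst : Γ.map (MonoidHom.fst G H) = ⊤ := eq_top_iff.mpr fun g _ => by
    obtain ⟨h, hh⟩ := hψ (θ g); exact ⟨(g, h), hh.symm, rfl⟩
  have hsnd : Γ.map (MonoidHom.snd G H) = ⊤ := eq_top_iff.mpr fun h _ => by
    obtain ⟨g, hg⟩ := hθ (ψ h); exact ⟨(g, h), hg, rfl⟩
  have hD1 : D.map (MonoidHom.fst G H) = ⊤ := by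
    rw [hDdef, Subgroup.map_commutator, hfst, ← commutator_def, hG]
  have hD2 : D.map (MonoidHom.snd G H) = ⊤ := by
    rw [hDdef, Subgroup.map_commutator, hsnd, ← commutator_def, hH]
  have hperf : commutator ↥D = ⊤ := by
    apply Subgroup.map_injective D.subtype_injective
    rw [Subgroup.map_subtype_commutator, ← MonoidHom.range_eq_map, Subgroup.range_subtype]
    refine le_antisymm (Subgroup.commutator_le.mpr fun a ha b hb =>
      mul_mem (mul_mem (mul_mem ha hb) (inv_mem ha)) (inv_mem hb)) ?_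
    conv_lhs => rw [hDdef]
    rw [Subgroup.commutator_le]
    intro a ha b hb
    have split : ∀ x ∈ Γ, ∃ e dd : G × H, dd ∈ D ∧ (∀ y, e * y = y * e) ∧ x = e * dd := by
      intro x hx
      obtain ⟨dd, hdd, he⟩ : x.1 ∈ D.map (MonoidHom.fst G H) := hD1 ▸ Subgroup.mem_top _
      refine ⟨x * dd⁻¹, dd, hdd, fun y => ?_, by rw [inv_mul_cancel_right]⟩
      have he' : dd.1 = x.1 := he
      have e1 : (x * dd⁻¹).1 = 1 := by simp [he']
      have e2 : ψ (x * dd⁻¹).2 = 1 := by
        have h' : θ (x * dd⁻¹).1 = ψ (x * dd⁻¹).2 := mul_mem hx (inv_mem (hDΓ hdd))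
        rw [← h', e1, map_one]
      refine Prod.ext (show (x * dd⁻¹).1 * y.1 = y.1 * (x * dd⁻¹).1 by rw [e1, one_mul, mul_one]) ?_
      show (x * dd⁻¹).2 * y.2 = y.2 * (x * dd⁻¹).2
      by_cases h : (x * dd⁻¹).2 = 1
      · rw [h, one_mul, mul_one]
      · exact (C'.invol _ ⟨C'.ker _ e2, h⟩).1 y.2
    obtain ⟨e, a', ha', hec, rfl⟩ := split a ha
    obtain ⟨f, b', hb', hfc, rfl⟩ := split b hb
    have key : ⁅e * a', f * b'⁆ = ⁅a', b'⁆ := by
      rw [commutatorElement_def, commutatorElement_def, mul_inv_rev, mul_inv_rev]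
      calc e * a' * (f * b') * (a'⁻¹ * e⁻¹) * (b'⁻¹ * f⁻¹)
          = e * ((a' * f) * (b' * a'⁻¹)) * (e⁻¹ * b'⁻¹) * f⁻¹ := by simp only [mul_assoc]
        _ = ((a' * f) * (b' * a'⁻¹)) * e * (e⁻¹ * b'⁻¹) * f⁻¹ := by rw [hec]
        _ = (a' * f) * (b' * a'⁻¹ * b'⁻¹) * f⁻¹ := by simp only [mul_assoc, mul_inv_cancel_left]
        _ = (f * a') * (b' * a'⁻¹ * b'⁻¹) * f⁻¹ := by rw [← hfc a']
        _ = f * (a' * b' * a'⁻¹ * b'⁻¹) * f⁻¹ := by simp only [mul_assoc]
        _ = (a' * b' * a'⁻¹ * b'⁻¹) * f * f⁻¹ := by rw [hfc]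
        _ = a' * b' * a'⁻¹ * b'⁻¹ := by rw [mul_inv_cancel_right]
    rw [key]
    exact Subgroup.commutator_mem_commutator ha' hb'
  have hDeq : ∀ d ∈ D, θ d.1 = ψ d.2 := fun d hd => hDΓ hd
  let p₁ : ↥D →* G := (MonoidHom.fst G H).comp D.subtype
  let p₂ : ↥D →* H := (MonoidHom.snd G H).comp D.subtype
  have b₁ : Function.Bijective p₁ := by
    refine ⟨(injective_iff_map_eq_one _).mpr fun x hx => Subtype.ext (Prod.ext hx ?_), fun g => ?_⟩
    · exact fibre_injective C C' hz hzθ D hDeq hperf x.2 hx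
    · obtain ⟨x, hx, e⟩ : g ∈ D.map (MonoidHom.fst G H) := hD1 ▸ Subgroup.mem_top _
      exact ⟨⟨x, hx⟩, e⟩
  have b₂ : Function.Bijective p₂ := by
    refine ⟨(injective_iff_map_eq_one _).mpr fun x hx => Subtype.ext (Prod.ext ?_ hx), fun g => ?_⟩
    · set D' := D.map (MulEquiv.prodComm : G × H ≃* H × G).toMonoidHom with hD'
      have hperf' : commutator ↥D' = ⊤ := by
        set f := D.equivMapOfInjective ((MulEquiv.prodComm : G × H ≃* H × G).toMonoidHom)
          (MulEquiv.prodComm : G × H ≃* H × G).injective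
        calc commutator ↥D' = (commutator ↥D).map f.toMonoidHom := by
              rw [commutator_def, commutator_def, Subgroup.map_commutator,
                Subgroup.map_top_of_surjective _ f.surjective]
          _ = ⊤ := by rw [hperf, Subgroup.map_top_of_surjective _ f.surjective]
      refine fibre_injective C' C hw hwψ D' ?_ hperf' (d := (x.1.2, x.1.1)) ⟨x.1, x.2, rfl⟩ hx
      rintro _ ⟨d, hd, rfl⟩
      exact (hDeq d hd).symm
    · obtain ⟨x, hx, e⟩ : g ∈ D.map (MonoidHom.snd G H) := hD2 ▸ Subgroup.mem_top _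
      exact ⟨⟨x, hx⟩, e⟩
  exact ⟨(MulEquiv.ofBijective p₁ b₁).symm.trans (MulEquiv.ofBijective p₂ b₂)⟩

/-- `SL(2,5)` is a cover of the alternating group of degree 5. -/
theorem exists_cover_SL : ∃ ψ : Matrix.SpecialLinearGroup (Fin 2) (ZMod 5) →* alternatingGroup (Fin 5),
    IsCover ψ ∧ Function.Surjective ψ ∧ ∃ w, IsInvol w ∧ ψ w = 1 := by
  have sq : ∀ r : ZMod 5, r ^ 2 = 1 → r = 1 ∨ r = -1 := by decide
  have h20 : (2 : ZMod 5) ≠ 0 := by decide
  have : Fact (Nat.Prime 5) := ⟨by norm_num⟩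
  obtain ⟨e⟩ := Cfsg.Agent.S0253.result (F := ZMod 5) (ZMod.card 5)
  have central : ∀ g : Matrix.SpecialLinearGroup (Fin 2) (ZMod 5), g ∈ Subgroup.center _ ↔ g = 1 ∨ g = -1 := by
    intro g
    constructor
    · intro hg
      obtain ⟨r, hr, h⟩ := Matrix.SpecialLinearGroup.mem_center_iff.mp hg
      rcases sq r (by simpa using hr) with rfl | rfl
      · left; exact Subtype.ext (by rw [← h]; simp)
      · right; exact Subtype.ext (by rw [← h]; ext i j; fin_cases i <;> fin_cases j <;> simp)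
    · rintro (rfl | rfl)
      · exact one_mem _
      · exact Subgroup.mem_center_iff.mpr fun x => by simp
  have hneg : (-1 : Matrix.SpecialLinearGroup (Fin 2) (ZMod 5)) ≠ 1 := by decide +kernel
  have inv2 : ∀ g : Matrix.SpecialLinearGroup (Fin 2) (ZMod 5), IsInvol g → g = -1 := by
    intro g hg
    rcases H64.SL2.eq_one_or_neg_one_of_sq (F := ZMod 5) h20 (by rw [pow_two]; exact hg.1) with h | h
    · exact absurd h hg.2
    · exact h
  let ψ := e.toMonoidHom.comp (QuotientGroup.mk' (Subgroup.center (Matrix.SpecialLinearGroup (Fin 2) (ZMod 5))))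
  have hker : ∀ g, ψ g = 1 → g ∈ Subgroup.center _ := fun g hg =>
    (QuotientGroup.eq_one_iff g).mp (e.injective (hg.trans e.map_one.symm))
  refine ⟨ψ, ⟨fun g hg => ?_, fun g hg => ?_⟩, e.surjective.comp (QuotientGroup.mk'_surjective _), -1,
    ⟨by simp, hneg⟩, ?_⟩
  · rcases (central g).mp (hker g hg) with rfl | rfl <;> simp
  · refine ⟨fun x => ?_, fun g' hg' => (inv2 g' hg').trans (inv2 g hg).symm⟩
    rw [inv2 g hg]; simp
  · show e _ = 1
    rw [show (QuotientGroup.mk' _ (-1 : Matrix.SpecialLinearGroup (Fin 2) (ZMod 5))) = 1 from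
      (QuotientGroup.eq_one_iff _).mpr ((central _).mpr (Or.inr rfl)), map_one]

/-- A perfect cover with a central involution is `SL(2,5)`. -/
theorem equiv_SL {θ : G →* alternatingGroup (Fin 5)} (C : IsCover θ) (hθ : Function.Surjective θ)
    (hG : commutator G = ⊤) {z : G} (hz : IsInvol z) (hzθ : θ z = 1) :
    Nonempty (G ≃* Matrix.SpecialLinearGroup (Fin 2) (ZMod 5)) := by
  have : Fact (Nat.Prime 5) := ⟨by norm_num⟩
  obtain ⟨ψ, C', hψ, w, hw, hwψ⟩ := exists_cover_SL
  exact equiv_of_covers C C' hθ hψ hG (H60.sl2_perfect (by norm_num)) hz hzθ hw hwψ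

end Cfsg.Agent.H21.Zass
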