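import Cfsg.Agent.H21.Zassenhaus.Main
import Cfsg.Agent.H21.Zassenhaus.FromAction
import Cfsg.Agent.H21.Zassenhaus.Recognition
import Cfsg.Agent.H6.SmallOrder
import Mathlib.GroupTheory.SpecificGroups.ZGroup

/-!
Zassenhaus: a perfect group acting fixed-point-freely on a finite group is `SL(2,5)`.
-/

namespace Cfsg.Agent.H21.Zass

universe u

/-- A perfect group has no nontrivial map to a finite solvable group. -/
theorem map_perfect_trivial {G M : Type*} [Group G] [Group M] (hperf : commutator G = ⊤)
    (f : G →* M) (hsol : Group.IsSolvable f.range) (g : G) : f g = 1 := by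
  by_contra hne
  have : Nontrivial f.range := ⟨⟨f g, g, rfl⟩, 1, fun e => hne (congrArg Subtype.val e)⟩
  refine (Group.IsSolvable.commutator_lt_top_of_nontrivial f.range).ne ?_
  rw [commutator_def, ← Subgroup.map_top_of_surjective f.rangeRestrict f.rangeRestrict_surjective,
    ← Subgroup.map_commutator, ← commutator_def, hperf]

/-- A perfect group acts trivially on a set of at most four points. -/
theorem perm_trivial {G X : Type*} [Group G] [Finite G] [Finite X] (hperf : commutator G = ⊤)
    (hX : Nat.card X ≤ 4) (f : G →* Equiv.Perm X) (g : G) : f g = 1 := by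
  refine map_perfect_trivial hperf f (H6.isSolvable_of_card_lt_sixty ?_) g
  calc Nat.card f.range ≤ Nat.card (Equiv.Perm X) := Subgroup.card_le_card_group _
    _ = (Nat.card X).factorial := Nat.card_perm
    _ < 60 := (Nat.factorial_le hX).trans_lt (by decide)

theorem exists_far_base : ∃ b : alternatingGroup (Fin 5),
    b * b * b = 1 ∧ base * b ≠ b * base ∧ ¬ Rel base b := by
  decide +kernel

theorem exists_far (a : alternatingGroup (Fin 5)) (ha : a * a * a = 1) (ha1 : a ≠ 1) :
    ∃ b : alternatingGroup (Fin 5), b * b * b = 1 ∧ a * b ≠ b * a ∧ ¬ Rel a b := by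
  obtain ⟨g, hg⟩ := exists_conj_base a ha ha1
  set e := MulAut.conj g
  have he : e a = base := hg
  obtain ⟨b, hb, h1, h2⟩ := exists_far_base
  obtain ⟨b, rfl⟩ := e.surjective b
  rw [← he] at h1 h2
  refine ⟨b, e.injective (by rw [map_mul, map_mul, hb, map_one]), fun h => h1 ?_,
    fun h => h2 ((rel_map e).mpr h)⟩
  rw [← map_mul, h, map_mul]

theorem IsCover.lift_three {G : Type*} [Group G] {θ : G →* alternatingGroup (Fin 5)} (C : IsCover θ)
    (hθ : Function.Surjective θ) {c : alternatingGroup (Fin 5)} (hc : c * c * c = 1) (hc1 : c ≠ 1) :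
    ∃ g : G, IsThree g ∧ θ g = c := by
  obtain ⟨g, rfl⟩ := hθ c
  have e : θ (g ^ 4) = θ g := by rw [map_pow, pow_succ, pow_succ, pow_two, hc, one_mul]
  have h6 : (g * g * g) * (g * g * g) = 1 := C.ker _ (by rw [map_mul, map_mul, hc])
  refine ⟨g ^ 4, ⟨?_, fun e1 => hc1 (by rw [← e, e1, map_one])⟩, e⟩
  calc g ^ 4 * g ^ 4 * g ^ 4 = ((g * g * g) * (g * g * g)) ^ 2 := by
        simp only [pow_succ, pow_zero, one_mul, mul_assoc]
    _ = 1 := by rw [h6, one_pow]

section Linear

variable {k : Type*} [Field k] [IsAlgClosed k] {V : Type*} [AddCommGroup V] [Module k V]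
  [FiniteDimensional k V] [Nontrivial V] {G : Type*} [Group G] [Finite G]
  {ρ : G →* Module.End k V}

/-- In a perfect group, if the subgroups of order 3 are at most four then each is central. -/
theorem three_central (h : IsFpf ρ) (hperf : commutator G = ⊤) {x : G} (hx : IsThree x)
    (hX : ∃ a b c d : G, ∀ t, IsThree t → Subgroup.zpowers t = Subgroup.zpowers a ∨
      Subgroup.zpowers t = Subgroup.zpowers b ∨ Subgroup.zpowers t = Subgroup.zpowers c ∨
      Subgroup.zpowers t = Subgroup.zpowers d) (g : G) : g * x * g⁻¹ = x := by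
  obtain ⟨a, b, c, d, hX⟩ := hX
  let X := {P : Subgroup G // ∃ t, IsThree t ∧ Subgroup.zpowers t = P}
  have hcard : Nat.card X ≤ 4 := by
    classical
    let F : Finset (Subgroup G) := {Subgroup.zpowers a, Subgroup.zpowers b, Subgroup.zpowers c,
      Subgroup.zpowers d}
    have hsub : ∀ P : X, P.1 ∈ F := fun P => by
      obtain ⟨t, ht, e⟩ := P.2
      rw [← e]
      simpa [F] using hX t ht
    calc Nat.card X ≤ Nat.card F := Nat.card_le_card_of_injective (fun P => (⟨P.1, hsub P⟩ : F))
          fun P Q e => Subtype.ext (congrArg (fun y : F => y.1) e)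
      _ ≤ 4 := by
        rw [Nat.card_eq_finsetCard]
        exact Finset.card_le_four
  let act : MulAction G X :=
    { smul := fun g P => ⟨P.1.map (MulAut.conj g).toMonoidHom, by
        obtain ⟨t, ht, e⟩ := P.2
        exact ⟨g * t * g⁻¹, isThree_conj ht g, by rw [← e, MonoidHom.map_zpowers]; rfl⟩⟩
      one_smul := fun P => Subtype.ext (show P.1.map (MulAut.conj 1).toMonoidHom = P.1 by
        rw [map_one]; exact Subgroup.map_id _)
      mul_smul := fun g g' P => Subtype.ext (show P.1.map (MulAut.conj (g * g')).toMonoidHom =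
          (P.1.map (MulAut.conj g').toMonoidHom).map (MulAut.conj g).toMonoidHom by
        rw [map_mul, Subgroup.map_map]; rfl) }
  have hfix : ∀ g : G, g * x * g⁻¹ = x ∨ g * x * g⁻¹ = x⁻¹ := fun g => by
    have := congrArg Subtype.val
      (Equiv.ext_iff.mp (perm_trivial hperf hcard (MulAction.toPermHom G X) g) ⟨_, x, hx, rfl⟩)
    have hm : g * x * g⁻¹ ∈ Subgroup.zpowers x :=
      this.le ⟨x, Subgroup.mem_zpowers x, rfl⟩
    refine mem_of_commute h hx (isThree_conj hx g) ?_
    obtain ⟨i, hi⟩ := hm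
    rw [← show x ^ i = g * x * g⁻¹ from hi]
    exact (Commute.self_zpow x i).eq
  let Y := {t : G // t = x ∨ t = x⁻¹}
  have hY : Nat.card Y ≤ 4 := by
    classical
    calc Nat.card Y ≤ Nat.card (({x, x⁻¹} : Finset G) : Type _) :=
          Nat.card_le_card_of_injective (fun P => (⟨P.1, by simpa using P.2⟩ : ({x, x⁻¹} : Finset G)))
            fun P Q e => Subtype.ext (congrArg (fun y : ({x, x⁻¹} : Finset G) => y.1) e)
      _ ≤ 4 := by rw [Nat.card_eq_finsetCard]; exact Finset.card_le_two.trans (by norm_num)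
  let actY : MulAction G Y :=
    { smul := fun g t => ⟨g * t * g⁻¹, by
        rcases t.2 with e | e <;> rw [e]
        · exact hfix g
        · rw [← conj_inv]
          exact (hfix g).symm.imp (fun e => by rw [e, inv_inv]) fun e => by rw [e]⟩
      one_smul := fun t => Subtype.ext (show 1 * t.1 * 1⁻¹ = t.1 by simp)
      mul_smul := fun g g' t => Subtype.ext (show g * g' * t.1 * (g * g')⁻¹ = g * (g' * t.1 * g'⁻¹) * g⁻¹ by
        group) }
  exact congrArg Subtype.val
    (Equiv.ext_iff.mp (perm_trivial hperf hY (MulAction.toPermHom G Y) g) ⟨x, Or.inl rfl⟩)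

/-- In a fixed-point-free perfect group with cyclic Sylow 3-subgroups, no element of order 3 is
central. -/
theorem not_central_three (hperf : commutator G = ⊤) (hcyc : ∀ P : Sylow 3 G, IsCyclic P)
    {x : G} (hx : IsThree x) (hc : ∀ g : G, g * x * g⁻¹ = x) : False := by
  have := Fact.mk Nat.prime_three
  have hxc : x ∈ Subgroup.center G := Subgroup.mem_center_iff.mpr fun g => mul_inv_eq_iff_eq_mul.mp (hc g)
  have hp : IsPGroup 3 (Subgroup.zpowers x) := by
    refine IsPGroup.of_card (n := 1) ?_
    rw [Nat.card_zpowers, pow_one]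
    exact orderOf_eq_prime (by rw [pow_succ, pow_two, hx.1]) hx.2
  obtain ⟨P, hP⟩ := hp.exists_le_sylow
  have hmem := H64.mem_commutator_sylow_of_central P hxc (hperf.ge trivial)
    (hP (Subgroup.mem_zpowers x))
  have := hcyc P
  have hbot : ⁅(P : Subgroup G), (P : Subgroup G)⁆ = ⊥ := by
    rw [Subgroup.commutator_eq_bot_iff_le_centralizer]
    intro a ha
    exact Subgroup.mem_centralizer_iff.mpr fun b hb =>
      congrArg Subtype.val ((IsCyclic.commGroup (α := (P : Subgroup G))).mul_comm ⟨b, hb⟩ ⟨a, ha⟩)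
  rw [hbot, Subgroup.mem_bot] at hmem
  exact hx.2 hmem

/-- The subgroup of order 120 generated by the elements of order 3 is the whole perfect group. -/
theorem eq_top_of_cover (h : IsFpf ρ) (hperf : commutator G = ⊤)
    (hcyc : ∀ (p : ℕ) [Fact p.Prime], p ≠ 2 → ∀ P : Subgroup G, IsPGroup p P → IsCyclic P)
    {S : Subgroup G} (hS : S = Subgroup.closure {t | IsThree t}) (hcard : Nat.card S = 120)
    {θ : S →* alternatingGroup (Fin 5)} (C : IsCover θ) (hθ : Function.Surjective θ) :
    S = ⊤ := by
  have i := S.subtype_injective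
  have hmemS : ∀ t, IsThree t → t ∈ S := fun t ht => hS ▸ Subgroup.subset_closure ht
  have hn : S.Normal := by
    refine ⟨fun s hs g => ?_⟩
    have : S.map (MulAut.conj g).toMonoidHom ≤ S := by
      conv_lhs => rw [hS]
      rw [MonoidHom.map_closure, Subgroup.closure_le]
      rintro _ ⟨t, ht, rfl⟩
      exact hmemS _ (isThree_conj ht g)
    exact this ⟨s, hs, rfl⟩
  -- two generators
  obtain ⟨b₀, b₁, hb₀, -⟩ : ∃ b₀ b₁ : alternatingGroup (Fin 5), (b₀ * b₀ * b₀ = 1 ∧ b₀ ≠ 1) ∧ b₁ = b₀ :=
    ⟨base, base, ⟨by decide +kernel, by decide +kernel⟩, rfl⟩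
  obtain ⟨x, hx, rfl⟩ := C.lift_three hθ hb₀.1 hb₀.2
  obtain ⟨c, hc, hc1, hc2⟩ := exists_far (θ x) hb₀.1 hb₀.2
  obtain ⟨y, hy, rfl⟩ := C.lift_three hθ hc fun e => hc1 (by rw [e, one_mul, mul_one])
  have hX : IsThree (x : G) := (isThree_map i).mpr hx
  have hY : IsThree (y : G) := (isThree_map i).mpr hy
  have hne : (x : G) * y ≠ y * x := fun e =>
    hc1 ((C.commute_iff hx hy).mpr (Subtype.ext e))
  have hr : ¬ RelG (x : G) y := fun e => hc2 ((C.rel_iff hx hy).mpr ((relG_map i).mp e))
  obtain ⟨-, w, hwmem, hw, r1, r2⟩ := (pairG h hX hY hne).1 hr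
  have hyn : (y : G) ∉ tetra w x := fun e => by
    rcases (pairG h hw hX r1.symm.1).2 r1.symm x (by simp [tetra]) y e with e' | e'
    exacts [hne e', hr e']
  obtain ⟨-, -, -, hcard', -⟩ := tripleG h hw hX hY r1.symm r2 hyn
  have hgen : Subgroup.closure ({(x : G), (y : G)} : Set G) = S := by
    refine Subgroup.eq_of_le_of_card_ge ?_ ?_
    · rw [Subgroup.closure_le]; rintro u (rfl | rfl); exacts [x.2, y.2]
    · rw [hcard, ← hcard']
      refine Subgroup.card_le_of_le ((Subgroup.closure_le _).mpr ?_)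
      rintro u (rfl | rfl | rfl)
      exacts [hwmem, Subgroup.subset_closure (by simp), Subgroup.subset_closure (by simp)]
  set K := Subgroup.centralizer (S : Set G) with hK
  have hKn : K.Normal := ⟨fun a ha g => Subgroup.mem_centralizer_iff.mpr fun s hs => by
    have := Subgroup.mem_centralizer_iff.mp ha _ (hn.conj_mem s hs g⁻¹)
    rw [inv_inv] at this
    calc s * (g * a * g⁻¹) = g * ((g⁻¹ * s * g) * a) * g⁻¹ := by group
      _ = g * (a * (g⁻¹ * s * g)) * g⁻¹ := by rw [this]
      _ = g * a * g⁻¹ * s := by group⟩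
  -- the centralizer has small index
  have hT : Nat.card {t : G // IsThree t} ≤ 59 := by
    have h59 : Nat.card {a : alternatingGroup (Fin 5) // a ≠ 1} = 59 := by
      rw [Nat.card_eq_fintype_card]; decide +kernel
    rw [← h59]
    refine Nat.card_le_card_of_injective
      (fun t : {t : G // IsThree t} => (⟨θ ⟨t, hmemS _ t.2⟩,
        (C.three_map ((isThree_map (x := (⟨t, hmemS _ t.2⟩ : S)) i).mp t.2)).2⟩ :
          {a : alternatingGroup (Fin 5) // a ≠ 1})) fun t t' e => ?_
    have := C.inj ((isThree_map (x := (⟨t, hmemS _ t.2⟩ : S)) i).mp t.2)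
      ((isThree_map (x := (⟨t', hmemS _ t'.2⟩ : S)) i).mp t'.2) (congrArg Subtype.val e)
    exact Subtype.ext (congrArg (fun s : S => (s : G)) this)
  have hKidx : K.index ≤ 59 * 59 := by
    let f : G ⧸ K → {t : G // IsThree t} × {t : G // IsThree t} :=
      Quotient.lift (fun g => (⟨g * x * g⁻¹, isThree_conj hX g⟩, ⟨g * y * g⁻¹, isThree_conj hY g⟩))
        fun g g' hgg => by
          have hk : g⁻¹ * g' ∈ K := QuotientGroup.leftRel_apply.mp hgg
          have key : ∀ s ∈ S, g * s * g⁻¹ = g' * s * g'⁻¹ := fun s hs => by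
            have := Subgroup.mem_centralizer_iff.mp hk s hs
            calc g * s * g⁻¹ = g * (s * (g⁻¹ * g')) * g'⁻¹ := by group
              _ = g * ((g⁻¹ * g') * s) * g'⁻¹ := by rw [this]
              _ = g' * s * g'⁻¹ := by group
          simp only [Prod.mk.injEq, Subtype.mk.injEq]
          exact ⟨key x x.2, key y y.2⟩
    have hf : Function.Injective f := by
      intro q q' e
      induction q using QuotientGroup.induction_on with
      | H g =>
        induction q' using QuotientGroup.induction_on with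
        | H g' =>
          have e1 : g * x * g⁻¹ = g' * x * g'⁻¹ := congrArg (fun p => (p.1 : G)) e
          have e2 : g * y * g⁻¹ = g' * y * g'⁻¹ := congrArg (fun p => (p.2 : G)) e
          refine QuotientGroup.eq.mpr (Subgroup.mem_centralizer_iff.mpr fun s hs => ?_)
          rw [SetLike.mem_coe, ← hgen] at hs
          have : ∀ s : G, g * s * g⁻¹ = g' * s * g'⁻¹ → s * (g⁻¹ * g') = g⁻¹ * g' * s := fun s e => by
            calc s * (g⁻¹ * g') = g⁻¹ * (g * s * g⁻¹) * g' := by group
              _ = g⁻¹ * (g' * s * g'⁻¹) * g' := by rw [e]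
              _ = g⁻¹ * g' * s := by group
          induction hs using Subgroup.closure_induction with
          | mem u hu =>
            rcases hu with rfl | rfl
            exacts [this _ e1, this _ e2]
          | one => simp
          | mul u v _ _ hu hv => exact (Commute.mul_left hu hv).eq
          | inv u _ hu => exact (Commute.inv_left hu).eq
    calc K.index = Nat.card (G ⧸ K) := rfl
      _ ≤ Nat.card ({t : G // IsThree t} × {t : G // IsThree t}) := Nat.card_le_card_of_injective f hf
      _ ≤ 59 * 59 := by rw [Nat.card_prod]; exact Nat.mul_le_mul hT hT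
  have hcentre : ∀ s : S, (s : G) ∈ K → θ s = 1 := by
    intro s hs
    have : θ s ∈ Subgroup.center (alternatingGroup (Fin 5)) := by
      refine Subgroup.mem_center_iff.mpr fun a => ?_
      obtain ⟨u, rfl⟩ := hθ a
      rw [← map_mul, ← map_mul]
      exact congrArg θ (Subtype.ext (Subgroup.mem_centralizer_iff.mp hs u u.2))
    rcases (inferInstance : (Subgroup.center (alternatingGroup (Fin 5))).Normal).eq_bot_or_eq_top with e | e
    · rwa [e, Subgroup.mem_bot] at this
    · exfalso
      refine hc1 ?_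
      exact Subgroup.mem_center_iff.mp (e.ge (Subgroup.mem_top _)) _
  have h60 : 60 ≤ K.relIndex S := by
    have hle : K.subgroupOf S ≤ θ.ker := fun s hs => hcentre s hs
    have h1 := Subgroup.index_dvd_of_le hle
    have h2 : θ.ker.index = 60 := by
      rw [Subgroup.index_ker, MonoidHom.range_eq_top.mpr hθ, Subgroup.card_top,
        Nat.card_eq_fintype_card]
      decide +kernel
    rw [← h2]
    exact Nat.le_of_dvd (Nat.pos_of_ne_zero Subgroup.index_ne_zero_of_finite) h1
  have hsup : S ⊔ K = ⊤ := by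
    have hsn : (S ⊔ K).Normal := inferInstance
    have h1 : K.relIndex (S ⊔ K) * (S ⊔ K).index = K.index := Subgroup.relIndex_mul_index le_sup_right
    rw [Subgroup.relIndex_sup_right] at h1
    have h2 : Nat.card (G ⧸ (S ⊔ K)) < 60 := by
      change (S ⊔ K).index < 60
      by_contra hge
      have := Nat.mul_le_mul h60 (not_lt.mp hge)
      omega
    rw [eq_top_iff]
    intro g _
    have := map_perfect_trivial hperf (QuotientGroup.mk' (S ⊔ K))
      (H6.isSolvable_of_card_lt_sixty ((Subgroup.card_le_card_group _).trans_lt h2)) g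
    exact (QuotientGroup.eq_one_iff g).mp this
  -- the centralizer is a Z-group
  obtain ⟨z, hz, hzθ, s₀, hs₀, hs₀z⟩ : ∃ z : S, IsInvol z ∧ θ z = 1 ∧ ∃ s₀ : S, θ s₀ ≠ 1 ∧ s₀ * s₀ = z := by
    obtain ⟨b, _, hb, -, hab, -, -⟩ := two_tetra hb₀.1 hb₀.2
    obtain ⟨a, ha, rfl⟩ := C.lift_three hθ hb fun e => hab.1 (by rw [e, one_mul, mul_one])
    have hR : RelG x a := (C.rel_iff hx ha).mp hab
    obtain ⟨a', e', hi⟩ := hR.exists_orient
    have ha' : IsThree a' := by rcases e' with rfl | rfl; exacts [ha, isThree_inv ha]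
    have hne' : x * a' ≠ a' * x := by
      rcases e' with rfl | rfl
      exacts [hR.1, hR.inv_right.1]
    refine ⟨_, hi, (C.invol_map hx ha' hne').mpr hi, x * a', fun e => hne' ?_, rfl⟩
    by_cases h1 : x * a' = 1
    · rw [h1, mul_eq_one_comm.mp h1]
    · exact absurd (C.ker _ e) hi.2
  have hinvG : InvolCentral G := h.invol_central
  have hK2 : ∀ (j : ℕ) (a : G), a ∈ K → a ^ 2 ^ j = 1 → a * a = 1 := by
    intro j
    induction j with
    | zero => intro a _ ha; rw [pow_zero, pow_one] at ha; rw [ha, one_mul]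
    | succ j ih =>
      intro a ha haj
      rw [pow_succ', pow_mul, pow_two] at haj
      have h4 := ih (a * a) (mul_mem ha ha) haj
      by_contra hne2
      have e : a * a = (z : G) := (hinvG _ ((isInvol_map i).mpr hz)).2 _ ⟨h4, hne2⟩
      have hcomm : (s₀ : G) * a = a * s₀ := Subgroup.mem_centralizer_iff.mp ha _ s₀.2
      have hd : (a * (s₀ : G)⁻¹) * (a * (s₀ : G)⁻¹) = 1 := by
        have hc' : (s₀ : G)⁻¹ * a = a * (s₀ : G)⁻¹ := (Commute.inv_left (show Commute (s₀ : G) a from hcomm)).eq
        calc _ = a * ((s₀ : G)⁻¹ * a) * (s₀ : G)⁻¹ := by simp only [mul_assoc]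
          _ = (a * a) * ((s₀ : G) * s₀)⁻¹ := by rw [hc', mul_inv_rev]; simp only [mul_assoc]
          _ = 1 := by rw [e, ← Subgroup.coe_mul, hs₀z, mul_inv_cancel]
      have haS : a ∈ S := by
        by_cases hd1 : a * (s₀ : G)⁻¹ = 1
        · rw [mul_inv_eq_one] at hd1; rw [hd1]; exact s₀.2
        · have := (hinvG _ ((isInvol_map i).mpr hz)).2 _ ⟨hd, hd1⟩
          rw [mul_inv_eq_iff_eq_mul] at this
          rw [this]; exact mul_mem z.2 s₀.2
      have h1 := C.ker ⟨a, haS⟩ (hcentre ⟨a, haS⟩ ha)
      exact hne2 (congrArg Subtype.val h1)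
  have hZK : IsZGroup K := ⟨fun p hp P => by
    have := Fact.mk hp
    by_cases hp2 : p = 2
    · subst hp2
      have hsq : ∀ a : P, a * a = 1 := fun a => by
        obtain ⟨j, hj⟩ := P.2 a
        exact Subtype.ext (Subtype.ext (hK2 j _ a.1.2
          (by simpa using congrArg (fun y : P => ((y : K) : G)) hj)))
      by_cases hex : ∀ a : P, a = 1
      · have : Subsingleton P := ⟨fun a b => (hex a).trans (hex b).symm⟩
        infer_instance
      push Not at hex
      obtain ⟨a₀, ha₀⟩ := hex
      refine ⟨⟨a₀, fun a => ?_⟩⟩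
      by_cases ha : a = 1
      · exact ⟨0, (zpow_zero a₀).trans ha.symm⟩
      have inv : ∀ b : P, b ≠ 1 → IsInvol ((b : K) : G) := fun b hb =>
        ⟨congrArg (fun y : P => ((y : K) : G)) (hsq b), fun e => hb (Subtype.ext (Subtype.ext e))⟩
      have : a = a₀ := Subtype.ext (Subtype.ext ((hinvG _ (inv a₀ ha₀)).2 _ (inv a ha)))
      exact ⟨1, (zpow_one a₀).trans this.symm⟩
    · have := hcyc p hp2 ((P : Subgroup K).map K.subtype) (P.2.map K.subtype)
      exact isCyclic_of_surjective _ ((P : Subgroup K).equivMapOfInjective K.subtype K.subtype_injective).symm.surjective⟩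
  rw [eq_top_iff]
  intro g _
  let q : K →* G ⧸ S := (QuotientGroup.mk' S).comp K.subtype
  have hq : Function.Surjective q := by
    intro u
    induction u using QuotientGroup.induction_on with
    | H g =>
      obtain ⟨s, hs, k', hk', e⟩ := Subgroup.mem_sup_of_normal_left.mp (hsup.ge (Subgroup.mem_top g))
      refine ⟨⟨k', hk'⟩, ?_⟩
      show (k' : G ⧸ S) = g
      rw [← e, QuotientGroup.mk_mul, (QuotientGroup.eq_one_iff s).mpr hs, one_mul]
  have : IsZGroup (G ⧸ S) := IsZGroup.of_surjective hq
  exact (QuotientGroup.eq_one_iff g).mp (map_perfect_trivial hperf (QuotientGroup.mk' S) inferInstance g)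

end Linear

/-- A perfect group acting fixed-point-freely on a nontrivial finite group is `SL(2,5)`. -/
theorem equiv_SL_of_perfect {G : Type*} [Group G] [Finite G] [Nontrivial G] {K : Type u} [Group K]
    [Finite K] [Nontrivial K] (ψ : G →* MulAut K)
    (hfpf : ∀ e : G, e ≠ 1 → ∀ x : K, ψ e x = x → x = 1) (hperf : commutator G = ⊤) :
    Nonempty (G ≃* Matrix.SpecialLinearGroup (Fin 2) (ZMod 5)) := by
  obtain ⟨k, _, _, V, _, _, _, _, ρ, hρ⟩ := exists_rep ψ hfpf
  have hcyc : ∀ (p : ℕ) [Fact p.Prime], p ≠ 2 → ∀ P : Subgroup G, IsPGroup p P → IsCyclic P :=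
    fun p _ hp P hP => sylow_cyclic ψ hfpf hp hP
  have hnc : ¬ HasNormalPComplement 2 G := by
    rintro ⟨P, N, hN, hc⟩
    have hsol : Group.IsSolvable (QuotientGroup.mk' N).range := by
      have : Group.IsNilpotent (G ⧸ N) := by
        refine IsPGroup.isNilpotent (p := 2) (IsPGroup.of_equiv P.2 ?_)
        exact (hc.symm.QuotientMulEquiv).symm
      infer_instance
    have hNtop : N = ⊤ := eq_top_iff.mpr fun g _ =>
      (QuotientGroup.eq_one_iff g).mp (map_perfect_trivial hperf _ hsol g)
    have h2 : ¬ 2 ∣ Nat.card G := by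
      intro hd
      have hP1 : Nat.card (P : Subgroup G) = 1 := by
        have := hc.card_mul_card
        rw [hNtop, Subgroup.card_top] at this
        exact Nat.eq_of_mul_eq_mul_left Nat.card_pos (this.trans (mul_one _).symm)
      have := Fact.mk Nat.prime_two
      have h3 := P.card_eq_multiplicity
      rw [hP1] at h3
      exact absurd (Nat.Prime.pow_dvd_iff_le_factorization Nat.prime_two Nat.card_pos.ne' (k := 1) |>.mp
        (by simpa using hd)) (by
          intro h1
          have : 2 ≤ 2 ^ (Nat.card G).factorization 2 := by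
            calc 2 = 2 ^ 1 := (pow_one 2).symm
              _ ≤ _ := Nat.pow_le_pow_right two_pos h1
          omega)
    have hZ : IsZGroup G := ⟨fun p hp P' => by
      have := Fact.mk hp
      by_cases hp2 : p = 2
      · subst hp2
        have : Subsingleton P' := by
          rw [← Finite.card_le_one_iff_subsingleton, P'.card_eq_multiplicity,
            Nat.factorization_eq_zero_of_not_dvd h2, pow_zero]
        infer_instance
      · exact hcyc p hp2 P' P'.2⟩
    exact (IsZGroup.commutator_lt (G := G)).ne hperf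
  obtain ⟨x, hx⟩ : ∃ x : G, IsThree x := by
    have := Fact.mk Nat.prime_three
    obtain ⟨x, hx⟩ := exists_prime_orderOf_dvd_card' (G := G) 3 (exists_three ψ hfpf hnc)
    refine ⟨x, ?_, fun e => by rw [e, orderOf_one] at hx; omega⟩
    have := pow_orderOf_eq_one x
    rwa [hx, pow_succ, pow_two] at this
  have hcyc3 : ∀ P : Sylow 3 G, IsCyclic P := fun P =>
    @hcyc 3 ⟨Nat.prime_three⟩ (by norm_num) P P.2
  rcases dichotomy hρ with hcomm | ⟨a, b, ha, hb, hab, hall⟩ | ⟨S, hS, hcard, θ, C, hθ⟩
  · exfalso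
    refine not_central_three hperf hcyc3 hx (three_central hρ hperf hx ⟨x, x, x, x, fun t ht => Or.inl ?_⟩)
    rcases mem_of_commute hρ hx ht (hcomm x t hx ht) with rfl | rfl
    exacts [rfl, Subgroup.zpowers_inv]
  · exfalso
    refine not_central_three hperf hcyc3 hx
      (three_central hρ hperf hx ⟨a, b, a * b * a⁻¹, a⁻¹ * b * a, fun t ht => ?_⟩)
    have hmem := hall t ht
    simp only [tetra, List.mem_cons, List.not_mem_nil, or_false] at hmem
    rcases hmem with rfl | rfl | rfl | rfl | rfl | rfl | rfl | rfl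
    · exact Or.inl rfl
    · exact Or.inl Subgroup.zpowers_inv
    · exact Or.inr (Or.inl rfl)
    · exact Or.inr (Or.inl Subgroup.zpowers_inv)
    · exact Or.inr (Or.inr (Or.inl rfl))
    · refine Or.inr (Or.inr (Or.inl ?_))
      rw [show a * b⁻¹ * a⁻¹ = (a * b * a⁻¹)⁻¹ by group, Subgroup.zpowers_inv]
    · exact Or.inr (Or.inr (Or.inr rfl))
    · refine Or.inr (Or.inr (Or.inr ?_))
      rw [show a⁻¹ * b⁻¹ * a = (a⁻¹ * b * a)⁻¹ by group, Subgroup.zpowers_inv]
  · have htop := eq_top_of_cover hρ hperf hcyc hS hcard C hθ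
    subst htop
    have : 120 = 2 * 60 := rfl
    obtain ⟨z, hz⟩ : ∃ z : (⊤ : Subgroup G), θ z = 1 ∧ z ≠ 1 := by
      by_contra hnone
      have hinj : Function.Injective θ := (injective_iff_map_eq_one θ).mpr fun a ha => by
        by_contra ha1; exact hnone ⟨a, ha, ha1⟩
      have h1 := Nat.card_le_card_of_injective θ hinj
      rw [hcard, Nat.card_eq_fintype_card] at h1
      have h2 : Fintype.card (alternatingGroup (Fin 5)) = 60 := by decide +kernel
      omega
    have hperf' : commutator ↥(⊤ : Subgroup G) = ⊤ := by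
      apply Subgroup.map_injective (Subgroup.subtype_injective _)
      rw [Subgroup.map_subtype_commutator, ← MonoidHom.range_eq_map, Subgroup.range_subtype,
        ← commutator_def, hperf]
    obtain ⟨e⟩ := equiv_SL C hθ hperf' ⟨C.ker z hz.1, hz.2⟩ hz.1
    exact ⟨Subgroup.topEquiv.symm.trans e⟩

end Cfsg.Agent.H21.Zass
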