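import Cfsg.Agent.H21.Zassenhaus.Clique
import Cfsg.Agent.H21.Zassenhaus.Combinatorics

/-!
The relation between elements of order 3 in a group mapped to the alternating group of degree 5 with
kernel of exponent two.
-/

namespace Cfsg.Agent.H21.Zass

variable {G : Type*} [Group G]

/-- The element has order 3. -/
def IsThree (g : G) : Prop := g * g * g = 1 ∧ g ≠ 1

/-- Two elements of order 3 span a binary tetrahedral group. -/
def RelG (x y : G) : Prop :=
  x * y ≠ y * x ∧ (IsInvol ((x * y) * (x * y)) ∨ IsInvol ((x * y⁻¹) * (x * y⁻¹)))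

theorem isInvol_conj {g : G} (h : IsInvol g) (c : G) : IsInvol (c * g * c⁻¹) :=
  ⟨by rw [show c * g * c⁻¹ * (c * g * c⁻¹) = c * (g * g) * c⁻¹ by group, h.1, mul_one, mul_inv_cancel],
    fun e => h.2 (by simpa [mul_inv_eq_one, mul_eq_left] using e)⟩

theorem isInvol_inv {g : G} (h : IsInvol g) : IsInvol g⁻¹ :=
  ⟨by rw [← mul_inv_rev, h.1, inv_one], inv_ne_one.mpr h.2⟩

theorem isThree_inv {g : G} (h : IsThree g) : IsThree g⁻¹ :=
  ⟨by rw [← mul_inv_rev, ← mul_inv_rev, ← mul_assoc, h.1, inv_one], inv_ne_one.mpr h.2⟩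

theorem isThree_conj {g : G} (h : IsThree g) (c : G) : IsThree (c * g * c⁻¹) :=
  ⟨by rw [show c * g * c⁻¹ * (c * g * c⁻¹) * (c * g * c⁻¹) = c * (g * g * g) * c⁻¹ by group, h.1,
      mul_one, mul_inv_cancel],
    fun e => h.2 (by simpa [mul_inv_eq_one, mul_eq_left] using e)⟩

theorem isThree_map {H : Type*} [Group H] {f : H →* G} (hf : Function.Injective f) {x : H} :
    IsThree (f x) ↔ IsThree x := by
  simp [IsThree, ← map_mul, map_eq_one_iff f hf]

theorem isInvol_map {H : Type*} [Group H] {f : H →* G} (hf : Function.Injective f) {x : H} :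
    IsInvol (f x) ↔ IsInvol x := by
  simp [IsInvol, ← map_mul, map_eq_one_iff f hf]

theorem relG_map {H : Type*} [Group H] {f : H →* G} (hf : Function.Injective f) {x y : H} :
    RelG (f x) (f y) ↔ RelG x y := by
  simp only [RelG, ← map_mul, ← map_inv, isInvol_map hf, hf.eq_iff, ne_eq]

theorem RelG.symm {x y : G} (h : RelG x y) : RelG y x := by
  refine ⟨h.1.symm, h.2.imp (fun hi => ?_) fun hi => ?_⟩
  · have := isInvol_conj hi y
    rwa [show y * (x * y * (x * y)) * y⁻¹ = y * x * (y * x) by group] at this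
  · have := isInvol_inv hi
    rwa [show (x * y⁻¹ * (x * y⁻¹))⁻¹ = y * x⁻¹ * (y * x⁻¹) by group] at this

theorem RelG.inv_right {x y : G} (h : RelG x y) : RelG x y⁻¹ :=
  ⟨fun e => h.1 (Commute.inv_right_iff.mp e), by rw [inv_inv]; exact h.2.symm⟩

theorem RelG.inv_left {x y : G} (h : RelG x y) : RelG x⁻¹ y := h.symm.inv_right.symm

/-- One of `y`, `y⁻¹` has involutory square product with `x`. -/
theorem RelG.exists_orient {x y : G} (h : RelG x y) :
    ∃ y', (y' = y ∨ y' = y⁻¹) ∧ IsInvol ((x * y') * (x * y')) :=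
  h.2.elim (fun hi => ⟨y, Or.inl rfl, hi⟩) fun hi => ⟨y⁻¹, Or.inr rfl, hi⟩

theorem isThree_of_mem_tetra {x a u : G} (hx : IsThree x) (ha : IsThree a) (hu : u ∈ tetra x a) :
    IsThree u := by
  simp only [tetra, List.mem_cons, List.not_mem_nil, or_false] at hu
  rcases hu with rfl | rfl | rfl | rfl | rfl | rfl | rfl | rfl
  · exact hx
  · exact isThree_inv hx
  · exact ha
  · exact isThree_inv ha
  · exact isThree_conj ha x
  · exact isThree_conj (isThree_inv ha) x
  · simpa using isThree_conj ha x⁻¹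
  · simpa using isThree_conj (isThree_inv ha) x⁻¹

theorem mem_tetra_of_mem_others {x a u : G} (hu : u ∈ others x a) : u ∈ tetra x a := by
  simp only [others, tetra, List.mem_cons, List.not_mem_nil, or_false] at hu ⊢
  rcases hu with rfl | rfl | rfl <;> simp

theorem mem_closure_of_mem_tetra {x a u : G} {H : Subgroup G} (hx : x ∈ H) (ha : a ∈ H)
    (hu : u ∈ tetra x a) : u ∈ H := by
  simp only [tetra, List.mem_cons, List.not_mem_nil, or_false] at hu
  rcases hu with rfl | rfl | rfl | rfl | rfl | rfl | rfl | rfl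
  exacts [hx, H.inv_mem hx, ha, H.inv_mem ha, H.mul_mem (H.mul_mem hx ha) (H.inv_mem hx),
    H.mul_mem (H.mul_mem hx (H.inv_mem ha)) (H.inv_mem hx),
    H.mul_mem (H.mul_mem (H.inv_mem hx) ha) hx, H.mul_mem (H.mul_mem (H.inv_mem hx) (H.inv_mem ha)) hx]

section Map

variable {R : Type*} [Group R] (f : G →* R)

theorem tetra_hom (x a : G) : tetra (f x) (f a) = (tetra x a).map f := by simp [tetra]

theorem others_hom (x a : G) : others (f x) (f a) = (others x a).map f := by simp [others]

end Map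

/-- An element of order at most two commuting with two noncommuting elements of order 3. -/
theorem eq_one_of_commute_pair : ∀ a : alternatingGroup (Fin 5), a * a * a = 1 → a ≠ 1 →
    ∀ b : alternatingGroup (Fin 5), b * b * b = 1 → a * b ≠ b * a →
      ∀ w : alternatingGroup (Fin 5), w * w = 1 → w * a = a * w → w = 1 := by
  intro a ha ha1 b _ _ w hw hc
  obtain ⟨g, hg⟩ := exists_conj_base a ha ha1
  have key : ∀ w : alternatingGroup (Fin 5), w * w = 1 → w * base = base * w → w = 1 := by
    decide +kernel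
  refine (EmbeddingLike.map_eq_one_iff (f := MulAut.conj g)).mp (key _ (by rw [← map_mul, hw, map_one]) ?_)
  rw [← hg, ← MulAut.conj_apply, ← map_mul, hc, map_mul]

/-- Involutions are central and unique. -/
def InvolCentral (G : Type*) [Group G] : Prop :=
  ∀ g : G, IsInvol g → (∀ x, g * x = x * g) ∧ ∀ g', IsInvol g' → g' = g

variable {θ : G →* alternatingGroup (Fin 5)}

/-- The transfer facts for a map to the alternating group with kernel of exponent two. -/
structure IsCover (θ : G →* alternatingGroup (Fin 5)) : Prop where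
  ker : ∀ g, θ g = 1 → g * g = 1
  invol : InvolCentral G

namespace IsCover

variable (C : IsCover θ)
include C

theorem three_map {t : G} (ht : IsThree t) : IsThree (θ t) := by
  refine ⟨by rw [← map_mul, ← map_mul, ht.1, map_one], fun e => ht.2 ?_⟩
  have := ht.1
  rwa [C.ker t e, one_mul] at this

theorem inj {s t : G} (hs : IsThree s) (ht : IsThree t) (e : θ s = θ t) : s = t := by
  have hk : (s⁻¹ * t) * (s⁻¹ * t) = 1 := C.ker _ (by rw [map_mul, map_inv, e, inv_mul_cancel])
  by_contra hne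
  have hi : IsInvol (s⁻¹ * t) := ⟨hk, fun e' => hne (inv_mul_eq_one.mp e')⟩
  obtain ⟨hc, -⟩ := C.invol _ hi
  generalize hd : s⁻¹ * t = d at *
  have hst : t = s * d := by rw [← hd, mul_inv_cancel_left]
  have h3 : t * t * t = s * s * s * (d * d * d) := by
    rw [hst]
    calc _ = s * (d * s) * (d * s) * d := by simp only [mul_assoc]
      _ = s * (s * d) * (s * d) * d := by rw [hc s]
      _ = s * s * (d * s) * (d * d) := by simp only [mul_assoc]
      _ = s * s * (s * d) * (d * d) := by rw [hc s]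
      _ = _ := by simp only [mul_assoc]
  rw [ht.1, hs.1, hk, one_mul, one_mul] at h3
  exact hi.2 h3.symm

theorem commute_iff {s t : G} (hs : IsThree s) (ht : IsThree t) :
    θ s * θ t = θ t * θ s ↔ s * t = t * s := by
  refine ⟨fun e => ?_, fun e => by rw [← map_mul, e, map_mul]⟩
  have := C.inj (isThree_conj ht s) ht (by rw [map_mul, map_mul, map_inv, e, mul_inv_cancel_right])
  rwa [mul_inv_eq_iff_eq_mul] at this

theorem invol_map {x y : G} (hx : IsThree x) (hy : IsThree y) (hne : x * y ≠ y * x) :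
    θ ((x * y) * (x * y)) = 1 ↔ IsInvol ((x * y) * (x * y)) := by
  refine ⟨fun e => ⟨C.ker _ e, fun e1 => hne ?_⟩, fun hi => ?_⟩
  · have hxy : IsInvol (x * y) := ⟨e1, fun e2 => hne (by
      rw [e2]; exact (mul_eq_one_comm.mp e2).symm)⟩
    have hc := (C.invol _ hxy).1 x
    exact mul_left_cancel (a := x) (by rw [← mul_assoc x y x]; exact hc.symm)
  · refine eq_one_of_commute_pair (θ x) (C.three_map hx).1 (C.three_map hx).2 (θ y) (C.three_map hy).1
      (fun e => hne ((C.commute_iff hx hy).mp e)) _ (by rw [← map_mul, hi.1, map_one]) ?_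
    rw [← map_mul, (C.invol _ hi).1 x, map_mul]

theorem rel_iff {x y : G} (hx : IsThree x) (hy : IsThree y) : Rel (θ x) (θ y) ↔ RelG x y := by
  by_cases hne : x * y = y * x
  · exact ⟨fun h => absurd (by rw [← map_mul, hne, map_mul]) h.1, fun h => absurd hne h.1⟩
  rw [Rel, RelG, ne_eq, C.commute_iff hx hy, ← map_inv, ← map_mul, ← map_mul, ← map_mul, ← map_mul,
    C.invol_map hx hy hne, C.invol_map hx (isThree_inv hy) fun e => hne (Commute.inv_right_iff.mp e)]

theorem mem_tetra_iff {x a b : G} (hx : IsThree x) (ha : IsThree a) (hb : IsThree b) :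
    θ b ∈ tetra (θ x) (θ a) ↔ b ∈ tetra x a := by
  rw [tetra_hom, List.mem_map]
  refine ⟨fun ⟨u, hu, e⟩ => ?_, fun h => ⟨b, h, rfl⟩⟩
  rwa [← C.inj (isThree_of_mem_tetra hx ha hu) hb e]

/-- Pairs of elements of order 3. -/
theorem pair_facts {x y : G} (hx : IsThree x) (hy : IsThree y) :
    (x * y ≠ y * x → ¬ RelG x y →
      ((x * y) ^ 5) * ((x * y) ^ 5) = 1 ∧ ∃ w, IsThree w ∧ RelG x w ∧ RelG w y) ∧
    (RelG x y → ∀ u ∈ tetra x y, ∀ v ∈ tetra x y, u * v = v * u ∨ RelG u v) := by
  obtain ⟨h1, h2⟩ := pairFacts (C.three_map hx).1 (C.three_map hx).2 (C.three_map hy).1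
  refine ⟨fun hne hr => ?_, fun hr u hu v hv => ?_⟩
  · obtain ⟨h5, h3, hw1, hr1, hr2⟩ :=
      h1 (fun e => hne ((C.commute_iff hx hy).mp e)) (fun e => hr ((C.rel_iff hx hy).mp e))
    refine ⟨C.ker _ (by simp only [map_pow, map_mul, pow_succ, pow_zero, one_mul]; exact h5), ?_⟩
    generalize hw : θ x * θ y * (θ x)⁻¹ * (θ y)⁻¹ = w at *
    have e : w = θ (x * y * x⁻¹ * y⁻¹) := by rw [← hw]; simp
    generalize x * y * x⁻¹ * y⁻¹ = g at e
    subst e
    have hg6 : (g * g * g) * (g * g * g) = 1 := C.ker _ (by rw [map_mul, map_mul, h3])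
    have hθ : θ (g ^ 4) = θ g := by
      rw [map_pow, pow_succ, pow_succ, pow_two, h3, one_mul]
    have hg : IsThree (g ^ 4) := by
      refine ⟨?_, fun e => hw1 (by rw [← hθ, e, map_one])⟩
      calc g ^ 4 * g ^ 4 * g ^ 4 = ((g * g * g) * (g * g * g)) ^ 2 := by
            simp only [pow_succ, pow_zero, one_mul, mul_assoc]
        _ = 1 := by rw [hg6, one_pow]
    rw [← hθ] at hr1 hr2
    exact ⟨g ^ 4, hg, (C.rel_iff hx hg).mp hr1, (C.rel_iff hg hy).mp hr2⟩
  · have hu' := isThree_of_mem_tetra hx hy hu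
    have hv' := isThree_of_mem_tetra hx hy hv
    rw [← C.commute_iff hu' hv', ← C.rel_iff hu' hv']
    exact h2 ((C.rel_iff hx hy).mpr hr) _ ((C.mem_tetra_iff hx hy hu').mpr hu) _
      ((C.mem_tetra_iff hx hy hv').mpr hv)

/-- Triples of elements of order 3. -/
theorem triple_facts {x a b : G} (hx : IsThree x) (ha : IsThree a) (hb : IsThree b) (hxa : RelG x a)
    (hxb : RelG x b) (hn : b ∉ tetra x a) :
    (∃ d ∈ others x a, RelG d b) ∧
    (RelG a b → IsInvol ((x * a) * (x * a)) → IsInvol ((x * b) * (x * b)) →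
      IsInvol ((a * b) * (a * b))) ∧
    (∀ a' ∈ others x a, ∀ b' ∈ others x b,
      RelG x a' ∧ RelG x b' ∧ b' ∉ tetra x a' ∧ a' * b' ≠ b' * a') ∧
    (Function.Surjective θ) := by
  have r1 := (C.rel_iff hx ha).mpr hxa
  have r2 := (C.rel_iff hx hb).mpr hxb
  have r3 : θ b ∉ tetra (θ x) (θ a) := fun e => hn ((C.mem_tetra_iff hx ha hb).mp e)
  obtain ⟨h1, h2, h3⟩ := tripleFacts (C.three_map hx).1 (C.three_map hx).2 (C.three_map ha).1
    (C.three_map hb).1
  have hot : ∀ {y u : G}, IsThree y → u ∈ others x y → IsThree u := fun hy hu =>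
    isThree_of_mem_tetra hx hy (mem_tetra_of_mem_others hu)
  refine ⟨?_, fun hab hi hi' => ?_, fun a' ha' b' hb' => ?_, ?_⟩
  · obtain ⟨d, hd, hr⟩ := h1 r1 r2 r3
    rw [others_hom, List.mem_map] at hd
    obtain ⟨d, hd, rfl⟩ := hd
    exact ⟨d, hd, (C.rel_iff (hot ha hd) hb).mp hr⟩
  · have := h2 r1 r2 ((C.rel_iff ha hb).mpr hab) r3
      (by rw [← map_mul, ← map_mul]; exact (C.invol_map hx ha hxa.1).mpr hi)
      (by rw [← map_mul, ← map_mul]; exact (C.invol_map hx hb hxb.1).mpr hi')
    rw [← map_mul, ← map_mul] at this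
    exact (C.invol_map ha hb hab.1).mp this
  · have m : ∀ {y u : G}, u ∈ others x y → θ u ∈ others (θ x) (θ y) := fun hu => by
      rw [others_hom]; exact List.mem_map_of_mem hu
    obtain ⟨q1, q2, q3, q4⟩ := h3 r1 r2 r3 _ (m ha') _ (m hb')
    exact ⟨(C.rel_iff hx (hot ha ha')).mp q1, (C.rel_iff hx (hot hb hb')).mp q2,
      fun e => q3 ((C.mem_tetra_iff hx (hot ha ha') (hot hb hb')).mpr e),
      fun e => q4 ((C.commute_iff (hot ha ha') (hot hb hb')).mpr e)⟩
  · rw [← MonoidHom.range_eq_top]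
    have hcard := card_words (C.three_map hx).1 (C.three_map hx).2 (C.three_map ha).1
      (C.three_map hb).1 r1 r2 r3
    have hsub : ∀ u ∈ words (θ x) (θ a) (θ b), u ∈ θ.range := by
      intro u hu
      have : ∀ g, θ g ∈ θ.range := fun g => ⟨g, rfl⟩
      simp only [words, tetra, List.mem_append, List.mem_cons, List.not_mem_nil, or_false,
        ← map_inv, ← map_mul] at hu
      rcases hu with (rfl | rfl | rfl | rfl | rfl | rfl | rfl | rfl) |
        (rfl | rfl | rfl | rfl | rfl | rfl | rfl | rfl | rfl | rfl | rfl | rfl | rfl) <;>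
        first | exact one_mem _ | exact this _
    have h15 : 15 < Nat.card θ.range := hcard.trans_le (by
      classical
      rw [Nat.card_eq_fintype_card, ← Fintype.card_coe]
      exact Fintype.card_le_of_injective
        (fun u : ↥(words (θ x) (θ a) (θ b)).toFinset => (⟨u.1, hsub _ (List.mem_toFinset.mp u.2)⟩ : θ.range))
        fun u v e => Subtype.ext (congrArg (fun w : θ.range => (w : alternatingGroup (Fin 5))) e))
    have h3d : 3 ∣ Nat.card θ.range := by
      have e : orderOf (θ x) = 3 := orderOf_eq_prime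
        (by rw [pow_succ, pow_two]; exact (C.three_map hx).1) (C.three_map hx).2
      rw [← e, ← Subgroup.orderOf_mk (H := θ.range) (θ x) ⟨x, rfl⟩]
      exact orderOf_dvd_natCard _
    have h60 : Nat.card (alternatingGroup (Fin 5)) = 60 := by
      rw [Nat.card_eq_fintype_card]; decide +kernel
    have hmul := θ.range.index_mul_card
    rw [h60] at hmul
    have hd : Nat.card θ.range ∣ 60 := ⟨θ.range.index, by rw [← hmul, mul_comm]⟩
    have : Nat.card θ.range = 30 ∨ Nat.card θ.range = 60 := by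
      have hle : Nat.card θ.range ≤ 60 := Nat.le_of_dvd (by norm_num) hd
      obtain ⟨c, hc⟩ := h3d
      have : c ≤ 20 := by omega
      rw [hc] at hd h15 ⊢
      interval_cases c <;> omega
    rcases this with h30 | h60'
    · exfalso
      rw [h30] at hmul
      have hn := Subgroup.normal_of_index_eq_two (H := θ.range) (by omega)
      rcases hn.eq_bot_or_eq_top with e | e
      · rw [e, Subgroup.card_bot] at h30; omega
      · rw [e, Subgroup.card_top, h60] at h30; omega
    · exact Subgroup.eq_top_of_card_eq _ (h60'.trans h60.symm)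

end IsCover

end Cfsg.Agent.H21.Zass
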