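import Cfsg.Agent.H21.Zassenhaus.Setting
import Cfsg.Agent.H21.Zassenhaus.OrbitCount
import Mathlib.LinearAlgebra.Charpoly.Basic
import Mathlib.LinearAlgebra.Charpoly.ToMatrix
import Mathlib.RingTheory.IntegralDomain

/-!
Two-dimensional fixed-point-free groups generated by elements of order 3.
-/

namespace Cfsg.Agent.H21.Zass

open MulAction

variable {k : Type*} [Field k] [IsAlgClosed k] {V : Type*} [AddCommGroup V] [Module k V]
  [FiniteDimensional k V] {G : Type*} [Group G] [Finite G] {ρ : G →* Module.End k V}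

omit [IsAlgClosed k] in
/-- Cayley-Hamilton in dimension two. -/
theorem quadratic_eq (hV : Module.finrank k V = 2) (f : Module.End k V) :
    ∃ b : k, f * f + b • f + LinearMap.det f • 1 = 0 := by
  refine ⟨f.charpoly.coeff 1, ?_⟩
  have h := LinearMap.aeval_self_charpoly f
  rw [Polynomial.aeval_eq_sum_range, LinearMap.charpoly_natDegree, hV] at h
  have hdet : LinearMap.det f = f.charpoly.coeff 0 := by
    rw [LinearMap.det_eq_sign_charpoly_coeff, hV]; simp
  have hlead : f.charpoly.coeff 2 = 1 := by
    have := (LinearMap.charpoly_monic f).coeff_natDegree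
    rwa [LinearMap.charpoly_natDegree, hV] at this
  simp only [Finset.sum_range_succ, Finset.range_zero, Finset.sum_empty, hlead, pow_zero, pow_one,
    one_smul, zero_add, pow_two] at h
  rw [hdet, ← h]; abel

/-- A finite two-dimensional fixed-point-free group generated by elements of order 3. -/
theorem exists_embedding_of_finrank_two (h : IsFpf ρ) (hV : Module.finrank k V = 2) {T : Set G}
    (hT : Subgroup.closure T = ⊤) (hT3 : ∀ t ∈ T, t * t * t = 1) {x a : G} (hx : x * x * x = 1)
    (hx1 : x ≠ 1) (ha : a * a * a = 1) (hna : x * a ≠ a * x) :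
    ∃ θ : G →* alternatingGroup (Fin 5), ∀ g, θ g = 1 → g * g = 1 := by
  have : Nontrivial V := Module.nontrivial_of_finrank_eq_succ (n := 1) hV
  let Z : Subgroup G :=
    { carrier := {g | ∃ μ : k, ρ g = μ • 1}
      one_mem' := ⟨1, by simp⟩
      mul_mem' := fun {g g'} ⟨μ, hμ⟩ ⟨μ', hμ'⟩ =>
        ⟨μ * μ', by rw [map_mul, hμ, hμ', smul_mul_smul_comm, one_mul]⟩
      inv_mem' := fun {g} ⟨μ, hμ⟩ => by
        have h1 : ρ g * ρ g⁻¹ = 1 := by rw [← map_mul, mul_inv_cancel, map_one]
        rw [hμ, smul_mul_assoc, one_mul] at h1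
        have hμ0 : μ ≠ 0 := fun e => one_ne_zero (h1.symm.trans (by rw [e, zero_smul]))
        exact ⟨μ⁻¹, by rw [← h1, smul_smul, inv_mul_cancel₀ hμ0, one_smul]⟩ }
  have hmemZ : ∀ g : G, g ∈ Z ↔ ∃ μ : k, ρ g = μ • 1 := fun g => Iff.rfl
  have hcentral : ∀ g ∈ Z, ∀ g', g * g' = g' * g := fun g hg g' => by
    obtain ⟨μ, hμ⟩ := (hmemZ g).mp hg
    exact h.injective (by simp [map_mul, hμ])
  have hx3 : ∀ t : G, t * t * t = 1 → t ≠ 1 → t ∉ Z := by
    intro t ht ht1 htZ
    obtain ⟨μ, hμ⟩ := (hmemZ t).mp htZ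
    rcases h.eq_or_eq_sq hx hx1 ht ht1 (hcentral t htZ x).symm with e | e
    · exact hna (hcentral x (e ▸ htZ) a)
    · refine hna (hcentral x ?_ a)
      have : x = t * t := by rw [e]; rw [show x * x * (x * x) = x * x * x * x by group, hx, one_mul]
      exact this ▸ Z.mul_mem htZ htZ
  have hdet : ∀ g, LinearMap.det (ρ g) = 1 := by
    let χ : G →* k := LinearMap.det.comp ρ
    have hχ : ∀ t ∈ T, χ t = 1 := by
      intro t ht
      by_cases ht1 : t = 1
      · rw [ht1, map_one]
      obtain ⟨b, hb⟩ := quadratic_eq hV (ρ t)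
      have hc := h.cube (hT3 t ht) ht1
      have e : (b - 1) • ρ t + (χ t - 1) • (1 : Module.End k V) =
          (ρ t * ρ t + b • ρ t + LinearMap.det (ρ t) • 1) - (ρ t * ρ t + ρ t + 1) := by
        rw [sub_smul, sub_smul, one_smul, one_smul, show χ t = LinearMap.det (ρ t) from rfl]
        abel
      rw [hb, hc, sub_zero] at e
      by_contra hne
      have hb1 : b - 1 ≠ 0 := fun e' => by
        rw [e', zero_smul, zero_add, smul_eq_zero_iff_left one_ne_zero] at e
        exact hne (sub_eq_zero.mp e)
      refine hx3 t (hT3 t ht) ht1 ((hmemZ t).mpr ⟨-((χ t - 1) / (b - 1)), ?_⟩)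
      rw [eq_neg_of_add_eq_zero_left e |> (eq_inv_smul_iff₀ hb1).mpr, smul_neg, smul_smul, neg_smul,
        div_eq_inv_mul]
    intro g
    have hg : g ∈ Subgroup.closure T := hT ▸ Subgroup.mem_top g
    show χ g = 1
    induction hg using Subgroup.closure_induction with
    | mem y hy => exact hχ y hy
    | one => exact map_one χ
    | mul y z _ _ hy hz => rw [map_mul, hy, hz, one_mul]
    | inv y _ hy =>
      calc χ y⁻¹ = χ y⁻¹ * χ y := by rw [hy, mul_one]
        _ = 1 := by rw [← map_mul, inv_mul_cancel, map_one]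
  have hZsq : ∀ g ∈ Z, g * g = 1 := by
    intro g hg
    obtain ⟨μ, hμ⟩ := (hmemZ g).mp hg
    have := hdet g
    rw [hμ, LinearMap.det_smul, hV, map_one, mul_one] at this
    exact h.injective (by rw [map_mul, hμ, smul_mul_smul_comm, one_mul, ← pow_two, this, one_smul, map_one])
  have hZn : Z.Normal := ⟨fun g hg g' => by rwa [← hcentral g hg g', mul_inv_cancel_right]⟩
  -- the lines stable under an element
  let Line : Submodule k V → Prop := fun L => Module.finrank k L = 1
  let St : G → Submodule k V → Prop := fun g L => ∀ v ∈ L, ρ g v ∈ L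
  have hval : ∀ g L, Line L → St g L → ∃ μ : k, ∀ v ∈ L, ρ g v = μ • v := by
    intro g L hL hg
    obtain ⟨v, hv0, hv⟩ := (finrank_eq_one_iff' (K := k) (V := L)).mp hL
    obtain ⟨μ, hμ⟩ := hv ⟨ρ g v, hg v v.2⟩
    refine ⟨μ, fun w hw => ?_⟩
    obtain ⟨c, hc⟩ := hv ⟨w, hw⟩
    have hμ' : μ • (v : V) = ρ g v := congrArg Subtype.val hμ
    have hc' : c • (v : V) = w := congrArg Subtype.val hc
    rw [← hc', map_smul, ← hμ', smul_comm]
  have htwo : ∀ g, g ∉ Z → ∃ L₁ L₂ : Submodule k V, L₁ ≠ L₂ ∧ {L | Line L ∧ St g L} = {L₁, L₂} := by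
    intro g hg
    obtain ⟨μ, hμ⟩ := Module.End.exists_eigenvalue (ρ g)
    obtain ⟨b, hb⟩ := quadratic_eq hV (ρ g)
    rw [hdet, one_smul] at hb
    have hroot : ∀ ν (w : V), w ≠ 0 → ρ g w = ν • w → ν * ν + b * ν + 1 = 0 := by
      intro ν w hw0 hw
      have := LinearMap.congr_fun hb w
      simp only [LinearMap.add_apply, Module.End.mul_apply, LinearMap.smul_apply, hw, map_smul,
        smul_smul, Module.End.one_apply, LinearMap.zero_apply] at this
      rw [← add_smul] at this
      nth_rw 2 [← one_smul k w] at this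
      rw [← add_smul] at this
      exact (smul_eq_zero.mp this).resolve_right hw0
    obtain ⟨v₁, hv₁, hv₁0⟩ := Submodule.exists_mem_ne_zero_of_ne_bot hμ
    rw [Module.End.mem_eigenspace_iff] at hv₁
    have hμr := hroot μ v₁ hv₁0 hv₁
    have hμ0 : μ ≠ 0 := fun e => by simp [e] at hμr
    have hb' : b = -(μ + μ⁻¹) := by field_simp; linear_combination hμr
    have hne : μ ≠ μ⁻¹ := by
      intro e
      have hsq : μ * μ = 1 := by nth_rw 2 [e]; exact mul_inv_cancel₀ hμ0
      by_cases h1 : g = 1
      · exact hg (h1 ▸ Z.one_mem)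
      have hgg : g * g = 1 := by
        by_contra hgg
        exact hv₁0 (h _ hgg v₁ (by
          rw [map_mul, Module.End.mul_apply, hv₁, map_smul, hv₁, smul_smul, hsq, one_smul]))
      exact hg ((hmemZ g).mpr ⟨-1, by rw [h.eq_neg_one hgg h1, neg_one_smul]⟩)
    let E := fun ν => Module.End.eigenspace (ρ g) ν
    have hμ' : E μ⁻¹ ≠ ⊥ := by
      intro hbot
      refine hg ((hmemZ g).mpr ⟨μ, LinearMap.ext fun v => ?_⟩)
      have hw : ρ g v - μ • v ∈ E μ⁻¹ := by
        simp only [E, Module.End.mem_eigenspace_iff, map_sub, map_smul, smul_sub, smul_smul,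
          inv_mul_cancel₀ hμ0, one_smul]
        have := LinearMap.congr_fun hb v
        simp only [LinearMap.add_apply, Module.End.mul_apply, LinearMap.smul_apply,
          Module.End.one_apply, LinearMap.zero_apply] at this
        rw [hb', neg_smul, add_smul] at this
        rw [← sub_eq_zero, ← this]; abel
      rw [hbot, Submodule.mem_bot, sub_eq_zero] at hw
      simpa using hw
    have hd : Disjoint (E μ) (E μ⁻¹) := by
      rw [Submodule.disjoint_def]
      intro v h1 h2
      simp only [E, Module.End.mem_eigenspace_iff] at h1 h2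
      rw [h1] at h2
      by_contra hv0
      exact hne (smul_left_injective k hv0 h2)
    have hsum := Submodule.finrank_sup_add_finrank_inf_eq (E μ) (E μ⁻¹)
    rw [hd.eq_bot, finrank_bot, add_zero] at hsum
    have h2 := (Submodule.finrank_le (E μ ⊔ E μ⁻¹)).trans hV.le
    have h3 : 0 < Module.finrank k (E μ) := by
      have : Nontrivial (E μ) := Submodule.nontrivial_iff_ne_bot.mpr hμ
      exact Module.finrank_pos
    have h4 : 0 < Module.finrank k (E μ⁻¹) := by
      have : Nontrivial (E μ⁻¹) := Submodule.nontrivial_iff_ne_bot.mpr hμ'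
      exact Module.finrank_pos
    have hE : ∀ ν, St g (E ν) := fun ν v hv => by
      simp only [E, Module.End.mem_eigenspace_iff] at hv ⊢
      rw [hv, map_smul, hv]
    refine ⟨E μ, E μ⁻¹, fun e => hμ (disjoint_self.mp (show Disjoint (E μ) (E μ) by nth_rw 2 [e]; exact hd)),
      Set.ext fun L => ⟨fun hL => ?_, ?_⟩⟩
    · obtain ⟨ν, hν⟩ := hval g L hL.1 hL.2
      obtain ⟨v, hv, hv0⟩ := Submodule.exists_mem_ne_zero_of_ne_bot
        (fun e : L = ⊥ => by have := hL.1; simp [Line, e] at this)
      have hνr := hroot ν v hv0 (hν v hv)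
      rw [hb'] at hνr
      have : (ν - μ) * (ν - μ⁻¹) = 0 := by
        rw [← hνr, sub_mul, mul_sub, mul_sub, mul_inv_cancel₀ hμ0]; ring
      rcases mul_eq_zero.mp this with e | e <;> rw [sub_eq_zero] at e <;> subst e
      · exact Or.inl (Submodule.eq_of_le_of_finrank_le
          (fun w hw => Module.End.mem_eigenspace_iff.mpr (hν w hw)) (by rw [hL.1]; omega))
      · exact Or.inr (Submodule.eq_of_le_of_finrank_le
          (fun w hw => Module.End.mem_eigenspace_iff.mpr (hν w hw)) (by rw [hL.1]; omega))
    · rintro (rfl | rfl) <;> exact ⟨show Module.finrank k _ = 1 by omega, hE _⟩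
  let X := {L : Submodule k V // Line L ∧ ∃ g, g ∉ Z ∧ St g L}
  have : Finite X := by
    refine ((Set.finite_iUnion (ι := G) (f := fun g => {L | g ∉ Z ∧ Line L ∧ St g L}) fun g => ?_).subset
      ?_).to_subtype
    · show Set.Finite {L | g ∉ Z ∧ Line L ∧ St g L}
      by_cases hg : g ∈ Z
      · simp [hg]
      obtain ⟨L₁, L₂, -, e⟩ := htwo g hg
      simp only [hg, not_false_eq_true, true_and, e]
      exact Set.toFinite _
    · intro L ⟨hL, g, hg, hst⟩
      exact Set.mem_iUnion.mpr ⟨g, hg, hL, hst⟩
  have hinj : ∀ g : G, Function.Injective (ρ g) := fun g =>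
    Function.LeftInverse.injective (g := ρ g⁻¹) fun v => by
      rw [← Module.End.mul_apply, ← map_mul, inv_mul_cancel, map_one, Module.End.one_apply]
  have hline : ∀ g L, Line L → Line (L.map (ρ g)) := fun g L hL => by
    show Module.finrank k _ = 1
    rw [← (Submodule.equivMapOfInjective _ (hinj g) L).finrank_eq]; exact hL
  have hst : ∀ g g' L, St g' L → St (g * g' * g⁻¹) (L.map (ρ g)) := by
    rintro g g' L hL _ ⟨v, hv, rfl⟩
    refine ⟨ρ g' v, hL v hv, ?_⟩
    rw [← Module.End.mul_apply, ← Module.End.mul_apply, ← map_mul, ← map_mul, inv_mul_cancel_right]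
  let act : MulAction G X :=
    { smul := fun g L => ⟨L.1.map (ρ g), hline g _ L.2.1, by
        obtain ⟨g', hg', hL⟩ := L.2.2
        exact ⟨g * g' * g⁻¹, fun e => hg' (by simpa [mul_assoc] using hZn.conj_mem _ e g⁻¹), hst g g' _ hL⟩⟩
      one_smul := fun L => Subtype.ext (show L.1.map (ρ 1) = _ by
        rw [map_one, Module.End.one_eq_id, Submodule.map_id])
      mul_smul := fun g g' L => Subtype.ext (show L.1.map (ρ (g * g')) = (L.1.map (ρ g')).map (ρ g) by
        rw [map_mul, Module.End.mul_eq_comp, Submodule.map_comp]) }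
  have hfix : ∀ (g : G) (L : X), g • L = L ↔ St g L.1 := fun g L => by
    rw [Subtype.ext_iff]
    show L.1.map (ρ g) = L.1 ↔ _
    refine ⟨fun e v hv => e ▸ Submodule.mem_map_of_mem hv, fun hs => ?_⟩
    refine Submodule.eq_of_le_of_finrank_le (by rintro _ ⟨v, hv, rfl⟩; exact hs v hv) ?_
    rw [L.2.1, hline g _ L.2.1]
  have hle : Z ≤ (MulAction.toPermHom G X).ker := fun g hg => Equiv.ext fun L => by
    obtain ⟨μ, hμ⟩ := (hmemZ g).mp hg
    show g • L = L
    rw [hfix]
    intro v hv
    rw [hμ]
    exact L.1.smul_mem μ hv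
  let actQ : MulAction (G ⧸ Z) X :=
    MulAction.compHom X (QuotientGroup.lift Z (MulAction.toPermHom G X) hle)
  have hsmul : ∀ (g : G) (L : X), (g : G ⧸ Z) • L = g • L := fun g L => rfl
  have key : ∃ θ : G ⧸ Z →* alternatingGroup (Fin 5), Function.Injective θ := by
    refine exists_embedding_alternating (X := X) ?_ ?_ ?_ ?_
    · intro q hq
      induction q using QuotientGroup.induction_on with
      | H g =>
        rw [ne_eq, QuotientGroup.eq_one_iff] at hq
        obtain ⟨L₁, L₂, hne, e⟩ := htwo g hq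
        have hm : ∀ L, L = L₁ ∨ L = L₂ ↔ Line L ∧ St g L := fun L => (Set.ext_iff.mp e L).symm
        have m₁ := (hm L₁).mp (Or.inl rfl)
        have m₂ := (hm L₂).mp (Or.inr rfl)
        have : fixedBy X (g : G ⧸ Z) = {⟨L₁, m₁.1, g, hq, m₁.2⟩, ⟨L₂, m₂.1, g, hq, m₂.2⟩} := by
          ext L
          simp only [MulAction.mem_fixedBy, hsmul, hfix, Set.mem_insert_iff, Set.mem_singleton_iff]
          rw [Subtype.ext_iff, Subtype.ext_iff, hm L.1]
          exact ⟨fun hs => ⟨L.2.1, hs⟩, And.right⟩
        rw [this, Nat.card_coe_set_eq, Set.ncard_pair fun e' => hne (congrArg Subtype.val e')]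
    · intro L
      obtain ⟨hL, g₀, hg₀, hst₀⟩ := L.2
      have hS : MulAction.stabilizer (G ⧸ Z) L = (MulAction.stabilizer G L).map (QuotientGroup.mk' Z) := by
        ext q
        induction q using QuotientGroup.induction_on with
        | H g =>
          refine ⟨fun hq => ⟨g, hq, rfl⟩, ?_⟩
          rintro ⟨g', hg', e⟩
          show (g : G ⧸ Z) • L = L
          rw [← e]
          exact hg'
      obtain ⟨v, hv, hv0⟩ := Submodule.exists_mem_ne_zero_of_ne_bot
        (fun e : L.1 = ⊥ => by simp [Line, e] at hL)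
      have hstab : ∀ g : MulAction.stabilizer G L, ∃ μ : k, ρ g v = μ • v := fun g => by
        obtain ⟨μ, hμ⟩ := hval g L.1 hL ((hfix g L).mp g.2)
        exact ⟨μ, hμ v hv⟩
      choose ν hν using hstab
      let f : MulAction.stabilizer G L →* k :=
        { toFun := ν
          map_one' := smul_left_injective k hv0
            (show ν 1 • v = (1 : k) • v by rw [← hν, one_smul]; simp)
          map_mul' := fun a b => smul_left_injective k hv0 (show ν (a * b) • v = (ν a * ν b) • v by
            rw [← hν, Subgroup.coe_mul, map_mul, Module.End.mul_apply, hν, map_smul, hν, smul_smul,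
              mul_comm]) }
      have hfi : Function.Injective f := by
        rw [injective_iff_map_eq_one]
        intro g hg
        by_contra hg1
        refine hv0 (h g (fun e => hg1 (Subtype.ext e)) v ?_)
        rw [hν, show ν g = 1 from hg, one_smul]
      have := isCyclic_of_injective_ringHom f hfi
      rw [hS]
      refine ⟨isCyclic_of_surjective _
        ((QuotientGroup.mk' Z).subgroupMap_surjective (MulAction.stabilizer G L)), fun hbot => hg₀ ?_⟩
      rw [← QuotientGroup.eq_one_iff, ← Subgroup.mem_bot, ← hbot]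
      exact ⟨g₀, (hfix g₀ L).mpr hst₀, rfl⟩
    · rw [eq_top_iff, ← Subgroup.map_top_of_surjective _ (QuotientGroup.mk'_surjective Z), ← hT,
        MonoidHom.map_closure, Subgroup.closure_le]
      rintro _ ⟨t, ht, rfl⟩
      by_cases ht1 : t = 1
      · rw [ht1, map_one]; exact one_mem _
      refine Subgroup.subset_closure (orderOf_eq_prime ?_ ?_)
      · rw [← map_pow, pow_succ, pow_two, hT3 t ht, map_one]
      · rw [ne_eq, QuotientGroup.mk'_apply, QuotientGroup.eq_one_iff]
        exact hx3 t (hT3 t ht) ht1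
    · intro hc
      have h1 := hc (x : G ⧸ Z) a
      rw [← QuotientGroup.mk_mul, ← QuotientGroup.mk_mul, QuotientGroup.eq] at h1
      have hm : x * a * x⁻¹ * a⁻¹ ∈ Z := by
        have h2 := hZn.conj_mem _ h1 (x * a)
        have h3 : x * a * ((x * a)⁻¹ * (a * x)) * (x * a)⁻¹ = (x * a * x⁻¹ * a⁻¹)⁻¹ := by group
        rw [h3] at h2
        exact (Subgroup.inv_mem_iff Z).mp h2
      set z := x * a * x⁻¹ * a⁻¹ with hz
      have hza : z * a = x * a * x⁻¹ := by rw [hz]; group
      have hzz : z * z * z = z := by rw [hZsq z hm, one_mul]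
      have h3 : (z * a) * (z * a) * (z * a) = z * z * z * (a * a * a) := by
        calc _ = z * (a * z) * (a * z) * a := by simp only [mul_assoc]
          _ = z * (z * a) * (z * a) * a := by rw [hcentral z hm a]
          _ = z * z * (a * z) * (a * a) := by simp only [mul_assoc]
          _ = z * z * (z * a) * (a * a) := by rw [hcentral z hm a]
          _ = _ := by simp only [mul_assoc]
      have h4 : (z * a) * (z * a) * (z * a) = 1 := by
        rw [hza]
        calc _ = x * (a * a * a) * x⁻¹ := by group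
          _ = 1 := by rw [ha, mul_one, mul_inv_cancel]
      rw [h3, ha, mul_one, hzz] at h4
      exact hna (by rw [hz, mul_inv_eq_one, mul_inv_eq_iff_eq_mul] at h4; exact h4)
  obtain ⟨θ, hθ⟩ := key
  exact ⟨θ.comp (QuotientGroup.mk' Z), fun g hg => hZsq g
    ((QuotientGroup.eq_one_iff g).mp (hθ (hg.trans (map_one θ).symm)))⟩

omit [IsAlgClosed k] [FiniteDimensional k V] [Finite G] in
/-- The plane spanned by `w` and `a w` is invariant. -/
theorem plane_invariant {X A : Module.End k V} {c μ : k} {w : V}
    (hA : A * A + A + 1 = 0) (hc : X * A + A * X + X + A = c • 1) (hw : X w = μ • w)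
    {f : Module.End k V} (hf : f ∈ Algebra.adjoin k ({X, A} : Set (Module.End k V))) :
    ∀ v ∈ Submodule.span k ({w, A w} : Set V), f v ∈ Submodule.span k ({w, A w} : Set V) := by
  set P := Submodule.span k ({w, A w} : Set V) with hP
  have h1 : w ∈ P := Submodule.subset_span (by simp)
  have h2 : A w ∈ P := Submodule.subset_span (by simp)
  induction hf using Algebra.adjoin_induction with
  | mem g hg =>
    suffices P ≤ P.comap g from fun v hv => this hv
    refine Submodule.span_le.mpr ?_
    rintro v (rfl | rfl) <;> show g _ ∈ P <;> rcases hg with rfl | rfl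
    · rw [hw]; exact P.smul_mem μ h1
    · exact h2
    · have := LinearMap.congr_fun hc w
      simp only [LinearMap.add_apply, Module.End.mul_apply, LinearMap.smul_apply,
        Module.End.one_apply, hw, map_smul] at this
      have e : g (A w) = c • w - μ • A w - μ • w - A w := by rw [← this]; abel
      rw [e]
      exact P.sub_mem (P.sub_mem (P.sub_mem (P.smul_mem c h1) (P.smul_mem μ h2)) (P.smul_mem μ h1)) h2
    · have := LinearMap.congr_fun hA w
      simp only [LinearMap.add_apply, Module.End.mul_apply, Module.End.one_apply,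
        LinearMap.zero_apply] at this
      have e : g (g w) = -(g w) - w := by rw [← sub_eq_zero, ← this]; abel
      rw [e]
      exact P.sub_mem (P.neg_mem h2) h1
  | algebraMap r => intro v hv; exact P.smul_mem r hv
  | add f g _ _ hf hg => intro v hv; exact P.add_mem (hf v hv) (hg v hv)
  | mul f g _ _ hf hg => intro v hv; exact hf _ (hg v hv)

/-- A fixed-point-free group generated by elements of order 3 inside a quaternion algebra. -/
theorem exists_embedding_of_adjoin [Nontrivial V] (h : IsFpf ρ) {T : Set G}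
    (hT : Subgroup.closure T = ⊤) (hT3 : ∀ t ∈ T, t * t * t = 1) {x a : G} (hx : x * x * x = 1)
    (hx1 : x ≠ 1) (ha : a * a * a = 1) (hna : x * a ≠ a * x) {c : k}
    (hc : ρ x * ρ a + ρ a * ρ x + ρ x + ρ a = c • 1)
    (hmem : ∀ t ∈ T, ρ t ∈ Algebra.adjoin k ({ρ x, ρ a} : Set (Module.End k V))) :
    ∃ θ : G →* alternatingGroup (Fin 5), ∀ g, θ g = 1 → g * g = 1 := by
  have ha1 : a ≠ 1 := fun e => hna (by simp [e])
  obtain ⟨μ, hμ⟩ := Module.End.exists_eigenvalue (ρ x)
  obtain ⟨w, hw, hw0⟩ := Submodule.exists_mem_ne_zero_of_ne_bot hμ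
  rw [Module.End.mem_eigenspace_iff] at hw
  set P := Submodule.span k ({w, ρ a w} : Set V) with hP
  have hinv : ∀ g : G, ∀ v ∈ P, ρ g v ∈ P := by
    intro g
    have hg : g ∈ Subgroup.closure T := hT ▸ Subgroup.mem_top g
    refine Subgroup.closure_induction (p := fun g _ => ∀ v ∈ P, ρ g v ∈ P) ?_ ?_ ?_ ?_ hg
    · exact fun t ht => plane_invariant (h.cube ha ha1) hc hw (hmem t ht)
    · intro v hv; rwa [map_one]
    · intro y z _ _ hy hz v hv
      rw [map_mul]
      exact hy _ (hz v hv)
    · intro y _ hy v hv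
      have hfin : P.map (ρ y) = P := by
        refine Submodule.eq_of_le_of_finrank_le (by rintro _ ⟨u, hu, rfl⟩; exact hy u hu) ?_
        refine (Submodule.equivMapOfInjective _ ?_ P).finrank_eq.le
        exact Function.LeftInverse.injective (g := ρ y⁻¹) fun u => by
          rw [← Module.End.mul_apply, ← map_mul, inv_mul_cancel, map_one, Module.End.one_apply]
      obtain ⟨u, hu, rfl⟩ := hfin.symm ▸ hv
      rwa [← Module.End.mul_apply, ← map_mul, inv_mul_cancel, map_one, Module.End.one_apply]
  let ρ' : G →* Module.End k P :=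
    { toFun := fun g => (ρ g).restrict (hinv g)
      map_one' := by ext v; simp [LinearMap.restrict_apply]
      map_mul' := fun g g' => by ext v; simp [LinearMap.restrict_apply] }
  have hw' : w ∈ P := Submodule.subset_span (by simp)
  have hf : IsFpf ρ' := fun g hg v hv => Subtype.ext (h g hg v (congrArg Subtype.val hv))
  have : Nontrivial P := Submodule.nontrivial_iff_ne_bot.mpr fun e => hw0 (by simpa [e] using hw')
  have hle : Module.finrank k P ≤ 2 :=
    by classical
      have := finrank_span_finset_le_card (R := k) ({w, ρ a w} : Finset V)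
      rw [Finset.coe_pair] at this
      exact this.trans Finset.card_le_two
  have hpos := Module.finrank_pos (R := k) (M := P)
  have hrank : Module.finrank k P = 2 := by
    by_contra hne
    obtain ⟨v, hv0, hv⟩ := (finrank_eq_one_iff' (K := k) (V := P)).mp (by omega)
    refine hna (hf.injective (LinearMap.ext fun u => ?_))
    obtain ⟨r, rfl⟩ := hv u
    obtain ⟨r₁, h₁⟩ := hv (ρ' x v)
    obtain ⟨r₂, h₂⟩ := hv (ρ' a v)
    rw [map_mul, map_mul, Module.End.mul_apply, Module.End.mul_apply, map_smul, map_smul, map_smul,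
      map_smul, ← h₁, ← h₂, map_smul, map_smul, ← h₁, ← h₂, smul_smul, smul_smul, smul_smul,
      smul_smul]
    congr 1
    ring
  exact exists_embedding_of_finrank_two hf hrank hT hT3 hx hx1 ha hna

end Cfsg.Agent.H21.Zass
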