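import Cfsg.Agent.H21.Zassenhaus.Algebra
import Cfsg.Agent.H21.Zassenhaus.TwoDim

/-!
Irreducible fixed-point-free groups generated by few elements of order 3 lie in a quaternion algebra.
-/

namespace Cfsg.Agent.H21.Zass

section Alg

variable {k : Type*} [Field k] {A : Type*} [Ring A] [Algebra k A]

/-- The quantity `x y + y x + x + y`. -/
def cval (x y : A) : A := x * y + y * x + x + y

theorem cval_comm (x y : A) : cval x y = cval y x := by simp only [cval]; abel

theorem commute_cval_right {y : A} (hy : y * y + y + 1 = 0) (x : A) : Commute (cval x y) y := by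
  rw [cval_comm]; exact commute_cval hy x

/-- A cval commutes with a third element having scalar cvals against both. -/
theorem commute_cval_third {x a b : A} {c c' : k} (ha : cval x a = c • 1) (hb : cval x b = c' • 1) :
    Commute (cval a b) x := by
  have h : cval a b * x - x * cval a b =
      a * cval x b + b * cval x a - cval x a * b - cval x b * a := by
    simp only [cval]; noncomm_ring
  rw [ha, hb] at h
  simp only [mul_smul_comm, smul_mul_assoc, mul_one, one_mul] at h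
  exact sub_eq_zero.mp (h.trans (by abel))

theorem uvec_anticomm_scalar {x y : A} {c : k} (h : cval x y = c • 1) :
    (2 * x + 1) * (2 * y + 1) + (2 * y + 1) * (2 * x + 1) = (4 * c + 2) • (1 : A) := by
  rw [uvec_anticomm, ← cval, h, add_smul, mul_smul, ← Algebra.algebraMap_eq_smul_one (2 : k),
    map_ofNat, Algebra.smul_def (4 : k), map_ofNat]

theorem commute_of_uvec (h2 : (2 : k) ≠ 0) {s x : A} (h : Commute s (2 * x + 1)) : Commute s x := by
  have e : (2 : k) • (s * x - x * s) = 0 := by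
    rw [Algebra.smul_def, map_ofNat, ← sub_eq_zero.mpr h.eq]; noncomm_ring
  exact sub_eq_zero.mp ((smul_eq_zero.mp e).resolve_left h2)

theorem mem_of_uvec_mem (h2 : (2 : k) ≠ 0) {S : Subalgebra k A} {x : A} (h : 2 * x + 1 ∈ S) :
    x ∈ S := by
  have e : (2 : k)⁻¹ • ((2 * x + 1) - 1) = x := by
    rw [add_sub_cancel_right, ← map_ofNat (algebraMap k A) 2, ← Algebra.smul_def, smul_smul,
      inv_mul_cancel₀ h2, one_smul]
  exact e ▸ S.smul_mem (S.sub_mem h S.one_mem) _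

theorem uvec_mem {S : Subalgebra k A} {x : A} (h : x ∈ S) : 2 * x + 1 ∈ S := by
  rw [two_mul]; exact S.add_mem (S.add_mem h h) S.one_mem

theorem disc_eq {c : k} (hc : c * c + c = 0) : (4 * c + 2) ^ 2 - 36 = -32 := by
  linear_combination 16 * hc

theorem disc_ne (h2 : (2 : k) ≠ 0) {c : k} (hc : c * c + c = 0) : (4 * c + 2) ^ 2 - 36 ≠ 0 := by
  rw [disc_eq hc, show (-32 : k) = -(2 ^ 5) by norm_num]
  exact neg_ne_zero.mpr (pow_ne_zero 5 h2)

variable {X A₁ B : A} {c : k}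

/-- An element of scalar anticommutators against `u`, `v`, `N` is in the quaternion algebra. -/
theorem mem_adjoin_of_anticomm (h2 : (2 : k) ≠ 0) (hX : X * X + X + 1 = 0)
    (hA : A₁ * A₁ + A₁ + 1 = 0) (hc : cval X A₁ = c • 1) (hc0 : c * c + c = 0) {a b d : k}
    (ha : cval B X = a • 1) (hb : cval B A₁ = b • 1)
    (hd : (2 * B + 1) * nvec (2 * X + 1) (2 * A₁ + 1) + nvec (2 * X + 1) (2 * A₁ + 1) * (2 * B + 1) =
      d • (1 : A)) :
    B ∈ Algebra.adjoin k ({X, A₁} : Set A) := by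
  refine mem_of_uvec_mem h2 ?_
  rw [mem_span_of_anticomm (uvec_sq hX) (uvec_sq hA) (uvec_anticomm_scalar hc) (disc_ne h2 hc0) h2
    (uvec_anticomm_scalar ha) (uvec_anticomm_scalar hb) hd]
  have hu := uvec_mem (Algebra.subset_adjoin (R := k) (by simp : X ∈ ({X, A₁} : Set A)))
  have hv := uvec_mem (Algebra.subset_adjoin (R := k) (by simp : A₁ ∈ ({X, A₁} : Set A)))
  refine Subalgebra.add_mem _ (Subalgebra.add_mem _ (Subalgebra.smul_mem _ hu _)
    (Subalgebra.smul_mem _ hv _)) (Subalgebra.smul_mem _ ?_ _)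
  exact Subalgebra.sub_mem _ (Subalgebra.mul_mem _ hu hv) (Subalgebra.mul_mem _ hv hu)

/-- The value forced by the two fifth-root relations. -/
theorem golden (h2 : (2 : k) ≠ 0) {d e₁ e₂ : k} (he₁ : e₁ * e₁ = 1) (he₂ : e₂ * e₂ = 1)
    (r₁ : (d + 1) * (d + 1) + e₁ * (d + 1) = 1) (r₂ : (-d) * (-d) + e₂ * (-d) = 1) :
    d * d + d = 1 := by
  rcases mul_self_eq_one_iff.mp he₂ with rfl | rfl
  · rcases mul_self_eq_one_iff.mp he₁ with rfl | rfl
    · have hd : 2 * d + 1 = 0 :=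
        (mul_eq_zero.mp (show (2 : k) * (2 * d + 1) = 0 by linear_combination r₁ - r₂)).resolve_left h2
      exact absurd (show (1 : k) = 0 by linear_combination (2 * d - 3) * hd - 4 * r₂) one_ne_zero
    · linear_combination r₁
  · linear_combination r₂

end Alg

section Rep

variable {k : Type*} [Field k] [IsAlgClosed k] {V : Type*} [AddCommGroup V] [Module k V]
  [FiniteDimensional k V] [Nontrivial V] {G : Type*} [Group G] [Finite G]
  {ρ : G →* Module.End k V}

local notation "E" => Module.End k V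

omit [IsAlgClosed k] [FiniteDimensional k V] [Nontrivial V] [Finite G] in
/-- Scalars are what commute with the generators. -/
theorem scalar_of_commute (hirr : ∀ σ : E, (∀ g, Commute σ (ρ g)) → ∃ μ : k, σ = μ • 1) {T : Set G}
    (hT : Subgroup.closure T = ⊤) {σ : E} (hσ : ∀ t ∈ T, Commute σ (ρ t)) : ∃ μ : k, σ = μ • 1 :=
  hirr σ (commute_of_closure hT hσ)

omit [IsAlgClosed k] [FiniteDimensional k V] [Nontrivial V] [Finite G] in
/-- Three elements with scalar cvals from the first: the third is in the algebra of the others. -/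
theorem triple_mem (hirr : ∀ σ : E, (∀ g, Commute σ (ρ g)) → ∃ μ : k, σ = μ • 1) {x a b : G}
    (hT : Subgroup.closure {x, a, b} = ⊤) (h2 : (2 : k) ≠ 0) (hX : ρ x * ρ x + ρ x + 1 = 0)
    (hA : ρ a * ρ a + ρ a + 1 = 0) (hB : ρ b * ρ b + ρ b + 1 = 0) {c c' : k}
    (hc : cval (ρ x) (ρ a) = c • 1) (hc0 : c * c + c = 0) (hc' : cval (ρ x) (ρ b) = c' • 1) :
    ρ b ∈ Algebra.adjoin k ({ρ x, ρ a} : Set E) := by
  obtain ⟨d, hd⟩ := scalar_of_commute hirr hT (σ := cval (ρ b) (ρ a)) (by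
    rintro t (rfl | rfl | rfl)
    · exact commute_cval_third hc' hc
    · exact commute_cval_right hA _
    · exact commute_cval hB _)
  have hbx : cval (ρ b) (ρ x) = c' • 1 := by rw [cval_comm, hc']
  obtain ⟨ω, hω⟩ := scalar_of_commute hirr hT
    (σ := (2 * ρ b + 1) * nvec (2 * ρ x + 1) (2 * ρ a + 1) +
      nvec (2 * ρ x + 1) (2 * ρ a + 1) * (2 * ρ b + 1)) (by
    rintro t (rfl | rfl | rfl)
    · exact commute_of_uvec h2 (commute_omega_left (uvec_sq hX) (uvec_anticomm_scalar hbx))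
    · exact commute_of_uvec h2 (commute_omega_right (uvec_sq hA) (uvec_anticomm_scalar hd))
    · exact commute_of_uvec h2 (commute_omega_self (uvec_sq hB)))
  exact mem_adjoin_of_anticomm h2 hX hA hc hc0 hbx hd hω

omit [IsAlgClosed k] [FiniteDimensional k V] [Finite G] in
/-- Four elements, the configuration of a pair at angle five. -/
theorem quad_mem (hirr : ∀ σ : E, (∀ g, Commute σ (ρ g)) → ∃ μ : k, σ = μ • 1) {p q₁ q₂ y : G}
    (hT : Subgroup.closure {p, q₁, q₂, y} = ⊤) (h2 : (2 : k) ≠ 0)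
    (hP : ρ p * ρ p + ρ p + 1 = 0) (hQ₁ : ρ q₁ * ρ q₁ + ρ q₁ + 1 = 0)
    (hQ₂ : ρ q₂ * ρ q₂ + ρ q₂ + 1 = 0)
    {c₁ c₂ c₃ c₄ c₅ c₆ : k} (hc₁ : cval (ρ p) (ρ q₁) = c₁ • 1) (h₁ : c₁ * c₁ + c₁ = 0)
    (hc₂ : cval (ρ p) (ρ q₂) = c₂ • 1) (h₂ : c₂ * c₂ + c₂ = 0)
    (hc₃ : cval (ρ p) (ρ y) = c₃ • 1) (hc₄ : cval (ρ q₁) (ρ y) = c₄ • 1)
    (hc₅ : cval (ρ q₂) (ρ y) = c₅ • 1) {M : E}
    (hM : M = ρ p * ρ q₁ * (ρ p * ρ p) ∨ M = (ρ p * ρ p) * ρ q₁ * ρ p)
    (hc₆ : cval (ρ q₂) M = c₆ • 1)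
    (hfive : ∃ e₁ e₂ : k, e₁ * e₁ = 1 ∧ e₂ * e₂ = 1 ∧
      (cval (ρ q₁) (ρ q₂) + 1) * (cval (ρ q₁) (ρ q₂) + 1) + e₁ • (cval (ρ q₁) (ρ q₂) + 1) = 1 ∧
      (-cval (ρ q₁) (ρ q₂)) * (-cval (ρ q₁) (ρ q₂)) + e₂ • (-cval (ρ q₁) (ρ q₂)) = 1) :
    ρ q₂ ∈ Algebra.adjoin k ({ρ p, ρ q₁} : Set E) ∧ ρ y ∈ Algebra.adjoin k ({ρ p, ρ q₁} : Set E) := by
  obtain ⟨d, hd⟩ := scalar_of_commute hirr hT (σ := cval (ρ q₁) (ρ q₂)) (by
    rintro t (rfl | rfl | rfl | rfl)
    · exact commute_cval_third hc₁ hc₂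
    · exact commute_cval hQ₁ _
    · exact commute_cval_right hQ₂ _
    · exact commute_cval_third (c := c₄) (c' := c₅) (by rw [cval_comm, hc₄]) (by rw [cval_comm, hc₅]))
  have hgold : d * d + d = 1 := by
    obtain ⟨e₁, e₂, he₁, he₂, r₁, r₂⟩ := hfive
    rw [hd] at r₁ r₂
    refine golden h2 he₁ he₂ ((algebraMap k E).injective ?_) ((algebraMap k E).injective ?_)
    · simpa only [map_add, map_mul, map_one, Algebra.smul_def, mul_one] using r₁
    · simpa only [map_add, map_mul, map_one, map_neg, Algebra.smul_def, mul_one] using r₂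
  set u := 2 * ρ p + 1 with hu
  set v := 2 * ρ q₁ + 1 with hv
  set s := 2 * ρ q₂ + 1 with hs
  set t := 2 * ρ y + 1 with ht
  have uv := uvec_anticomm_scalar hc₁
  have su := uvec_anticomm_scalar (show cval (ρ q₂) (ρ p) = c₂ • 1 by rw [cval_comm, hc₂])
  have sv := uvec_anticomm_scalar (show cval (ρ q₂) (ρ q₁) = d • 1 by rw [cval_comm, hd])
  have tu := uvec_anticomm_scalar (show cval (ρ y) (ρ p) = c₃ • 1 by rw [cval_comm, hc₃])
  have tv := uvec_anticomm_scalar (show cval (ρ y) (ρ q₁) = c₄ • 1 by rw [cval_comm, hc₄])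
  have ts := uvec_anticomm_scalar (show cval (ρ y) (ρ q₂) = c₅ • 1 by rw [cval_comm, hc₅])
  have sM := uvec_anticomm_scalar hc₆
  rw [← hu, ← hv] at uv
  rw [← hu, ← hs] at su
  rw [← hv, ← hs] at sv
  rw [← hu, ← ht] at tu
  rw [← hv, ← ht] at tv
  rw [← hs, ← ht] at ts
  rw [← hs] at sM
  obtain ⟨ω, hω⟩ : ∃ ω : k, s * nvec u v + nvec u v * s = ω • (1 : E) := by
    obtain ⟨n₁, n₂⟩ := conj_uvec (a := ρ q₁) hP uv
    rw [← hu, ← hv] at n₁ n₂
    set M' := 2 * M + 1 with hM'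
    have key : ∀ N : E, 4 * M' + 2 * v + (4 * c₁ + 2) • u = N →
        s * N + N * s = (4 * (4 * c₆ + 2) + 2 * (4 * d + 2) + (4 * c₁ + 2) * (4 * c₂ + 2)) • (1 : E) := by
      intro N hN
      have e : s * N + N * s =
          4 * (s * M' + M' * s) + 2 * (s * v + v * s) + (4 * c₁ + 2) • (s * u + u * s) := by
        rw [← hN]
        simp only [mul_add, add_mul, mul_smul_comm, smul_mul_assoc, smul_add]
        noncomm_ring
      rw [e, sM, sv, su, ← map_ofNat (algebraMap k E) 4, ← map_ofNat (algebraMap k E) 2,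
        ← Algebra.smul_def, ← Algebra.smul_def, smul_smul, smul_smul, smul_smul, ← add_smul,
        ← add_smul]
    rcases hM with rfl | rfl
    · exact ⟨_, by rw [eq_neg_iff_add_eq_zero] at n₁
                   rw [← neg_inj, ← neg_smul, neg_add, ← mul_neg, ← neg_mul]
                   rw [key (-nvec u v) (eq_neg_of_add_eq_zero_left n₁), neg_neg]⟩
    · exact ⟨_, key _ n₂⟩
  have hmem : ρ q₂ ∈ Algebra.adjoin k ({ρ p, ρ q₁} : Set E) :=
    mem_adjoin_of_anticomm h2 hP hQ₁ hc₁ h₁ (by rw [cval_comm, hc₂]) (by rw [cval_comm, hd]) hω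
  refine ⟨hmem, ?_⟩
  have hspan := mem_span_of_anticomm (uvec_sq hP) (uvec_sq hQ₁) uv (disc_ne h2 h₁) h2 su sv hω
  generalize hγ : 4 * c₁ + 2 = γ at hspan uv
  generalize ha : 4 * c₂ + 2 = a at hspan su
  generalize hb : 4 * d + 2 = b at hspan sv
  have hD : γ ^ 2 - 36 ≠ 0 := hγ ▸ disc_ne h2 h₁
  set α := (6 * a + γ * b) / (γ ^ 2 - 36) with hα
  set β := (γ * a + 6 * b) / (γ ^ 2 - 36) with hβ
  set δ := ω / (2 * (γ ^ 2 - 36)) with hδ
  rw [← hu, ← hv] at hspan
  have hδ0 : δ ≠ 0 := by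
    intro h0
    rw [h0, zero_smul, add_zero] at hspan
    have e : α • (s * u + u * s) + β • (s * v + v * s) = 2 * (s * s) := by
      conv_rhs => rw [two_mul]; arg 1; arg 2; rw [hspan]
      conv_rhs => arg 2; arg 1; rw [hspan]
      simp only [mul_add, add_mul, mul_smul_comm, smul_mul_assoc, smul_add]
      abel
    rw [su, sv, uvec_sq hQ₂, ← map_ofNat (algebraMap k E) 2, ← map_ofNat (algebraMap k E) 3, ← map_neg,
      ← map_mul, Algebra.algebraMap_eq_smul_one, smul_smul, smul_smul, ← add_smul] at e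
    have e' := smul_left_injective k (one_ne_zero (α := E)) e
    rw [hα, hβ] at e'
    field_simp at e'
    have hγ2 : γ ^ 2 = 4 := by rw [← hγ]; linear_combination 16 * h₁
    have ha2 : a ^ 2 = 4 := by rw [← ha]; linear_combination 16 * h₂
    have hb2 : b ^ 2 = 20 := by rw [← hb]; linear_combination 16 * hgold
    have h24 : 2 * (γ * a * b - 24) = 0 := by
      linear_combination e' - 6 * ha2 - 6 * hb2 - 6 * hγ2
    have h24' : γ * a * b = 24 := sub_eq_zero.mp ((mul_eq_zero.mp h24).resolve_left h2)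
    have h256 : (2 : k) ^ 8 = 0 := by
      linear_combination -(γ * a * b + 24) * h24' + a ^ 2 * b ^ 2 * hγ2 + 4 * b ^ 2 * ha2 + 16 * hb2
    exact pow_ne_zero 8 h2 h256
  have hN : nvec u v = δ⁻¹ • (s - α • u - β • v) := by
    conv_rhs => rw [hspan]
    rw [show α • u + β • v + δ • nvec u v - α • u - β • v = δ • nvec u v by abel, smul_smul,
      inv_mul_cancel₀ hδ0, one_smul]
  refine mem_adjoin_of_anticomm h2 hP hQ₁ hc₁ h₁ (by rw [cval_comm, hc₃]) (by rw [cval_comm, hc₄])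
    (d := δ⁻¹ * ((4 * c₅ + 2) - α * (4 * c₃ + 2) - β * (4 * c₄ + 2))) ?_
  rw [← hu, ← hv, ← ht, hN, mul_smul_comm, smul_mul_assoc, ← smul_add]
  have e : t * (s - α • u - β • v) + (s - α • u - β • v) * t =
      (t * s + s * t) - α • (t * u + u * t) - β • (t * v + v * t) := by
    simp only [mul_sub, sub_mul, mul_smul_comm, smul_mul_assoc, smul_add]
    abel
  rw [e, ts, tu, tv, smul_smul, smul_smul, ← sub_smul, ← sub_smul, smul_smul]

end Rep

end Cfsg.Agent.H21.Zass
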